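import Cfsg.Agent.Lib.JComp.Comp
import Cfsg.Agent.Lib.PReduced
import Cfsg.Agent.S2858

/-!
The amalgam of degree three, stated for two subgroups of an ambient group.
-/

set_option autoImplicit false
set_option linter.unusedSectionVars false
set_option linter.style.haveILetI false

namespace CfsgLib.SelfSix

open Cfsg

universe u

variable {G : Type u} [Group G]

/-- What the amalgam needs of each of its two groups. -/
structure Side (P R : Subgroup G) : Prop where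
  le : R ≤ P
  two : IsPGroup 2 R
  max : ∀ Q : Subgroup G, IsPGroup 2 Q → Q ≤ P → R ≤ Q → Q = R
  cent : ∀ p ∈ P, (∀ o ∈ pCoreOf 2 P, Commute p o) → p ∈ pCoreOf 2 P
  quot : Nonempty (P ⧸ pCore 2 P ≃* Equiv.Perm (Fin 3))
  act : ∃ a ∈ R, a * a = 1 ∧ (∀ r ∈ R, Commute a r) ∧ ∃ p ∈ P, ¬ Commute p a

variable [Finite G]

theorem sfour {P₁ P₂ R : Subgroup G} (g₁ : Side P₁ R) (g₂ : Side P₂ R) (hR : R = P₁ ⊓ P₂)
    (hcore : ∀ M : Subgroup G, M ≤ R → (∀ p ∈ P₁, ∀ m ∈ M, p * m * p⁻¹ ∈ M) →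
      (∀ p ∈ P₂, ∀ m ∈ M, p * m * p⁻¹ ∈ M) → M = ⊥) :
    (Nonempty (P₁ ≃* Equiv.Perm (Fin 4)) ∧ Nonempty (P₂ ≃* Equiv.Perm (Fin 4))) ∨
      (Nonempty (P₁ ≃* Multiplicative (ZMod 2) × Equiv.Perm (Fin 4)) ∧
        Nonempty (P₂ ≃* Multiplicative (ZMod 2) × Equiv.Perm (Fin 4))) := by
  classical
  haveI : Fact (Nat.Prime 2) := ⟨Nat.prime_two⟩
  set X := P₁ ⊔ P₂
  have hX : R ≤ X := g₁.le.trans le_sup_left
  have hsub : ∀ P ∈ ({P₁.subgroupOf X, P₂.subgroupOf X} : Set (Subgroup X)),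
      ∃ L : Subgroup G, L ≤ X ∧ Side L R ∧ P = L.subgroupOf X := by
    rintro P (rfl | rfl)
    · exact ⟨P₁, le_sup_left, g₁, rfl⟩
    · exact ⟨P₂, le_sup_right, g₂, rfl⟩
  have key := Cfsg.Agent.S2858.result (P₁.subgroupOf X) (P₂.subgroupOf X)
    (by
      apply Subgroup.map_injective X.subtype_injective
      rw [Subgroup.map_sup, Subgroup.subgroupOf_map_subtype, Subgroup.subgroupOf_map_subtype,
        inf_eq_left.mpr le_sup_left, inf_eq_left.mpr le_sup_right, ← MonoidHom.range_eq_map, Subgroup.range_subtype])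
    (R.subgroupOf X) (by rw [hR]; exact Subgroup.comap_inf _ _ _)
    (fun P hP => by
      obtain ⟨L, hLX, hL, rfl⟩ := hsub P hP
      have e : pCoreOf 2 L = (pCoreOf 2 (L.subgroupOf X)).map X.subtype := by
        rw [← CfsgLib.JComp.pCoreOf_map X.subtype X.subtype_injective, Subgroup.subgroupOf_map_subtype,
          inf_eq_left.mpr hLX]
      rintro x ⟨hxL, hxc⟩
      have h1 : (x : G) ∈ pCoreOf 2 L := hL.cent x hxL fun o ho => by
        rw [e] at ho
        obtain ⟨o', ho', rfl⟩ := ho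
        exact (congrArg Subtype.val (Subgroup.mem_centralizer_iff.mp hxc o' ho')).symm
      rw [e] at h1
      obtain ⟨x', hx', he⟩ := h1
      exact Subtype.ext he ▸ hx')
    (fun P hP => by
      obtain ⟨L, hLX, hL, rfl⟩ := hsub P hP
      have hp : IsPGroup 2 ((R.subgroupOf X).subgroupOf (L.subgroupOf X)) :=
        (hL.two.of_equiv (Subgroup.subgroupOfEquivOfLe hX).symm).of_equiv
          (Subgroup.subgroupOfEquivOfLe (H := R.subgroupOf X) (K := L.subgroupOf X) (Subgroup.comap_mono hL.le)).symm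
      obtain ⟨S, hS⟩ := hp.exists_le_sylow
      refine ⟨S, le_antisymm (fun y hy => ?_) hS⟩
      set Q := ((S : Subgroup (L.subgroupOf X)).map (L.subgroupOf X).subtype).map X.subtype
      have hQ : Q = R := hL.max Q ((S.2.map _).map _) (by
          rintro _ ⟨_, ⟨v, -, rfl⟩, rfl⟩
          exact v.2)
        (fun r hr => ⟨⟨r, hX hr⟩, ⟨⟨⟨r, hX hr⟩, hL.le hr⟩, hS hr, rfl⟩, rfl⟩)
      show ((y : X) : G) ∈ R
      exact hQ ▸ (⟨_, ⟨y, hy, rfl⟩, rfl⟩ : ((y : X) : G) ∈ Q))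
    (fun M hM hMR => by
      refine (Subgroup.map_eq_bot_iff_of_injective M X.subtype_injective).1 (hcore _ ?_ ?_ ?_)
      · rintro _ ⟨m, hm, rfl⟩; exact hMR hm
      · rintro p hp _ ⟨m, hm, rfl⟩
        exact ⟨_, hM.conj_mem m hm ⟨p, le_sup_left (b := P₂) hp⟩, rfl⟩
      · rintro p hp _ ⟨m, hm, rfl⟩
        exact ⟨_, hM.conj_mem m hm ⟨p, le_sup_right (a := P₁) hp⟩, rfl⟩)
    (fun P hP => by
      obtain ⟨L, hLX, hL, rfl⟩ := hsub P hP
      obtain ⟨i⟩ := hL.quot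
      exact ⟨(QuotientGroup.congr (pCore 2 ↥(L.subgroupOf X)) (pCore 2 ↥L) (Subgroup.subgroupOfEquivOfLe hLX)
        (CfsgLib.pCore_map_equiv 2 _)).trans i⟩)
    (fun P hP => by
      obtain ⟨L, hLX, hL, rfl⟩ := hsub P hP
      obtain ⟨a, haR, haa, hac, p, hp, hpa⟩ := hL.act
      intro hle
      refine hpa ?_
      have ha : (⟨a, hX haR⟩ : X) ∈ omegaOne 2 (R.subgroupOf X ⊓ Subgroup.centralizer (R.subgroupOf X : Set X)) :=
        CfsgLib.PReduced.mem_omegaZ.2 ⟨haR, fun t ht => Subtype.ext (hac _ ht).symm.eq,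
          Subtype.ext (by rw [SubmonoidClass.coe_pow, pow_two]; exact haa)⟩
      exact (congrArg Subtype.val (Subgroup.mem_centralizer_iff.1
        (hle (show (⟨p, hLX hp⟩ : X) ∈ L.subgroupOf X from hp)) _ ha)).symm)
  exact key.imp
    (fun h => ⟨h.1.map fun e => (Subgroup.subgroupOfEquivOfLe le_sup_left).symm.trans e,
      h.2.map fun e => (Subgroup.subgroupOfEquivOfLe le_sup_right).symm.trans e⟩)
    (fun h => ⟨h.1.map fun e => (Subgroup.subgroupOfEquivOfLe le_sup_left).symm.trans e,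
      h.2.map fun e => (Subgroup.subgroupOfEquivOfLe le_sup_right).symm.trans e⟩)

end CfsgLib.SelfSix
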