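import Cfsg.Agent.S0215
import Cfsg.Agent.Lib.Basic

/-!
Simple groups with one class of involutions and a self-centralising element of order six: the standing
facts about the centraliser of an involution.

Blueprint: `blueprint/S3243.md`.
-/

set_option autoImplicit false
set_option linter.unusedSectionVars false
set_option linter.style.haveILetI false

namespace CfsgLib.SelfSix

open Cfsg

universe u

variable {G : Type u} [Group G]

/-- One class of involutions; `u` of order two and `w` of order three generate their common centraliser. -/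
structure Hyp (G : Type u) [Group G] (z w : G) : Prop where
  one : ∀ x y : G, orderOf x = 2 → orderOf y = 2 → IsConj x y
  hz : orderOf z = 2
  hw : orderOf w = 3
  hzw : Commute z w
  cent : ∀ g : G, Commute g z → Commute g w → ∃ i j : ℕ, g = z ^ i * w ^ j

/-- The centraliser of an element. -/
abbrev cen (x : G) : Subgroup G := Subgroup.centralizer ({x} : Set G)

theorem mem_cen {x g : G} : g ∈ cen x ↔ Commute g x := Subgroup.mem_centralizer_singleton_iff

theorem self_cen (x : G) : x ∈ cen x := mem_cen.2 (Commute.refl x)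

theorem orderOf_conj (g x : G) : orderOf (g * x * g⁻¹) = orderOf x :=
  orderOf_injective (MulAut.conj g).toMonoidHom (MulAut.conj g).injective x

theorem commute_conj {a b : G} (g : G) (h : Commute a b) : Commute (g * a * g⁻¹) (g * b * g⁻¹) :=
  h.map (MulAut.conj g).toMonoidHom

theorem mul_self_of_two {x : G} (hx : orderOf x = 2) : x * x = 1 := by
  rw [← pow_two, ← hx, pow_orderOf_eq_one]

theorem inv_of_two {x : G} (hx : orderOf x = 2) : x⁻¹ = x := inv_eq_of_mul_eq_one_right (mul_self_of_two hx)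

theorem ne_one_of_two {x : G} (hx : orderOf x = 2) : x ≠ 1 := fun e => by simp [e] at hx

theorem orderOf_two {x : G} (h : x * x = 1) (h1 : x ≠ 1) : orderOf x = 2 :=
  haveI := Fact.mk Nat.prime_two
  orderOf_eq_prime (by rw [pow_two, h]) h1

theorem mem_zp_two {x g : G} (hx : orderOf x = 2) : g ∈ Subgroup.zpowers x ↔ g = 1 ∨ g = x := by
  constructor
  · intro h
    obtain ⟨k, rfl⟩ := Subgroup.mem_zpowers_iff.1 h
    rw [← zpow_mod_orderOf, hx]
    obtain e | e : k % 2 = 0 ∨ k % 2 = 1 := Int.emod_two_eq_zero_or_one k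
    · exact Or.inl (by rw [show k % ((2 : ℕ) : ℤ) = 0 from e, zpow_zero])
    · exact Or.inr (by rw [show k % ((2 : ℕ) : ℤ) = 1 from e, zpow_one])
  · rintro (rfl | rfl)
    · exact one_mem _
    · exact Subgroup.mem_zpowers _

theorem isPGroup_zp {p : ℕ} {x : G} (hx : orderOf x = p) : IsPGroup p (Subgroup.zpowers x) :=
  IsPGroup.of_card (n := 1) (by rw [Nat.card_zpowers, hx, pow_one])

/-- The data from an element of order six. -/
theorem hyp_of_self {t : G} (h1 : ∀ x y : G, orderOf x = 2 → orderOf y = 2 → IsConj x y) (ht : orderOf t = 6)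
    (hC : Subgroup.centralizer ({t} : Set G) = Subgroup.zpowers t) : Hyp G (t ^ 3) (t ^ 2) := by
  have h6 : t ^ 6 = 1 := ht ▸ pow_orderOf_eq_one t
  refine ⟨h1, ?_, ?_, (Commute.refl t).pow_pow 3 2, fun g hg3 hg2 => ?_⟩
  · rw [orderOf_pow_of_dvd (by norm_num) (ht ▸ by norm_num), ht]
  · rw [orderOf_pow_of_dvd (by norm_num) (ht ▸ by norm_num), ht]
  have e : t = t ^ 3 * (t ^ 2) ^ 2 := by
    rw [← pow_mul, ← pow_add, show 3 + 2 * 2 = 6 + 1 from rfl, pow_add, h6, one_mul, pow_one]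
  have hg : Commute g t := e.symm ▸ hg3.mul_right (hg2.pow_right 2)
  have hm : g ∈ Subgroup.zpowers t := hC ▸ mem_cen.2 hg
  have hfin : IsOfFinOrder t := orderOf_pos_iff.1 (by omega)
  obtain ⟨n, rfl⟩ := hfin.mem_powers_iff_mem_zpowers.2 hm
  refine ⟨n, 2 * n, ?_⟩
  show t ^ n = _
  rw [← pow_mul, ← pow_mul, ← pow_add, show 3 * n + 2 * (2 * n) = 6 * n + n by ring, pow_add, pow_mul, h6,
    one_pow, one_mul]

variable {z w : G}

namespace Hyp

variable (H : Hyp G z w)
include H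

theorem z_cen : z ∈ cen z := self_cen z

theorem w_cen : w ∈ cen z := mem_cen.2 H.hzw.symm

theorem cent_two {g : G} (hz : Commute g z) (hw : Commute g w) {k : ℕ} (hg : g ^ 2 ^ k = 1) :
    g = 1 ∨ g = z := by
  obtain ⟨i, j, rfl⟩ := H.cent g hz hw
  have hj : w ^ j = 1 := by
    have h := hg
    rw [(H.hzw.pow_pow i j).mul_pow] at h
    rcases Nat.eq_zero_or_pos k with rfl | hk
    · simp only [pow_zero, pow_one] at h
      have e : w ^ j = (z ^ i)⁻¹ := eq_inv_of_mul_eq_one_right h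
      refine orderOf_eq_one_iff.1 (Nat.eq_one_of_dvd_coprimes (by norm_num : Nat.Coprime 2 3) ?_ ?_)
      · rw [e, orderOf_inv, ← H.hz]
        exact orderOf_pow_dvd i
      · rw [← H.hw]; exact orderOf_pow_dvd j
    have e2 : (z ^ i) ^ 2 ^ k = 1 := by
      rw [← pow_mul, mul_comm, pow_mul]
      obtain ⟨m, rfl⟩ : ∃ m, k = m + 1 := ⟨k - 1, by omega⟩
      rw [pow_succ', pow_mul, pow_two, mul_self_of_two H.hz, one_pow, one_pow]
    rw [e2, one_mul] at h
    exact orderOf_eq_one_iff.1 (Nat.eq_one_of_dvd_coprimes ((by norm_num : Nat.Coprime 2 3).pow_left k)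
      (orderOf_dvd_of_pow_eq_one h) (H.hw ▸ orderOf_pow_dvd j))
  rw [hj, mul_one]
  exact (mem_zp_two H.hz).1 (Subgroup.pow_mem _ (Subgroup.mem_zpowers z) i)

theorem cent_three {g : G} (hz : Commute g z) (hw : Commute g w) (hg : g ^ 3 = 1) :
    g ∈ Subgroup.zpowers w := by
  obtain ⟨i, j, rfl⟩ := H.cent g hz hw
  rcases (mem_zp_two H.hz).1 (Subgroup.pow_mem _ (Subgroup.mem_zpowers z) i) with e | e
  · rw [e, one_mul]; exact Subgroup.pow_mem _ (Subgroup.mem_zpowers w) j
  · exfalso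
    rw [e, (H.hzw.pow_right j).mul_pow, ← pow_mul, mul_comm j, pow_mul,
      show w ^ 3 = 1 from H.hw ▸ pow_orderOf_eq_one w, one_pow, mul_one, pow_succ, pow_two, mul_self_of_two H.hz,
      one_mul] at hg
    exact ne_one_of_two H.hz hg

theorem cent_cases {g : G} (hz : Commute g z) (hw : Commute g w) :
    g ∈ Subgroup.zpowers w ∨ ∃ v ∈ Subgroup.zpowers w, g = z * v := by
  obtain ⟨i, j, rfl⟩ := H.cent g hz hw
  rcases (mem_zp_two H.hz).1 (Subgroup.pow_mem _ (Subgroup.mem_zpowers z) i) with e | e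
  · rw [e, one_mul]; exact Or.inl (Subgroup.pow_mem _ (Subgroup.mem_zpowers w) j)
  · exact Or.inr ⟨_, Subgroup.pow_mem _ (Subgroup.mem_zpowers w) j, by rw [e]⟩

/-- An element of order four squaring to an involution makes `z` a square. -/
theorem sq_root {y : G} (hy : orderOf (y * y) = 2) : ∃ h : G, h ∈ cen z ∧ h * h = z := by
  obtain ⟨g, hg⟩ := isConj_iff.1 (H.one _ _ hy H.hz)
  have e : g * y * g⁻¹ * (g * y * g⁻¹) = z := by rw [← hg]; group
  exact ⟨g * y * g⁻¹, mem_cen.2 (e ▸ (Commute.refl _).mul_right (Commute.refl _)), e⟩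

theorem exists_conj {x : G} (hx : orderOf x = 2) : ∃ g : G, g * x * g⁻¹ = z :=
  isConj_iff.1 (H.one _ _ hx H.hz)

variable [Finite G]

/-- A 3-subgroup of the centraliser containing `w` is `⟨w⟩`. -/
theorem three_sub {P : Subgroup G} (hP : IsPGroup 3 P) (hPC : P ≤ cen z) (hwP : w ∈ P) :
    P = Subgroup.zpowers w := by
  haveI : Fact (Nat.Prime 3) := ⟨Nat.prime_three⟩
  haveI := hP.isNilpotent
  set A : Subgroup P := (Subgroup.zpowers w).subgroupOf P with hA
  by_contra hne
  have hlt : A < ⊤ := lt_top_iff_ne_top.2 fun e => hne (le_antisymm (Subgroup.subgroupOf_eq_top.1 e)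
    (Subgroup.zpowers_le.2 hwP))
  obtain ⟨g, hgN, hgA⟩ := SetLike.exists_of_lt (normalizerCondition_of_isNilpotent A hlt)
  refine hgA (show (g : G) ∈ Subgroup.zpowers w from ?_)
  have hgw : (g : G) * w * (g : G)⁻¹ ∈ Subgroup.zpowers w :=
    (Subgroup.mem_normalizer_iff.1 hgN ⟨w, hwP⟩).1 (show w ∈ Subgroup.zpowers w from Subgroup.mem_zpowers w)
  obtain ⟨k, hk⟩ := hP g
  have hk' : (g : G) ^ 3 ^ k = 1 := congrArg Subtype.val hk
  obtain ⟨n, hn⟩ := mem_powers_iff_mem_zpowers.2 hgw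
  have hit : ∀ m : ℕ, (g : G) ^ m * w * ((g : G) ^ m)⁻¹ = w ^ n ^ m := by
    intro m
    induction m with
    | zero => simp
    | succ m ih =>
      rw [pow_succ', pow_succ, mul_comm (n ^ m) n, pow_mul, show w ^ n = (g : G) * w * (g : G)⁻¹ from hn, conj_pow,
        ← ih]
      group
  have h3 : w ^ 3 = 1 := H.hw ▸ pow_orderOf_eq_one w
  have hn1 : n % 3 = 1 := by
    have h := hit (3 ^ k)
    rw [hk', inv_one, one_mul, mul_one] at h
    have h' : 1 % 3 = n ^ 3 ^ k % 3 := by
      have := pow_inj_mod (x := w) (n := 1) (m := n ^ 3 ^ k)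
      rw [H.hw, pow_one] at this
      exact this.1 h
    rw [Nat.pow_mod] at h'
    obtain e | e | e : n % 3 = 0 ∨ n % 3 = 1 ∨ n % 3 = 2 := by omega
    · rw [e, zero_pow (pow_ne_zero _ three_ne_zero)] at h'; simp at h'
    · exact e
    · obtain ⟨m, hm⟩ : Odd (3 ^ k) := (by decide : Odd 3).pow
      rw [e, hm, pow_succ, pow_mul, Nat.mul_mod, Nat.pow_mod] at h'
      norm_num at h'
  have hc : Commute (g : G) w := by
    have h := (hit 1)
    rw [pow_one, pow_one, ← Nat.div_add_mod n 3, hn1, pow_add, pow_mul, h3, one_pow, one_mul, pow_one] at h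
    exact mul_inv_eq_iff_eq_mul.1 h
  rcases H.cent_cases (mem_cen.1 (hPC g.2)) hc with h | ⟨v, hv, e⟩
  · exact h
  exfalso
  have hz : z ∈ P := by
    have : z = (g : G) * v⁻¹ := by rw [e, mul_inv_cancel_right]
    rw [this]
    exact mul_mem g.2 (inv_mem (Subgroup.zpowers_le.2 hwP hv))
  have := hP ⟨z, hz⟩
  obtain ⟨m, hm⟩ := this
  exact ne_one_of_two H.hz (orderOf_eq_one_iff.1 (Nat.eq_one_of_dvd_coprimes
    ((by norm_num : Nat.Coprime 3 2).pow_left m) (orderOf_dvd_of_pow_eq_one (congrArg Subtype.val hm))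
    (H.hz ▸ dvd_rfl)))

/-- Sylow 3-subgroups of the centraliser have order three. -/
theorem sylow_three (P : Sylow 3 (cen z)) :
    ∃ c ∈ cen z, ∀ x : cen z, x ∈ (P : Subgroup (cen z)) ↔ c * (x : G) * c⁻¹ ∈ Subgroup.zpowers w := by
  haveI : Fact (Nat.Prime 3) := ⟨Nat.prime_three⟩
  obtain ⟨Q, hQ⟩ := (isPGroup_zp (x := (⟨w, H.w_cen⟩ : cen z))
    ((Subgroup.orderOf_mk w H.w_cen).trans H.hw)).exists_le_sylow
  obtain ⟨c, hc⟩ := MulAction.exists_smul_eq (cen z) P Q
  have hQe : (Q : Subgroup (cen z)).map (cen z).subtype = Subgroup.zpowers w :=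
    H.three_sub (Q.2.map _) (Subgroup.map_subtype_le _) ⟨_, hQ (Subgroup.mem_zpowers _), rfl⟩
  refine ⟨c, c.2, fun x => ?_⟩
  have e : x ∈ (P : Subgroup (cen z)) ↔ c * x * c⁻¹ ∈ (Q : Subgroup (cen z)) := by
    rw [← hc, Sylow.coe_subgroup_smul, Subgroup.mem_pointwise_smul_iff_inv_smul_mem]
    simp [MulAut.smul_def, mul_assoc]
  rw [e, ← hQe, ← Subgroup.mem_map_iff_mem (cen z).subtype_injective]
  rfl

/-- Every element of order three commuting with an involution is conjugate to `w` or its inverse, compatibly. -/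
theorem three_conj {x y : G} (hx : orderOf x = 2) (hy : orderOf y = 3) (hxy : Commute x y) :
    ∃ g : G, g * x * g⁻¹ = z ∧ (g * y * g⁻¹ = w ∨ g * y * g⁻¹ = w * w) := by
  haveI : Fact (Nat.Prime 3) := ⟨Nat.prime_three⟩
  obtain ⟨g, hg⟩ := H.exists_conj hx
  have hm : g * y * g⁻¹ ∈ cen z := mem_cen.2 (hg ▸ commute_conj g hxy.symm)
  obtain ⟨P, hP⟩ := (isPGroup_zp (x := (⟨_, hm⟩ : cen z))
    ((Subgroup.orderOf_mk _ hm).trans ((orderOf_conj g y).trans hy))).exists_le_sylow
  obtain ⟨c, hc, hPc⟩ := H.sylow_three P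
  have h1 : c * g * y * (c * g)⁻¹ ∈ Subgroup.zpowers w := by
    have := (hPc ⟨_, hm⟩).1 (hP (Subgroup.mem_zpowers _))
    rwa [show c * g * y * (c * g)⁻¹ = c * (g * y * g⁻¹) * c⁻¹ by group]
  refine ⟨c * g, ?_, ?_⟩
  · rw [show c * g * x * (c * g)⁻¹ = c * (g * x * g⁻¹) * c⁻¹ by group, hg, (mem_cen.1 hc).eq, mul_inv_cancel_right]
  obtain ⟨n, hn⟩ := mem_powers_iff_mem_zpowers.2 h1
  simp only at hn
  rw [← hn, ← pow_mod_orderOf, H.hw]
  obtain e | e | e : n % 3 = 0 ∨ n % 3 = 1 ∨ n % 3 = 2 := by omega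
  · exfalso
    have ho := (orderOf_conj (c * g) y).trans hy
    rw [← hn, ← pow_mod_orderOf, H.hw, e, pow_zero, orderOf_one] at ho
    omega
  · exact Or.inl (by rw [e, pow_one])
  · exact Or.inr (by rw [e, pow_two])

/-- A 2-element commuting with an involution and an element of order three that commute. -/
theorem cent_two' {x y g : G} (hx : orderOf x = 2) (hy : orderOf y = 3) (hxy : Commute x y)
    (hgx : Commute g x) (hgy : Commute g y) {k : ℕ} (hg : g ^ 2 ^ k = 1) : g = 1 ∨ g = x := by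
  obtain ⟨c, hcx, hcy⟩ := H.three_conj hx hy hxy
  have h1 : Commute (c * g * c⁻¹) z := hcx ▸ commute_conj c hgx
  have h2 : Commute (c * g * c⁻¹) w := by
    rcases hcy with e | e
    · exact e ▸ commute_conj c hgy
    · have h := (e ▸ commute_conj c hgy : Commute (c * g * c⁻¹) (w * w)).mul_right (e ▸ commute_conj c hgy)
      have e4 : w * w * (w * w) = w := by
        rw [mul_assoc, show w * (w * w) = w ^ 3 by rw [pow_three], show w ^ 3 = 1 from H.hw ▸ pow_orderOf_eq_one w,
          mul_one]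
      rwa [e4] at h
  rcases H.cent_two h1 h2 (k := k) (by rw [conj_pow, hg, mul_one, mul_inv_cancel]) with e | e
  · exact Or.inl (conj_eq_one_iff.1 e)
  · exact Or.inr (mul_left_cancel (mul_right_cancel (e.trans hcx.symm)))

/-- A 3-subgroup centralising an involution has order at most three. -/
theorem three_group {x : G} (hx : orderOf x = 2) {P : Subgroup G} (hP : IsPGroup 3 P) (hPC : P ≤ cen x) :
    Nat.card P ≤ 3 := by
  haveI : Fact (Nat.Prime 3) := ⟨Nat.prime_three⟩
  obtain ⟨g, hg⟩ := H.exists_conj hx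
  set P' := P.map (MulAut.conj g).toMonoidHom
  have hle : P' ≤ cen z := by
    rintro _ ⟨p, hp, rfl⟩
    exact mem_cen.2 (hg ▸ commute_conj g (mem_cen.1 (hPC hp)))
  obtain ⟨Q, hQ⟩ := ((hP.map _).of_equiv (Subgroup.subgroupOfEquivOfLe hle).symm).exists_le_sylow
  obtain ⟨c, -, hQc⟩ := H.sylow_three Q
  let f : P → Subgroup.zpowers w := fun p => ⟨c * (g * p * g⁻¹) * c⁻¹,
    (hQc ⟨_, hle ⟨p, p.2, rfl⟩⟩).1 (hQ (show (⟨_, hle ⟨p, p.2, rfl⟩⟩ : cen z) ∈ P'.subgroupOf (cen z) from
      ⟨p, p.2, rfl⟩))⟩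
  have hf : Function.Injective f := fun a b h => by
    have h' := congrArg Subtype.val h
    exact Subtype.ext (by simpa [f] using h')
  exact (Nat.card_le_card_of_injective f hf).trans (by rw [Nat.card_zpowers, H.hw])

/-- Sylow 2-subgroups of the centraliser are Sylow subgroups of the group. -/
theorem sylow_cen (R : Sylow 2 (cen z)) : ∃ S : Sylow 2 G, (S : Subgroup G) = (R : Subgroup (cen z)).map (cen z).subtype := by
  haveI : Fact (Nat.Prime 2) := ⟨Nat.prime_two⟩
  obtain ⟨S, hS⟩ := (R.2.map (cen z).subtype).exists_le_sylow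
  refine ⟨S, ?_⟩
  obtain ⟨P, hP⟩ := (isPGroup_zp H.hz).exists_le_sylow
  haveI : Nontrivial (P : Subgroup G) :=
    ⟨⟨⟨z, hP (Subgroup.mem_zpowers z)⟩, 1, fun e => ne_one_of_two H.hz (congrArg Subtype.val e)⟩⟩
  haveI := P.2.center_nontrivial
  obtain ⟨y, hy⟩ := exists_prime_orderOf_dvd_card' (G := Subgroup.center (P : Subgroup G)) 2 (by
    obtain ⟨n, hn, hc⟩ := (P.2.to_subgroup (Subgroup.center (P : Subgroup G))).nontrivial_iff_card.1 this
    exact hc ▸ dvd_pow_self 2 hn.ne')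
  have hy2 : orderOf ((y : (P : Subgroup G)) : G) = 2 := by rw [Subgroup.orderOf_coe, Subgroup.orderOf_coe, hy]
  obtain ⟨g, hg⟩ := H.exists_conj hy2
  set P' := (P : Subgroup G).map (MulAut.conj g).toMonoidHom
  have hle : P' ≤ cen z := by
    rintro _ ⟨p, hp, rfl⟩
    have hc := Subgroup.mem_center_iff.1 y.2 ⟨p, hp⟩
    exact mem_cen.2 (hg ▸ commute_conj g (congrArg Subtype.val hc))
  obtain ⟨Q, hQ⟩ := ((P.2.map (MulAut.conj g).toMonoidHom).of_equiv (Subgroup.subgroupOfEquivOfLe hle).symm).exists_le_sylow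
  refine (Subgroup.eq_of_le_of_card_ge hS ?_).symm
  rw [Subgroup.card_map_of_injective (cen z).subtype_injective, Sylow.card_eq_multiplicity R,
    ← Sylow.card_eq_multiplicity Q, Sylow.card_eq_multiplicity S, ← Sylow.card_eq_multiplicity P]
  calc Nat.card (P : Subgroup G) = Nat.card (P'.subgroupOf (cen z)) := by
        rw [Nat.card_congr (Subgroup.subgroupOfEquivOfLe hle).toEquiv,
          Subgroup.card_map_of_injective (MulAut.conj g).injective]
    _ ≤ _ := Subgroup.card_le_of_le hQ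

theorem exists_sylow : ∃ S : Sylow 2 G, (S : Subgroup G) ≤ cen z := by
  obtain ⟨R⟩ : Nonempty (Sylow 2 (cen z)) := inferInstance
  obtain ⟨S, hS⟩ := H.sylow_cen R
  exact ⟨S, hS ▸ Subgroup.map_subtype_le _⟩

omit H in
/-- The Sylow 2-subgroups of a simple group have more than one involution. -/
theorem two_invol [IsSimpleGroup G] (hG : ¬ IsMulCommutative G) (S : Sylow 2 G) {x : G} (hx : x ∈ (S : Subgroup G))
    (h2 : orderOf x = 2) : ∃ y ∈ (S : Subgroup G), orderOf y = 2 ∧ y ≠ x := by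
  by_contra hcon
  push Not at hcon
  obtain ⟨N, hN, hodd, hcomm⟩ := Cfsg.Agent.S0215.result S x h2 hx fun g hg =>
    hcon _ hg ((orderOf_conj g x).trans h2)
  rcases hN.eq_bot_or_eq_top with e | e
  · subst e
    have hc : x ∈ Subgroup.center G := Subgroup.mem_center_iff.2 fun g => by
      have := Subgroup.mem_bot.1 (hcomm g)
      rw [mul_inv_eq_one, mul_inv_eq_iff_eq_mul] at this
      exact this.symm
    rcases (inferInstance : (Subgroup.center G).Normal).eq_bot_or_eq_top with e | e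
    · exact ne_one_of_two h2 (Subgroup.mem_bot.1 (e ▸ hc))
    · exact hG ⟨⟨fun a b => Subgroup.mem_center_iff.1 (e ▸ Subgroup.mem_top b) a⟩⟩
  · subst e
    rw [Subgroup.card_top] at hodd
    exact (Nat.not_even_iff_odd.2 hodd) (even_iff_two_dvd.2 (h2 ▸ orderOf_dvd_natCard x))

end Hyp

end CfsgLib.SelfSix
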