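import Cfsg.Agent.Lib.SelfSix.Shape
import Cfsg.Agent.Lib.FrobAction.Order
import Cfsg.Agent.Lib.DicksonFull.Subgroups

/-!
A Sylow 2-subgroup with a second central involution is elementary abelian of order eight when the
normaliser inside the centraliser only adds `w`.
-/

set_option autoImplicit false
set_option linter.unusedSectionVars false
set_option linter.style.haveILetI false

namespace CfsgLib.SelfSix

open Cfsg

universe u

variable {G : Type u} [Group G] {z w : G}

/-- A group of odd order with a self-centralising element of order three has a normal nilpotent complement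
of index three, of order prime to three. -/
theorem odd_kernel {K : Type u} [Group K] [Finite K] (hodd : Odd (Nat.card K)) {k : K} (hk : orderOf k = 3)
    (hc : ∀ g : K, Commute g k → g ∈ Subgroup.zpowers k) :
    ∃ U : Subgroup K, U.Normal ∧ Group.IsNilpotent U ∧ ¬ 3 ∣ Nat.card U ∧ U.index = 3 := by
  have h2 : ¬ 2 ∣ Nat.card K := fun h => (Nat.not_even_iff_odd.2 hodd) (even_iff_two_dvd.2 h)
  have hC : Subgroup.centralizer (Subgroup.zpowers k : Set K) = Subgroup.zpowers k := by
    refine le_antisymm (fun y hy => hc y (Subgroup.mem_centralizer_iff.1 hy k (Subgroup.mem_zpowers k)).symm)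
      fun y hy => Subgroup.mem_centralizer_iff.2 fun m hm => ?_
    obtain ⟨i, rfl⟩ := hy; obtain ⟨j, rfl⟩ := hm
    exact (Commute.zpow_zpow (Commute.refl k) j i).eq
  rcases Cfsg.Agent.S3331.result (Subgroup.zpowers k) (by rw [Nat.card_zpowers, hk]) hC with
    ⟨U, hU, hnil, hcop, hq⟩ | ⟨N, hN, -, -, ⟨e⟩⟩ | ⟨⟨e⟩⟩
  · refine ⟨U, hU, hnil, fun h => Nat.not_coprime_of_dvd_of_dvd (by norm_num : 1 < 3) h dvd_rfl hcop, ?_⟩
    rw [Subgroup.index_eq_card]
    rcases hq with h | ⟨⟨e⟩⟩
    · exact h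
    · exfalso
      apply h2
      refine (show 2 ∣ Nat.card (K ⧸ U) from ?_).trans (Subgroup.card_quotient_dvd_card U)
      rw [Nat.card_congr e.toEquiv, Nat.card_perm, Nat.card_fin]
      norm_num [Nat.factorial]
  · exfalso
    apply h2
    refine (show 2 ∣ Nat.card (K ⧸ N) from ?_).trans (Subgroup.card_quotient_dvd_card N)
    rw [Nat.card_congr e.toEquiv, nat_card_alternatingGroup, Nat.card_fin]
    norm_num [Nat.factorial]
  · exfalso
    apply h2
    haveI : Fact (Nat.Prime 7) := ⟨by norm_num⟩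
    rw [Nat.card_congr e.toEquiv]
    have h := CfsgLib.DicksonFull.card_psl (F := ZMod 7)
    rw [ZMod.card, show Nat.gcd 2 (7 - 1) = 2 from rfl] at h
    omega

namespace Hyp

variable (H : Hyp G z w) [Finite G]
include H

theorem z_mem_sylow (S : Sylow 2 G) (hSC : (S : Subgroup G) ≤ cen z) : z ∈ (S : Subgroup G) := by
  haveI : Fact (Nat.Prime 2) := ⟨Nat.prime_two⟩
  have hle : (S : Subgroup G) ≤ Subgroup.normalizer (Subgroup.zpowers z : Set G) := fun s hs => by
    refine (Subgroup.mem_normalizer_iff.2 fun y => ?_)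
    have hsz : Commute s z := mem_cen.1 (hSC hs)
    constructor
    · intro hy
      obtain ⟨i, rfl⟩ := Subgroup.mem_zpowers_iff.1 hy
      rw [(hsz.zpow_right i).eq, mul_inv_cancel_right]
      exact hy
    · intro hy
      obtain ⟨i, hi⟩ := Subgroup.mem_zpowers_iff.1 hy
      have : y = z ^ i := by
        calc y = s⁻¹ * (s * y * s⁻¹) * s := by group
          _ = s⁻¹ * (z ^ i * s) := by rw [← hi]; group
          _ = z ^ i := by rw [← (hsz.zpow_right i).eq, inv_mul_cancel_left]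
      exact this ▸ Subgroup.zpow_mem _ (Subgroup.mem_zpowers z) i
  have hp := S.2.to_sup_of_normal_right' (isPGroup_zp H.hz) hle
  have := S.3 hp le_sup_left
  exact this ▸ (le_sup_right : Subgroup.zpowers z ≤ _) (Subgroup.mem_zpowers z)

theorem ns (S : Sylow 2 G) (hSC : (S : Subgroup G) ≤ cen z) (hwS : w ∈ Subgroup.normalizer (S : Set G))
    {a : G} (ha : a ∈ (S : Subgroup G)) (ha2 : orderOf a = 2) (haz : a ≠ z)
    (hac : ∀ s ∈ (S : Subgroup G), Commute a s) :
    Nat.card (S : Subgroup G) = 8 ∧ ∀ s ∈ (S : Subgroup G), s * s = 1 := by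
  classical
  haveI : Fact (Nat.Prime 2) := ⟨Nat.prime_two⟩
  haveI : Fact (Nat.Prime 3) := ⟨Nat.prime_three⟩
  set N := Subgroup.normalizer (S : Set G) with hN
  have hSN : (S : Subgroup G) ≤ N := Subgroup.le_normalizer
  set SN := (S : Subgroup G).subgroupOf N with hSNdef
  haveI hnormal : SN.Normal := Subgroup.normal_in_normalizer
  have hidx : ¬ 2 ∣ SN.index := by
    intro h
    refine S.not_dvd_index (h.trans ?_)
    exact ⟨N.index, ((Subgroup.relIndex_mul_index hSN)).symm⟩
  obtain ⟨n, hn⟩ := IsPGroup.exists_card_eq S.2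
  have hcardSN : Nat.card SN = 2 ^ n := (Nat.card_congr (Subgroup.subgroupOfEquivOfLe hSN).toEquiv).trans hn
  obtain ⟨K0, hK0⟩ := Subgroup.exists_right_complement'_of_coprime (N := SN)
    (by rw [hcardSN]; exact ((Nat.Prime.coprime_iff_not_dvd Nat.prime_two).2 hidx).pow_left n)
  have hK0card : Nat.card K0 = SN.index := by
    have h1 := hK0.card_mul
    rw [← Subgroup.card_mul_index SN] at h1
    exact Nat.eq_of_mul_eq_mul_left Nat.card_pos h1
  have hK0odd : Odd (Nat.card K0) := Nat.not_even_iff_odd.1 fun h => hidx (hK0card ▸ even_iff_two_dvd.1 h)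
  -- decomposition
  have hdec : ∀ g ∈ N, ∃ s ∈ (S : Subgroup G), ∃ k : K0, g = s * ((k : N) : G) := by
    intro g hg
    obtain ⟨⟨s, k⟩, hsk⟩ := hK0.2 ⟨g, hg⟩
    exact ⟨((s : N) : G), s.2, k, (congrArg Subtype.val hsk).symm⟩
  have hmeet : ∀ k : K0, ((k : N) : G) ∈ (S : Subgroup G) → ((k : N) : G) = 1 := by
    intro k hk
    have := Subgroup.disjoint_def.1 hK0.disjoint (x := (k : N)) hk k.2
    rw [this]; rfl
  have hzS := H.z_mem_sylow S hSC
  obtain ⟨s0, hs0, k, hwk⟩ := hdec w hwS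
  have hkC : Commute ((k : N) : G) z := by
    have : ((k : N) : G) = s0⁻¹ * w := by rw [hwk, inv_mul_cancel_left]
    rw [this]
    exact (mem_cen.1 (hSC (inv_mem hs0))).mul_left H.hzw.symm
  have hk3 : orderOf ((k : N) : G) = 3 := by
    have hmem : ((k : N) : G) ^ 3 ∈ (S : Subgroup G) := by
      have h1 : ((QuotientGroup.mk' SN) (k : N)) = QuotientGroup.mk' SN ⟨w, hwS⟩ := by
        rw [QuotientGroup.mk'_eq_mk']
        refine ⟨(k : N)⁻¹ * ⟨w, hwS⟩, ?_, by group⟩
        show ((k : N) : G)⁻¹ * w ∈ (S : Subgroup G)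
        rw [hwk]
        have := (Subgroup.mem_normalizer_iff.1 (inv_mem (k : N).2) s0).1 hs0
        rwa [inv_inv, mul_assoc] at this
      have h2 : (QuotientGroup.mk' SN) ((k : N) ^ 3) = 1 := by
        rw [map_pow, h1, ← map_pow, show (⟨w, hwS⟩ : N) ^ 3 = 1 from Subtype.ext (H.hw ▸ pow_orderOf_eq_one w),
          map_one]
      have h4 : (k : N) ^ 3 ∈ SN := (QuotientGroup.eq_one_iff _).1 h2
      exact h4
    have h3 : ((k : N) : G) ^ 3 = 1 := hmeet (k ^ 3) hmem
    refine orderOf_eq_prime h3 fun e => ?_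
    rw [e, mul_one] at hwk
    obtain ⟨i, hi⟩ := S.2 ⟨w, hwk ▸ hs0⟩
    have := orderOf_dvd_of_pow_eq_one (congrArg Subtype.val hi : w ^ 2 ^ i = 1)
    rw [H.hw] at this
    have := Nat.prime_three.dvd_of_dvd_pow this
    norm_num at this
  have hfix : ∀ y ∈ (S : Subgroup G), Commute y ((k : N) : G) → y = 1 ∨ y = z := by
    intro y hy hyk
    obtain ⟨i, hi⟩ := S.2 ⟨y, hy⟩
    exact H.cent_two' H.hz hk3 hkC.symm (mem_cen.1 (hSC hy)) hyk (congrArg Subtype.val hi : y ^ 2 ^ i = 1)
  -- central involutions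
  set P : G → Prop := fun y => y ∈ (S : Subgroup G) ∧ y * y = 1 ∧ ∀ s ∈ (S : Subgroup G), Commute y s with hP
  have hPz : P z := ⟨hzS, mul_self_of_two H.hz, fun s hs => (mem_cen.1 (hSC hs)).symm⟩
  have hPconj : ∀ y, P y → ∀ g ∈ N, P (g * y * g⁻¹) := by
    intro y hy g hg
    refine ⟨(Subgroup.mem_normalizer_iff.1 hg y).1 hy.1, ?_, fun s hs => ?_⟩
    · rw [show g * y * g⁻¹ * (g * y * g⁻¹) = g * (y * y) * g⁻¹ by group, hy.2.1, mul_one, mul_inv_cancel]
    · have h := hy.2.2 _ ((Subgroup.mem_normalizer_iff.1 (inv_mem hg) s).1 hs)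
      have := commute_conj g h
      rwa [show g * (g⁻¹ * s * g⁻¹⁻¹) * g⁻¹ = s by group] at this
  have htrans : ∀ y, P y → y ≠ 1 → ∃ k' : K0, ((k' : N) : G) * z * ((k' : N) : G)⁻¹ = y := by
    intro y hy hy1
    obtain ⟨g, hg⟩ := H.exists_conj (orderOf_two hy.2.1 hy1)
    have hyg : g⁻¹ * z * g = y := by rw [← hg]; group
    obtain ⟨n', hn', e⟩ := S.conj_eq_normalizer_conj_of_mem_centralizer z g
      (Subgroup.mem_centralizer_iff.2 fun s hs => (hPz.2.2 s hs).eq.symm)
      (Subgroup.mem_centralizer_iff.2 fun s hs => by rw [hyg]; exact (hy.2.2 s hs).eq.symm)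
    obtain ⟨s, hs, k', hk'⟩ := hdec n'⁻¹ (inv_mem hn')
    refine ⟨k', ?_⟩
    have e2 : ((k' : N) : G) = s⁻¹ * n'⁻¹ := by rw [hk', inv_mul_cancel_left]
    have e3 : n'⁻¹ * z * n' = y := e.symm.trans hyg
    rw [e2, mul_inv_rev, inv_inv, inv_inv, show s⁻¹ * n'⁻¹ * z * (n' * s) = s⁻¹ * (n'⁻¹ * z * n') * s by group, e3,
      mul_assoc, (hy.2.2 s hs).eq, inv_mul_cancel_left]
  have hkk : orderOf k = 3 := by rw [← Subgroup.orderOf_coe k, ← Subgroup.orderOf_coe (k : N), hk3]
  have hkself : ∀ g : K0, Commute g k → g ∈ Subgroup.zpowers k := by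
    intro g hg
    have hy := hPconj z hPz _ (g : N).2
    have hgk : Commute ((g : N) : G) ((k : N) : G) := congrArg (fun x : K0 => ((x : N) : G)) hg.eq
    have hgz : Commute ((g : N) : G) z := by
      have hc := commute_conj ((g : N) : G) hkC.symm
      rw [hgk.eq, mul_inv_cancel_right] at hc
      rcases hfix _ hy.1 hc with h | h
      · exact absurd (conj_eq_one_iff.1 h) (ne_one_of_two H.hz)
      · exact mul_inv_eq_iff_eq_mul.1 h
    have hodd : Odd (orderOf ((g : N) : G)) := by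
      rw [Subgroup.orderOf_coe, Subgroup.orderOf_coe]
      exact hK0odd.of_dvd_nat (orderOf_dvd_natCard g)
    obtain ⟨c, hcz, hck⟩ := H.three_conj H.hz hk3 hkC.symm
    have h1 : Commute (c * ((g : N) : G) * c⁻¹) z := hcz ▸ commute_conj c hgz
    have h2 : Commute (c * ((g : N) : G) * c⁻¹) w := by
      have h := commute_conj c hgk
      rcases hck with e | e <;> rw [e] at h
      · exact h
      · have h' := h.mul_right h
        have e4 : w * w * (w * w) = w := by
          rw [mul_assoc, ← pow_three, show w ^ 3 = 1 from H.hw ▸ pow_orderOf_eq_one w, mul_one]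
        rwa [e4] at h'
    rcases H.cent_cases h1 h2 with h | ⟨v, hv, e⟩
    · have hw' : w ∈ Subgroup.zpowers (c * ((k : N) : G) * c⁻¹) := by
        rcases hck with e | e <;> rw [e]
        · exact Subgroup.mem_zpowers w
        · refine ⟨2, ?_⟩
          show (w * w) ^ (2 : ℤ) = w
          rw [zpow_two, mul_assoc, ← pow_three, show w ^ 3 = 1 from H.hw ▸ pow_orderOf_eq_one w, mul_one]
      obtain ⟨j, hj⟩ := Subgroup.mem_zpowers_iff.1 h
      obtain ⟨i, hi⟩ := Subgroup.mem_zpowers_iff.1 hw'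
      refine ⟨i * j, ?_⟩
      refine Subtype.ext (Subtype.ext ?_)
      rw [← hi, ← zpow_mul, conj_zpow] at hj
      show ((k ^ (i * j) : K0) : N).1 = _
      simpa using mul_left_cancel (mul_right_cancel hj)
    · exfalso
      obtain ⟨j, rfl⟩ := Subgroup.mem_zpowers_iff.1 hv
      have h3 : (w ^ j) ^ 3 = 1 := by
        rw [← zpow_natCast, ← zpow_mul, mul_comm, zpow_mul, zpow_natCast,
          show w ^ 3 = 1 from H.hw ▸ pow_orderOf_eq_one w, one_zpow]
      have e3 : (c * ((g : N) : G) * c⁻¹) ^ 3 = z := by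
        rw [e, (H.hzw.zpow_right j).mul_pow, h3, mul_one, pow_succ, pow_two, mul_self_of_two H.hz, one_mul]
      have hd := orderOf_pow_dvd (x := c * ((g : N) : G) * c⁻¹) 3
      rw [e3, H.hz, orderOf_conj] at hd
      exact absurd (even_iff_two_dvd.2 hd) (Nat.not_even_iff_odd.2 hodd)
  obtain ⟨U0, hU0n, hU0nil, hU03, hU0idx⟩ := odd_kernel hK0odd hkk hkself
  -- into the group
  let ι : K0 →* G := N.subtype.comp K0.subtype
  have hι : Function.Injective ι := fun a b h => Subtype.ext (Subtype.ext h)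
  set U := U0.map ι with hU
  haveI : Group.IsNilpotent U := Group.nilpotent_of_mulEquiv (U0.equivMapOfInjective ι hι)
  set E := Subgroup.zpowers ((k : N) : G) with hE
  have hEU : E ≤ Subgroup.normalizer (U : Set G) := by
    rw [hE, Subgroup.zpowers_le, Subgroup.mem_normalizer_iff]
    intro y
    constructor
    · rintro ⟨u', hu', rfl⟩
      exact ⟨k * u' * k⁻¹, hU0n.conj_mem u' hu' k, by simp [ι]⟩
    · rintro ⟨u', hu', e⟩
      refine ⟨k⁻¹ * u' * k, by simpa using hU0n.conj_mem u' hu' k⁻¹, ?_⟩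
      simp only [ι, MonoidHom.coe_comp, Function.comp_apply, Subgroup.coe_subtype] at e
      simp only [ι, MonoidHom.coe_comp, Function.comp_apply, Subgroup.coe_subtype, Subgroup.coe_mul,
        InvMemClass.coe_inv]
      rw [e]; group
  have hUk : ∀ u' ∈ U0, u' ∈ Subgroup.zpowers k → u' = 1 := by
    intro u' hu' hu''
    by_contra h
    have h3 : orderOf u' = 3 := by
      rcases (Nat.dvd_prime Nat.prime_three).1 (hkk ▸ orderOf_dvd_of_mem_zpowers hu'') with e | e
      · exact absurd (orderOf_eq_one_iff.1 e) h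
      · exact e
    exact hU03 (h3 ▸ Subgroup.orderOf_dvd_natCard U0 hu')
  have hfpf : ∀ e ∈ E, e ≠ 1 → ∀ u' ∈ U, e * u' = u' * e → u' = 1 := by
    intro e he he1 u' hu' hc
    obtain ⟨v, hv, rfl⟩ := hu'
    obtain ⟨i, rfl⟩ := Subgroup.mem_zpowers_iff.1 he
    have hc' : Commute v (k ^ i) := hι (by
      rw [map_mul, map_mul, map_zpow]
      exact hc.symm)
    have hi : ∃ j : ℤ, (k ^ i) ^ j = k := by
      have hne : k ^ i ≠ 1 := fun e => he1 (by rw [← map_one ι, ← e, map_zpow]; rfl)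
      have hgen := zpowers_eq_top_of_prime_card (G := Subgroup.zpowers k) (p := 3)
        (by rw [Nat.card_zpowers, hkk]) (g := ⟨k ^ i, Subgroup.zpow_mem _ (Subgroup.mem_zpowers k) i⟩)
        (fun e => hne (congrArg Subtype.val e))
      obtain ⟨j, hj⟩ := Subgroup.mem_zpowers_iff.1
        (hgen ▸ Subgroup.mem_top (⟨k, Subgroup.mem_zpowers k⟩ : Subgroup.zpowers k))
      exact ⟨j, congrArg Subtype.val hj⟩
    obtain ⟨j, hj⟩ := hi
    have := hUk v hv (hkself v (hj ▸ hc'.zpow_right j))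
    rw [this, map_one]
  have hUN : ∀ u' ∈ U, u' ∈ N := by rintro _ ⟨v, -, rfl⟩; exact (v : N).2
  have hEN : ∀ e ∈ E, e ∈ N := fun e he => (Subgroup.zpowers_le.2 (k : N).2) he
  have hX : U ⊔ E ≤ Subgroup.normalizer ((S : Subgroup G) : Set G) := sup_le (fun u' hu' => hUN u' hu') hEN
  have hUEle : U ⊔ E ≤ (⊤ : Subgroup K0).map ι := by
    refine sup_le (Subgroup.map_mono le_top) ?_
    rw [hE, Subgroup.zpowers_le]
    exact ⟨k, trivial, rfl⟩
  have hcop : (Nat.card ↥(U ⊔ E)).Coprime (Nat.card (S : Subgroup G)) := by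
    rw [hn]
    refine Nat.Coprime.pow_right n ((Nat.coprime_two_right).2 (Odd.of_dvd_nat ?_ (Subgroup.card_dvd_of_le hUEle)))
    rw [Subgroup.card_map_of_injective hι, Subgroup.card_top]
    exact hK0odd
  haveI := S.2.isNilpotent
  have hsol : Group.IsSolvable (S : Subgroup G) := inferInstance
  have key := CfsgLib.FrobAction.order_formula U E hEU hfpf (S : Subgroup G) hX hcop hsol
  -- the fixed groups
  have hUnoP : ∀ y, P y → (∀ u' ∈ U, Commute y u') → y = 1 := by
    intro y hy hyU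
    by_contra hy1
    obtain ⟨k', hk'⟩ := htrans y hy hy1
    have hUz : ∀ v ∈ U0, Commute (ι v) z := by
      intro v hv
      have h := hyU (ι (k' * v * k'⁻¹)) ⟨_, hU0n.conj_mem v hv k', rfl⟩
      rw [← hk', map_mul, map_mul, map_inv] at h
      have h2 := commute_conj (ι k')⁻¹ h
      change Commute ((ι k')⁻¹ * (ι k' * z * (ι k')⁻¹) * (ι k')⁻¹⁻¹) _ at h2
      rw [show (ι k')⁻¹ * (ι k' * z * (ι k')⁻¹) * (ι k')⁻¹⁻¹ = z by group,
        show (ι k')⁻¹ * (ι k' * ι v * (ι k')⁻¹) * (ι k')⁻¹⁻¹ = ι v by group] at h2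
      exact h2.symm
    let St : Subgroup K0 := (cen z).comap ι
    have hSt : ∀ g : K0, g ∈ St := by
      have hle : U0 ≤ St := fun v hv => mem_cen.2 (hUz v hv)
      have hk : k ∈ St := mem_cen.2 hkC
      have hd : St.index ∣ 3 := hU0idx ▸ Subgroup.index_dvd_of_le hle
      rcases (Nat.dvd_prime Nat.prime_three).1 hd with h | h
      · intro g; rw [Subgroup.index_eq_one.1 h]; trivial
      · exfalso
        have hEq : U0 = St := by
          refine Subgroup.eq_of_le_of_card_ge hle (le_of_eq ?_)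
          have e1 := U0.card_mul_index
          rw [hU0idx, ← St.card_mul_index, h] at e1
          omega
        have h3 := Subgroup.orderOf_dvd_natCard U0 (hEq ▸ hk : k ∈ U0)
        rw [hkk] at h3
        exact hU03 h3
    obtain ⟨k'', hk''⟩ := htrans a ⟨ha, mul_self_of_two ha2, hac⟩ (ne_one_of_two ha2)
    apply haz
    rw [← hk'']
    exact mul_inv_eq_iff_eq_mul.2 (mem_cen.1 (hSt k'')).eq
  set CU := (S : Subgroup G) ⊓ Subgroup.centralizer (U : Set G) with hCU
  have hCE : (S : Subgroup G) ⊓ Subgroup.centralizer (E : Set G) = Subgroup.zpowers z := by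
    refine le_antisymm (fun y hy => (mem_zp_two H.hz).2 (hfix y hy.1
      (Subgroup.mem_centralizer_iff.1 hy.2 _ (Subgroup.mem_zpowers _)).symm)) (Subgroup.zpowers_le.2 ⟨hzS, ?_⟩)
    refine Subgroup.mem_centralizer_iff.2 fun e he => ?_
    obtain ⟨i, rfl⟩ := he
    exact (hkC.zpow_left i).eq
  have hCUE : (S : Subgroup G) ⊓ Subgroup.centralizer ((U ⊔ E : Subgroup G) : Set G) = ⊥ := by
    rw [Subgroup.eq_bot_iff_forall]
    intro y hy
    have hyU : ∀ u' ∈ U, Commute y u' := fun u' hu' =>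
      (Subgroup.mem_centralizer_iff.1 hy.2 u' ((le_sup_left : U ≤ U ⊔ E) hu')).symm
    rcases hfix y hy.1 (Subgroup.mem_centralizer_iff.1 hy.2 _
      ((le_sup_right : E ≤ U ⊔ E) (Subgroup.mem_zpowers _))).symm with e | e
    · exact e
    · exact hUnoP y (e ▸ hPz) hyU
  rw [hCE, hCUE, Subgroup.card_bot, one_pow, one_mul, Nat.card_zpowers, H.hz, hE, Nat.card_zpowers, hk3] at key
  have key' : Nat.card (S : Subgroup G) = 8 * Nat.card CU := by rw [key]; rfl
  -- the central involutions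
  let ZS : Subgroup G :=
    { carrier := {y | P y}
      one_mem' := ⟨one_mem _, one_mul 1, fun s _ => Commute.one_left s⟩
      mul_mem' := fun {x y} hx hy => ⟨mul_mem hx.1 hy.1, by
        rw [(hy.2.2 x hx.1).mul_mul_mul_comm, hx.2.1, hy.2.1, one_mul],
        fun s hs => (hx.2.2 s hs).mul_left (hy.2.2 s hs)⟩
      inv_mem' := fun {x} hx => by
        rw [show x⁻¹ = x from inv_eq_of_mul_eq_one_right hx.2.1]; exact hx }
  have hZS : ZS ≤ (S : Subgroup G) := fun y hy => hy.1
  have hZCU : Disjoint ZS CU := Subgroup.disjoint_def.2 fun {y} hy hy' => hUnoP y hy fun u' hu' =>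
    (Subgroup.mem_centralizer_iff.1 hy'.2 u' hu').symm
  have hXZ : U ⊔ E ≤ Subgroup.normalizer (ZS : Set G) := by
    intro g hg
    refine (Subgroup.mem_normalizer_iff.2 fun y => ⟨fun hy => hPconj y hy g (hX hg), fun hy => ?_⟩)
    have := hPconj _ hy _ (inv_mem (hX hg))
    rwa [show g⁻¹ * (g * y * g⁻¹) * g⁻¹⁻¹ = y by group] at this
  have hcardZ : Nat.card ZS = 8 := by
    have hsolZ : Group.IsSolvable ZS :=
      Group.isSolvable_of_isSolvable_injective (f := Subgroup.inclusion hZS) (Subgroup.inclusion_injective _)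
    have k2 := CfsgLib.FrobAction.order_formula U E hEU hfpf ZS hXZ
      (hcop.coprime_dvd_right (Subgroup.card_dvd_of_le hZS)) hsolZ
    have e1 : ZS ⊓ Subgroup.centralizer (E : Set G) = Subgroup.zpowers z := by
      refine le_antisymm (fun y hy => hCE ▸ ⟨hZS hy.1, hy.2⟩) (Subgroup.zpowers_le.2 ⟨hPz, ?_⟩)
      have := (hCE.symm ▸ Subgroup.mem_zpowers z : z ∈ (S : Subgroup G) ⊓ Subgroup.centralizer (E : Set G))
      exact this.2
    have e2 : ZS ⊓ Subgroup.centralizer ((U ⊔ E : Subgroup G) : Set G) = ⊥ :=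
      le_bot_iff.1 fun y hy => hCUE ▸ ⟨hZS hy.1, hy.2⟩
    have e3 : ZS ⊓ Subgroup.centralizer (U : Set G) = ⊥ :=
      le_bot_iff.1 fun y hy => (Subgroup.mem_bot).2 (hUnoP y hy.1 fun u' hu' =>
        (Subgroup.mem_centralizer_iff.1 hy.2 u' hu').symm)
    rw [e1, e2, e3, Subgroup.card_bot, one_pow, one_mul, mul_one, Nat.card_zpowers, H.hz, hE, Nat.card_zpowers,
      hk3] at k2
    exact k2
  -- `S` is the product
  let m : ZS × CU →* (S : Subgroup G) :=
    { toFun := fun p => ⟨(p.1 : G) * p.2, mul_mem p.1.2.1 p.2.2.1⟩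
      map_one' := Subtype.ext (by simp)
      map_mul' := fun p q => Subtype.ext (by
        show (p.1 * q.1 : G) * (p.2 * q.2) = p.1 * p.2 * (q.1 * q.2)
        exact (q.1.2.2.2 p.2 p.2.2.1).mul_mul_mul_comm _ _) }
  have hm : Function.Injective m := by
    rw [injective_iff_map_eq_one]
    rintro ⟨p, q⟩ h
    have h' : (p : G) * q = 1 := congrArg Subtype.val h
    have hp : (p : G) = 1 := Subgroup.disjoint_def.1 hZCU p.2 (eq_inv_of_mul_eq_one_left h' ▸ inv_mem q.2)
    rw [hp, one_mul] at h'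
    exact Prod.ext (Subtype.ext hp) (Subtype.ext h')
  have hmb : Function.Bijective m := (Nat.bijective_iff_injective_and_card m).2
    ⟨hm, by rw [Nat.card_prod, hcardZ, key']⟩
  have hCU1 : CU = ⊥ := by
    by_contra hne
    have hCUp : IsPGroup 2 CU := S.2.to_le inf_le_left
    haveI : Nontrivial CU := (Subgroup.nontrivial_iff_ne_bot _).2 hne
    haveI := hCUp.center_nontrivial
    obtain ⟨y, hy⟩ := exists_prime_orderOf_dvd_card' (G := Subgroup.center CU) 2 (by
      obtain ⟨i, hi, hc⟩ := (hCUp.to_subgroup (Subgroup.center CU)).nontrivial_iff_card.1 this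
      exact hc ▸ dvd_pow_self 2 hi.ne')
    have hy2 : orderOf ((y : CU) : G) = 2 := by rw [Subgroup.orderOf_coe, Subgroup.orderOf_coe, hy]
    refine ne_one_of_two hy2 (Subgroup.disjoint_def.1 hZCU ⟨(y : CU).2.1, mul_self_of_two hy2, fun s hs => ?_⟩ (y : CU).2)
    obtain ⟨⟨p, q⟩, hpq⟩ := hmb.2 ⟨s, hs⟩
    rw [show s = (p : G) * q from (congrArg Subtype.val hpq).symm]
    exact ((p.2.2.2 _ (y : CU).2.1).symm).mul_right (congrArg Subtype.val (Subgroup.mem_center_iff.1 y.2 q)).symm
  rw [hCU1, Subgroup.card_bot, mul_one] at key'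
  refine ⟨key', fun s hs => ?_⟩
  obtain ⟨⟨p, q⟩, hpq⟩ := hmb.2 ⟨s, hs⟩
  rw [show s = (p : G) * q from (congrArg Subtype.val hpq).symm,
    (Subgroup.eq_bot_iff_forall _).1 hCU1 q q.2, mul_one]
  exact p.2.2.1

end Hyp

end CfsgLib.SelfSix
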