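import Cfsg.Agent.Lib.SelfSix.Setup
import Cfsg.Agent.Lib.SelfSix.Amalgam
import Cfsg.Agent.Lib.SelfSix.Normalizer
import Cfsg.Agent.Lib.Elementary

/-!
A second central involution in `T` forces `J₁`.
-/

set_option autoImplicit false
set_option linter.unusedSectionVars false
set_option linter.style.haveILetI false

namespace CfsgLib.SelfSix

open Cfsg

universe u

variable {G : Type u} [Group G] [Finite G] {z w : G} {T D : Subgroup G}

theorem two_perm_four_center : ∀ p : Multiplicative (ZMod 2) × Equiv.Perm (Fin 4), (∀ q, p * q = q * p) → p.2 = 1 := by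
  decide +kernel

theorem two_perm_four_sq : ∀ p : Multiplicative (ZMod 2) × Equiv.Perm (Fin 4), (p * p).1 = 1 := by decide +kernel

theorem perm_four_center : ∀ σ : Equiv.Perm (Fin 4), (∀ τ, σ * τ = τ * σ) → σ = 1 := by decide +kernel

/-- A normal subgroup of a 2-group meets the centre. -/
theorem meets_center {S M : Subgroup G} (hS : IsPGroup 2 S) (hMS : M ≤ S)
    (hn : ∀ s ∈ S, ∀ m ∈ M, s * m * s⁻¹ ∈ M) (hM : M ≠ ⊥) :
    ∃ v ∈ M, orderOf v = 2 ∧ ∀ x ∈ S, Commute v x := by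
  haveI : Fact (Nat.Prime 2) := ⟨Nat.prime_two⟩
  haveI := hS.isNilpotent
  haveI : (M.subgroupOf S).Normal := ⟨fun m hm g => hn g g.2 m hm⟩
  have hne : M.subgroupOf S ≠ ⊥ := fun e => hM ((Subgroup.eq_bot_iff_forall M).2 fun m hm => by
    have h' : (⟨m, hMS hm⟩ : S) ∈ M.subgroupOf S := hm
    rw [e, Subgroup.mem_bot] at h'
    exact congrArg (fun x : S => (x : G)) h')
  have h1 := CfsgLib.inf_center_ne_bot_of_nilpotent hne
  set K := M.subgroupOf S ⊓ Subgroup.center S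
  haveI : Nontrivial K := (Subgroup.nontrivial_iff_ne_bot K).2 h1
  obtain ⟨n, hn', hc⟩ := (hS.to_subgroup K).nontrivial_iff_card.1 this
  obtain ⟨v, hv⟩ := exists_prime_orderOf_dvd_card' (G := K) 2 (hc ▸ dvd_pow_self 2 hn'.ne')
  refine ⟨((v : S) : G), v.2.1, ?_, fun x hx => ?_⟩
  · rw [Subgroup.orderOf_coe, Subgroup.orderOf_coe, hv]
  · exact (congrArg Subtype.val (Subgroup.mem_center_iff.1 v.2.2 ⟨x, hx⟩)).symm

namespace Nil

variable (N : Nil G z w T D)
include N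

/-- One of the two groups of the amalgam. -/
theorem side (hD : D = ⊥) {a : G} (ha : a ∈ T) (ha1 : a ≠ 1) (haz : a ≠ z) (hac : ∀ t ∈ T, Commute a t)
    (S : Sylow 2 G) (hSC : (S : Subgroup G) ≤ cen z) (hS2 : Nat.card (S : Subgroup G) = 2 * Nat.card T)
    (act : ∃ b ∈ (S : Subgroup G), b * b = 1 ∧ (∀ r ∈ (S : Subgroup G), Commute b r) ∧ ∃ p ∈ cen z, ¬ Commute p b) :
    Side (cen z) (S : Subgroup G) := by
  haveI : Fact (Nat.Prime 2) := ⟨Nat.prime_two⟩
  obtain ⟨s, hs, hsT, htop⟩ : ∃ s, Inverts z w s ∧ s ∉ T ∧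
      ∀ g ∈ cen z, ∃ x ∈ T, ∃ d ∈ D, ∃ i : ℕ, g = x * d * w ^ i ∨ g = x * d * w ^ i * s := by
    rcases N.top_split hD with ⟨S', hS', -⟩ | ⟨s, -, hs, hsT, -, h⟩
    · exfalso
      have h1 : Nat.card (S' : Subgroup G) = Nat.card T := by rw [show (S' : Subgroup G) = T from Subgroup.ext hS']
      rw [Sylow.card_eq_multiplicity, ← Sylow.card_eq_multiplicity S, hS2] at h1
      have := Nat.card_pos (α := T)
      omega
    · exact ⟨s, hs, hsT, h⟩
  obtain ⟨-, hcore, hquot⟩ := N.index_six hD hs hsT htop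
  have hO : pCoreOf 2 (cen z) = T := by
    rw [pCoreOf, hcore, Subgroup.subgroupOf_map_subtype, inf_eq_left.mpr N.hTC]
  refine ⟨hSC, S.2, fun Q hQ _ hle => S.3 hQ hle, fun c hc hcT => ?_, hquot, act⟩
  rw [hO] at hcT ⊢
  obtain ⟨x, hx, d, hd, i, e⟩ := htop c hc
  rw [hD, Subgroup.mem_bot] at hd
  rw [hd, mul_one] at e
  rcases e with e | e
  · obtain ⟨k, hk⟩ := N.pair_two hD ha ha1 haz hc (hcT a ha)
    rw [e] at hk
    rw [e, N.twist_trivial hx i hk, mul_one]
    exact hx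
  exfalso
  have hwa : ∀ t ∈ T, Commute (w * a * w⁻¹) t := fun t ht => by
    have := N.normT w⁻¹ (inv_mem N.base.w_cen) t ht
    rw [inv_inv] at this
    have h2 := commute_conj w (hac _ this)
    rwa [show w * (w⁻¹ * t * w) * w⁻¹ = t by group] at h2
  have key : ∀ b ∈ T, (∀ t ∈ T, Commute b t) → w ^ i * (s * b * s⁻¹) * (w ^ i)⁻¹ = b := by
    intro b hb hbc
    have h1 : c * b * c⁻¹ = b := by rw [(hcT b hb).eq, mul_inv_cancel_right]
    calc w ^ i * (s * b * s⁻¹) * (w ^ i)⁻¹ = x⁻¹ * (c * b * c⁻¹) * x := by rw [e]; group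
      _ = x⁻¹ * (b * x) := by rw [h1, mul_assoc]
      _ = b := by rw [(hbc x hx).eq, inv_mul_cancel_left]
  have h2 := key _ (N.wT a ha) hwa
  have hsw : s * w = w⁻¹ * s := mul_inv_eq_iff_eq_mul.1 hs.2.1
  have h3 : w⁻¹ * a * w = w * a * w⁻¹ := by
    calc w⁻¹ * a * w = w⁻¹ * (w ^ i * (s * a * s⁻¹) * (w ^ i)⁻¹) * w := by rw [key a ha hac]
      _ = w ^ i * ((w⁻¹ * s) * a * (w⁻¹ * s)⁻¹) * (w ^ i)⁻¹ := by group
      _ = w ^ i * ((s * w) * a * (s * w)⁻¹) * (w ^ i)⁻¹ := by rw [hsw]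
      _ = w ^ i * (s * (w * a * w⁻¹) * s⁻¹) * (w ^ i)⁻¹ := by group
      _ = w * a * w⁻¹ := h2
  have h4 : w * (w * a * w⁻¹) * w⁻¹ = a := by rw [← h3]; group
  have hinv : w⁻¹ = w * w := inv_eq_of_mul_eq_one_right (by rw [← mul_assoc, N.w_three])
  have h5 : Commute a w⁻¹ := by
    rw [hinv]
    refine (mul_inv_eq_iff_eq_mul.1 ?_).symm
    calc w * w * a * (w * w)⁻¹ = w * (w * a * w⁻¹) * w⁻¹ := by group
      _ = a := h4
  rcases N.T_zero ha (by simpa using h5.inv_right) with e | e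
  · exact ha1 e
  · exact haz e

theorem central_case [IsSimpleGroup G] (hG : ¬ IsMulCommutative G) (hD : D = ⊥) {a₀ : G} (ha₀ : a₀ ∈ T)
    (ha₀2 : a₀ * a₀ = 1) (ha₀1 : a₀ ≠ 1) (ha₀z : a₀ ≠ z) (ha₀c : ∀ t ∈ T, Commute a₀ t) :
    Cfsg.Spor.IsoJ1 G := by
  haveI : Fact (Nat.Prime 2) := ⟨Nat.prime_two⟩
  haveI : Fact (Nat.Prime 3) := ⟨Nat.prime_three⟩
  have H := N.base
  rcases N.top_split hD with ⟨S, hS, -⟩ | ⟨s, S, hs, hsT, hS, htop⟩
  · have hST : (S : Subgroup G) = T := Subgroup.ext hS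
    obtain ⟨h8, hel⟩ := H.ns S (hST ▸ N.hTC) (by
      show w ∈ Subgroup.normalizer ((S : Subgroup G) : Set G)
      rw [hST]; exact N.w_norm) ((hS a₀).2 ha₀) (orderOf_two ha₀2 ha₀1) ha₀z
      fun t ht => ha₀c t ((hS t).1 ht)
    exact H.isoJ1_of_eight hG S h8 hel
  let E : Subgroup G :=
    { carrier := {x | x ∈ T ∧ x * x = 1 ∧ ∀ t ∈ T, Commute x t}
      one_mem' := ⟨one_mem _, one_mul 1, fun t _ => Commute.one_left t⟩
      mul_mem' := fun {x y} hx hy => ⟨mul_mem hx.1 hy.1, by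
        rw [mul_assoc, ← mul_assoc y x, ← (hx.2.2 y hy.1).eq, mul_assoc x y, hy.2.1, mul_one, hx.2.1],
        fun t ht => (hx.2.2 t ht).mul_left (hy.2.2 t ht)⟩
      inv_mem' := fun {x} hx => ⟨inv_mem hx.1, by rw [← mul_inv_rev, hx.2.1, inv_one],
        fun t ht => (hx.2.2 t ht).inv_left⟩ }
  have hEn : ∀ c ∈ cen z, ∀ x ∈ E, c * x * c⁻¹ ∈ E := fun c hc x hx => ⟨N.normT c hc x hx.1,
    by rw [conj_mul, hx.2.1, mul_one, mul_inv_cancel], fun t ht => by
      have := N.normT c⁻¹ (inv_mem hc) t ht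
      rw [inv_inv] at this
      have h2 := commute_conj c (hx.2.2 _ this)
      rwa [show c * (c⁻¹ * t * c) * c⁻¹ = t by group] at h2⟩
  obtain ⟨a, ⟨ha, haa, hac⟩, ha1, haz, has⟩ := N.exists_fixed hs E (fun x hx => hx.1) (fun x hx => hx.2.1)
    (fun x hx => hEn w H.w_cen x hx) (fun x hx => hEn s (mem_cen.2 hs.1) x hx)
    (show a₀ ∈ E from ⟨ha₀, ha₀2, ha₀c⟩) ha₀1 ha₀z
  have ha2 := orderOf_two haa ha1
  have hTS : T ≤ (S : Subgroup G) := fun t ht => (hS t).2 (Or.inl ht)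
  have hSC : (S : Subgroup G) ≤ cen z := fun g hg => by
    rcases (hS g).1 hg with h | h
    · exact N.hTC h
    · rw [← inv_mul_cancel_right g s]; exact mul_mem (N.hTC h) (mem_cen.2 hs.1)
  have haS : ∀ r ∈ (S : Subgroup G), Commute a r := fun r hr => by
    rcases (hS r).1 hr with h | h
    · exact hac r h
    · have := (hac _ h).mul_right has
      rwa [inv_mul_cancel_right] at this
  have hzS : ∀ r ∈ (S : Subgroup G), Commute z r := fun r hr => (mem_cen.1 (hSC hr)).symm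
  have hSa : (S : Subgroup G) ≤ cen a := fun g hg => mem_cen.2 (haS g hg).symm
  have hR : (S : Subgroup G) = cen z ⊓ cen a := le_antisymm (le_inf hSC hSa) fun c hc =>
    (hS c).2 (N.pair_mem_s hD hs htop ha ha1 haz has hc.1 (mem_cen.1 hc.2))
  have hS2 : Nat.card (S : Subgroup G) = 2 * Nat.card T :=
    N.card_sylow_of_inverting hD (mem_cen.2 hs.1) hs.2.1 S
  obtain ⟨g₀, hg₀⟩ := H.exists_conj ha2
  obtain ⟨g, rfl⟩ : ∃ g : G, g * z * g⁻¹ = a := ⟨g₀⁻¹, by rw [← hg₀]; group⟩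
  have N' := N.map g
  have hD' : D.map (MulAut.conj g).toMonoidHom = ⊥ := by rw [hD, Subgroup.map_bot]
  set a := g * z * g⁻¹
  have side1 : Side (cen z) (S : Subgroup G) := N.side hD ha ha1 haz hac S hSC hS2
    ⟨a, hTS ha, haa, haS, w, H.w_cen, fun h => (N.T_zero ha h.symm).elim ha1 haz⟩
  have hw'z : ¬ Commute (g * w * g⁻¹) z := fun h => by
    rcases N'.base.cent_two (g := z) (hzS a (hTS ha)) h.symm (k := 1)
      (by rw [pow_one, pow_two, mul_self_of_two H.hz]) with e | e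
    · exact ne_one_of_two H.hz e
    · exact haz e.symm
  have side2 : Side (cen a) (S : Subgroup G) := by
    refine N'.side hD' (a := g * a * g⁻¹) ⟨a, ha, rfl⟩ (fun e => ha1 (conj_eq_one_iff.1 e))
      (fun e => haz (mul_left_cancel (mul_right_cancel (e : g * a * g⁻¹ = g * z * g⁻¹)))) ?_ S hSa ?_
      ⟨z, hTS N.zT, mul_self_of_two H.hz, hzS, _, N'.base.w_cen, hw'z⟩
    · rintro _ ⟨t, ht, rfl⟩
      exact commute_conj g (hac t ht)
    · rw [hS2, Subgroup.card_map_of_injective (MulAut.conj g).injective]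
  by_cases hM : ∃ M : Subgroup G, M ≤ (S : Subgroup G) ∧ (∀ p ∈ cen z, ∀ m ∈ M, p * m * p⁻¹ ∈ M) ∧
      (∀ p ∈ cen a, ∀ m ∈ M, p * m * p⁻¹ ∈ M) ∧ M ≠ ⊥
  · obtain ⟨M, hMS, h1, h2, hMne⟩ := hM
    obtain ⟨v, hvM, hv2, hvS⟩ := meets_center S.2 hMS (fun t ht => h1 t (hSC ht)) hMne
    set X := cen z ⊔ cen a
    have hXM : ∀ x ∈ X, ∀ m ∈ M, x * m * x⁻¹ ∈ M := by
      have hle : X ≤ Subgroup.normalizer (M : Set G) := sup_le
        (fun x hx => Subgroup.mem_normalizer_fintype fun m hm => h1 x hx m hm)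
        (fun x hx => Subgroup.mem_normalizer_fintype fun m hm => h2 x hx m hm)
      exact fun x hx m hm => (Subgroup.mem_normalizer_iff.1 (hle hx) m).1 hm
    set Y := X ⊓ Subgroup.centralizer (M : Set G)
    have hthree : ∀ y ∈ Y, ¬ 3 ∣ orderOf y := by
      rintro y hy ⟨n, hn⟩
      have hy' : y ^ n ∈ Y := pow_mem hy n
      have ho : orderOf (y ^ n) = 3 := by
        rw [orderOf_pow_of_dvd (fun e => (orderOf_pos y).ne' (by rw [hn, e, mul_zero])) (hn ▸ dvd_mul_left _ _), hn]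
        exact Nat.mul_div_cancel _ (Nat.pos_of_ne_zero fun e => (orderOf_pos y).ne' (by rw [hn, e, mul_zero]))
      have hcy : ∀ m ∈ M, Commute m (y ^ n) := fun m hm => Subgroup.mem_centralizer_iff.1 hy'.2 m hm
      have hMv : ∀ m ∈ M, m = 1 ∨ m = v := by
        intro m hm
        obtain ⟨k, hk⟩ := S.2 ⟨m, hMS hm⟩
        exact H.cent_two' hv2 ho (hcy v hvM) (hvS m (hMS hm)).symm (hcy m hm)
          (congrArg Subtype.val hk : m ^ 2 ^ k = 1)
      have hvX : ∀ x ∈ X, Commute x v := fun x hx => by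
        rcases hMv _ (hXM x hx v hvM) with e | e
        · exact absurd (conj_eq_one_iff.1 e) (ne_one_of_two hv2)
        · exact mul_inv_eq_iff_eq_mul.1 e
      have hvz : v = z := (H.cent_two (mem_cen.1 (hSC (hMS hvM))) (hvX w (Subgroup.mem_sup_left H.w_cen)).symm
        (k := 1) (by rw [pow_one, pow_two, mul_self_of_two hv2])).resolve_left (ne_one_of_two hv2)
      exact hw'z (hvz ▸ hvX _ (Subgroup.mem_sup_right N'.base.w_cen))
    have hY2 : IsPGroup 2 Y := by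
      intro y
      obtain ⟨c, hc⟩ := H.exists_conj hv2
      have hyv : Commute (y : G) v := (Subgroup.mem_centralizer_iff.1 y.2.2 v hvM : Commute v (y : G)).symm
      obtain ⟨k, hk⟩ := N.two_of_not_three hD (x := c * (y : G) * c⁻¹) (mem_cen.2 (hc ▸ commute_conj c hyv))
        (by rw [orderOf_conj]; exact hthree _ y.2)
      refine ⟨k, Subtype.ext ?_⟩
      rw [conj_pow] at hk
      exact conj_eq_one_iff.1 hk
    refine (N.loc hG hD X Y le_sup_left (fun h => hw'z (mem_cen.1 (h (Subgroup.mem_sup_right N'.base.w_cen))))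
      hY2 ⟨Subgroup.mem_sup_left H.z_cen, Subgroup.mem_centralizer_iff.2 fun m hm => (mem_cen.1 (hSC (hMS hm)))⟩
      inf_le_left ?_).resolve_right fun h => (h.2 a ha haa hac).elim ha1 haz
    intro x hx y hy
    refine ⟨X.mul_mem (X.mul_mem hx hy.1) (X.inv_mem hx), Subgroup.mem_centralizer_iff.2 fun m hm => ?_⟩
    have := hXM x⁻¹ (inv_mem hx) m hm
    rw [inv_inv] at this
    have h3 : Commute (x⁻¹ * m * x) y := Subgroup.mem_centralizer_iff.1 hy.2 _ this
    have h4 := commute_conj x h3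
    rwa [show x * (x⁻¹ * m * x) * x⁻¹ = m by group] at h4
  exfalso
  have hcase := sfour side1 side2 hR fun M h1 h2 h3 => by_contra fun h => hM ⟨M, h1, h2, h3, h⟩
  have hzc : ∀ y : cen z, Commute (zin z) y := fun y => (zin_central z y).symm
  have hz1 : zin z ≠ 1 := fun e => ne_one_of_two H.hz (congrArg Subtype.val e)
  rcases hcase with ⟨⟨e⟩, -⟩ | ⟨⟨e⟩, -⟩
  · exact hz1 (e.map_eq_one_iff.1 (perm_four_center _ fun τ => by
      have := (hzc (e.symm τ)).map e
      simpa using this.eq))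
  · set r : Equiv.Perm (Fin 4) := Equiv.swap 0 1 * Equiv.swap 1 2 * Equiv.swap 2 3
    have hr : (r * r) * (r * r) = 1 ∧ r * r ≠ 1 := by decide
    set y := e.symm (1, r)
    have hy : e (y * y) = (1, r * r) := by rw [map_mul, e.apply_symm_apply, Prod.mk_mul_mk, one_mul]
    have hyo : orderOf ((y : G) * y) = 2 := by
      refine orderOf_two ?_ fun h => hr.2 ?_
      · have : y * y * (y * y) = 1 := e.injective (by rw [map_mul, hy, Prod.mk_mul_mk, one_mul, hr.1, map_one]; rfl)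
        exact congrArg Subtype.val this
      · have h' : e (y * y) = 1 := by rw [show y * y = 1 from Subtype.ext h, map_one]
        rw [hy] at h'
        exact congrArg Prod.snd h'
    obtain ⟨h, hh, hhh⟩ := H.sq_root hyo
    refine hz1 (e.map_eq_one_iff.1 (Prod.ext ?_ (two_perm_four_center _ fun q => by
      have := (hzc (e.symm q)).map e
      simpa using this.eq)))
    rw [show zin z = (⟨h, hh⟩ : cen z) * ⟨h, hh⟩ from Subtype.ext hhh.symm, map_mul, two_perm_four_sq]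
    rfl

end Nil

end CfsgLib.SelfSix
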