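import Cfsg.Agent.Lib.SelfSix.Loc
import Cfsg.Agent.Lib.FpfOrderThree

/-!
`T` has class two modulo `z`; centralisers of pairs of commuting involutions in `T`.
-/

set_option autoImplicit false
set_option linter.unusedSectionVars false
set_option linter.style.haveILetI false

namespace CfsgLib.SelfSix

open Cfsg
open scoped commutatorElement

universe u

variable {G : Type u} [Group G] {z w : G} {T D : Subgroup G}

namespace Nil

variable (N : Nil G z w T D)
include N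

theorem w_three : w * w * w = 1 := by
  rw [← pow_three', show w ^ 3 = 1 from N.base.hw ▸ pow_orderOf_eq_one w]

theorem wT2 {x : G} (hx : x ∈ T) : w * w * x * (w * w)⁻¹ ∈ T :=
  N.normT _ (mul_mem N.base.w_cen N.base.w_cen) x hx

theorem z_comm {x : G} (hx : x ∈ T) : Commute x z := mem_cen.1 (N.hTC hx)

/-- An element of `T` fixed by `w` modulo `z`. -/
theorem w_fix {x : G} (hx : x ∈ T) (h : w * x * w⁻¹ = x ∨ w * x * w⁻¹ = x * z) : x = 1 ∨ x = z := by
  refine N.T_zero hx ?_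
  rcases h with h | h
  · exact (mul_inv_eq_iff_eq_mul.1 h).symm
  have h2 : w * w * x * (w * w)⁻¹ = x := by
    calc w * w * x * (w * w)⁻¹ = w * (w * x * w⁻¹) * w⁻¹ := by group
      _ = w * (x * z) * w⁻¹ := by rw [h]
      _ = w * x * w⁻¹ * (w * z * w⁻¹) := by group
      _ = x := by
        rw [h, N.base.hzw.symm.eq, mul_inv_cancel_right, mul_assoc, mul_self_of_two N.base.hz, mul_one]
  have h3 : w⁻¹ = w * w := inv_eq_of_mul_eq_one_right (by rw [← mul_assoc, N.w_three])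
  have h4 : Commute x w⁻¹ := by rw [h3]; exact (mul_inv_eq_iff_eq_mul.1 h2).symm
  simpa using h4.inv_right

/-- An element of `T` fixed by `w` modulo `z` is trivial in the quotient. -/
theorem mod_of_fix {x : G} (hx : x ∈ T) (h : x⁻¹ * (w * x * w⁻¹) = 1 ∨ x⁻¹ * (w * x * w⁻¹) = z) :
    x = 1 ∨ x = z :=
  N.w_fix hx (h.imp (fun e => (inv_mul_eq_one.1 e).symm) fun e => inv_mul_eq_iff_eq_mul.1 e)

theorem image_normal : ((T.subgroupOf (cen z)).map (proj z)).Normal :=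
  haveI : (T.subgroupOf (cen z)).Normal := ⟨fun x hx g => N.normT g g.2 x hx⟩
  Subgroup.Normal.map inferInstance _ (QuotientGroup.mk'_surjective _)

theorem image_fpf : ∀ v ∈ (T.subgroupOf (cen z)).map (proj z),
    Commute (proj z ⟨w, N.base.w_cen⟩) v → v = 1 := by
  rintro _ ⟨x, hx, rfl⟩ hc
  have hcw : proj z (⟨w, N.base.w_cen⟩ * x * ⟨w, N.base.w_cen⟩⁻¹) = proj z x := by
    rw [map_mul, map_mul, map_inv, hc.eq, mul_inv_cancel_right]
  refine (proj_one N.base.hz).2 (N.w_fix hx ?_)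
  rcases proj_eq N.base.hz hcw.symm with e | e
  · exact Or.inl e
  · exact Or.inr e

theorem wbar_three : proj z ⟨w, N.base.w_cen⟩ ^ 3 = 1 := by
  rw [← map_pow, show (⟨w, N.base.w_cen⟩ : cen z) ^ 3 = 1 from Subtype.ext (N.base.hw ▸ pow_orderOf_eq_one w),
    map_one]

variable [Finite G]

theorem image_two : IsPGroup 2 ((T.subgroupOf (cen z)).map (proj z)) :=
  (N.hT.of_equiv (Subgroup.subgroupOfEquivOfLe N.hTC).symm).map _

/-- The product over a `w`-orbit. -/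
theorem orbit {x : G} (hx : x ∈ T) :
    x * (w * x * w⁻¹) * (w * w * x * (w * w)⁻¹) = 1 ∨ x * (w * x * w⁻¹) * (w * w * x * (w * w)⁻¹) = z := by
  haveI := N.image_normal
  have h := CfsgLib.FpfThree.orbit_prod N.wbar_three N.image_fpf
    (v := proj z ⟨x, N.hTC hx⟩) ⟨_, hx, rfl⟩
  simp only [← map_mul, ← map_inv] at h
  exact (proj_one N.base.hz).1 h

/-- An element and its image commute modulo `z`. -/
theorem comm_w {x : G} (hx : x ∈ T) : ⁅x, w * x * w⁻¹⁆ = 1 ∨ ⁅x, w * x * w⁻¹⁆ = z := by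
  haveI := N.image_normal
  have h := CfsgLib.FpfThree.comm_orbit N.wbar_three N.image_fpf
    (v := proj z ⟨x, N.hTC hx⟩) ⟨_, hx, rfl⟩
  have h' := commutatorElement_eq_one_iff_commute.2 h
  simp only [commutatorElement_def, ← map_mul, ← map_inv] at h'
  exact (proj_one N.base.hz).1 h'

/-- An involution commutes with its image. -/
theorem invol_comm {x : G} (hx : x ∈ T) (hxx : x * x = 1) : Commute x (w * x * w⁻¹) := by
  set y := w * x * w⁻¹ with hy
  set u := w * w * x * (w * w)⁻¹ with hu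
  have hyy : y * y = 1 := by rw [hy, conj_mul, hxx, mul_one, mul_inv_cancel]
  have huu : u * u = 1 := by rw [hu, conj_mul, hxx, mul_one, mul_inv_cancel]
  have hsq : x * y * (x * y) = 1 := by
    rcases N.orbit hx with e | e <;> rw [← hy, ← hu] at e
    · rw [eq_inv_of_mul_eq_one_left e, inv_eq_of_mul_eq_one_right huu, huu]
    · have e' : x * y = z * u := by rw [← e, mul_assoc (x * y), huu, mul_one]
      have hzu : Commute u z := N.z_comm (N.wT2 hx)
      rw [e', mul_assoc, ← mul_assoc u, hzu.eq, mul_assoc z u, huu, mul_one, mul_self_of_two N.base.hz]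
  show x * y = y * x
  calc x * y = (x * y)⁻¹ := eq_inv_of_mul_eq_one_left hsq
    _ = y * x := by rw [mul_inv_rev, inv_eq_of_mul_eq_one_right hyy, inv_eq_of_mul_eq_one_right hxx]

/-- Commutators are central modulo `z`. -/
theorem class_two {x y t : G} (hx : x ∈ T) (hy : y ∈ T) (ht : t ∈ T) :
    ⁅⁅x, y⁆, t⁆ = 1 ∨ ⁅⁅x, y⁆, t⁆ = z := by
  haveI := N.image_normal
  have h := CfsgLib.FpfThree.class_two N.wbar_three N.image_fpf N.image_two
    (proj z ⟨x, N.hTC hx⟩) ⟨_, hx, rfl⟩ (proj z ⟨y, N.hTC hy⟩) ⟨_, hy, rfl⟩ (proj z ⟨t, N.hTC ht⟩) ⟨_, ht, rfl⟩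
  have h' := commutatorElement_eq_one_iff_commute.2 h.symm
  simp only [commutatorElement_def, ← map_mul, ← map_inv] at h'
  exact (proj_one N.base.hz).1 h'

/-- Moving `w` from one entry of a commutator to the outside. -/
theorem shift {l x : G} (hl : l ∈ T) (hx : x ∈ T) :
    ⁅l, w * x * w⁻¹⁆ = w * w * ⁅l, x⁆ * (w * w)⁻¹ ∨ ⁅l, w * x * w⁻¹⁆ = w * w * ⁅l, x⁆ * (w * w)⁻¹ * z := by
  haveI := N.image_normal
  set d := proj z ⟨w, N.base.w_cen⟩ with hd
  set V := (T.subgroupOf (cen z)).map (proj z) with hV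
  have h2 : ∀ a ∈ V, ∀ b ∈ V, ∀ c ∈ V, Commute c ⁅a, b⁆ :=
    CfsgLib.FpfThree.class_two N.wbar_three N.image_fpf N.image_two
  have hdV : ∀ a ∈ V, d * a * d⁻¹ ∈ V := fun a ha => (inferInstance : V.Normal).conj_mem a ha d
  have hL : ∀ a ∈ V, ∀ b ∈ V, ∀ c ∈ V, ⁅a * b, c⁆ = ⁅b, c⁆ * ⁅a, c⁆ := fun a ha b hb c hc => by
    calc ⁅a * b, c⁆ = a * ⁅b, c⁆ * a⁻¹ * ⁅a, c⁆ := by simp only [commutatorElement_def]; group
      _ = ⁅b, c⁆ * ⁅a, c⁆ := by rw [(h2 b hb c hc a ha).eq, mul_inv_cancel_right]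
  have hR : ∀ a ∈ V, ∀ b ∈ V, ∀ c ∈ V, ⁅a, b * c⁆ = ⁅a, b⁆ * ⁅a, c⁆ := fun a ha b hb c hc => by
    calc ⁅a, b * c⁆ = ⁅a, b⁆ * (b * ⁅a, c⁆ * b⁻¹) := by simp only [commutatorElement_def]; group
      _ = ⁅a, b⁆ * ⁅a, c⁆ := by rw [(h2 a ha c hc b hb).eq, mul_inv_cancel_right]
  have h11 : ∀ a ∈ V, ⁅a, d * a * d⁻¹⁆ = 1 := fun a ha =>
    commutatorElement_eq_one_iff_commute.2 (CfsgLib.FpfThree.comm_orbit N.wbar_three N.image_fpf ha)
  have hlin : ∀ a ∈ V, ∀ b ∈ V, ⁅a, d * b * d⁻¹⁆ = ⁅d * a * d⁻¹, b⁆ := by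
    intro a ha b hb
    have h := h11 (a * b) (mul_mem ha hb)
    rw [← conj_mul, hL a ha b hb _ (mul_mem (hdV a ha) (hdV b hb)), hR b hb _ (hdV a ha) _ (hdV b hb),
      hR a ha _ (hdV a ha) _ (hdV b hb), h11 a ha, h11 b hb, mul_one, one_mul] at h
    rw [← commutatorElement_inv b]
    exact eq_inv_of_mul_eq_one_right h
  have hd3 : d * d * d = 1 := by rw [← pow_three', hd, N.wbar_three]
  have hstep : ∀ a ∈ V, ∀ b ∈ V, d * ⁅a, b⁆ * d⁻¹ = ⁅a, d * (d * b * d⁻¹) * d⁻¹⁆ := by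
    intro a ha b hb
    rw [hlin a ha _ (hdV b hb)]
    simp only [commutatorElement_def]; group
  have key : ∀ a ∈ V, ∀ b ∈ V, ⁅a, d * b * d⁻¹⁆ = d * d * ⁅a, b⁆ * (d * d)⁻¹ := by
    intro a ha b hb
    calc ⁅a, d * b * d⁻¹⁆ = ⁅a, d * (d * (d * (d * b * d⁻¹) * d⁻¹) * d⁻¹) * d⁻¹⁆ := by
          rw [show d * (d * (d * (d * b * d⁻¹) * d⁻¹) * d⁻¹) * d⁻¹ = d * ((d * d * d) * b * (d * d * d)⁻¹) * d⁻¹
            by group, hd3, inv_one, one_mul, mul_one]
      _ = d * ⁅a, d * (d * b * d⁻¹) * d⁻¹⁆ * d⁻¹ := (hstep a ha _ (hdV _ (hdV b hb))).symm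
      _ = d * (d * ⁅a, b⁆ * d⁻¹) * d⁻¹ := by rw [hstep a ha b hb]
      _ = _ := by group
  have h := key (proj z ⟨l, N.hTC hl⟩) ⟨_, hl, rfl⟩ (proj z ⟨x, N.hTC hx⟩) ⟨_, hx, rfl⟩
  simp only [hd, commutatorElement_def, ← map_mul, ← map_inv] at h
  exact proj_eq N.base.hz h.symm

/-- The centre of `T` when it has one involution only. -/
theorem center_small (hZ : ∀ a ∈ T, a * a = 1 → (∀ t ∈ T, Commute a t) → a = 1 ∨ a = z) :
    ∀ y ∈ T, (∀ t ∈ T, Commute y t) → y = 1 ∨ y = z := by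
  suffices h : ∀ k, ∀ y ∈ T, (∀ t ∈ T, Commute y t) → y ^ 2 ^ k = 1 → y = 1 ∨ y = z by
    intro y hy hc
    obtain ⟨k, hk⟩ := N.hT ⟨y, hy⟩
    exact h k y hy hc (congrArg Subtype.val hk)
  intro k
  induction k with
  | zero => intro y _ _ h; exact Or.inl (by simpa using h)
  | succ k ih =>
    intro y hy hc h
    rw [pow_succ', pow_mul, pow_two] at h
    rcases ih (y * y) (mul_mem hy hy) (fun t ht => (hc t ht).mul_left (hc t ht)) h with e | e
    · exact hZ y hy e hc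
    have hwc : ∀ t ∈ T, Commute (w * y * w⁻¹) t := fun t ht => by
      have := N.normT w⁻¹ (inv_mem N.base.w_cen) t ht
      rw [inv_inv] at this
      have h2 := commute_conj w (hc _ this)
      rwa [show w * (w⁻¹ * t * w) * w⁻¹ = t by group] at h2
    refine N.mod_of_fix hy (hZ _ (mul_mem (inv_mem hy) (N.wT y hy)) ?_ fun t ht =>
      (hc t ht).inv_left.mul_left (hwc t ht))
    have hyw : Commute y (w * y * w⁻¹) := hc _ (N.wT y hy)
    calc y⁻¹ * (w * y * w⁻¹) * (y⁻¹ * (w * y * w⁻¹)) = y⁻¹ * ((w * y * w⁻¹) * y⁻¹) * (w * y * w⁻¹) := by group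
      _ = (y * y)⁻¹ * (w * (y * y) * w⁻¹) := by rw [← hyw.inv_left.eq]; group
      _ = 1 := by rw [e, N.base.hzw.symm.eq, mul_inv_cancel_right, inv_mul_cancel]

omit [Finite G] in
/-- A fixed point of `s` in an invariant elementary abelian subgroup. -/
theorem exists_fixed {s : G} (hs : Inverts z w s) (E : Subgroup G) (hET : E ≤ T) (hel : ∀ x ∈ E, x * x = 1)
    (hwE : ∀ x ∈ E, w * x * w⁻¹ ∈ E) (hsE : ∀ x ∈ E, s * x * s⁻¹ ∈ E) {x₀ : G} (hx₀ : x₀ ∈ E) (h1 : x₀ ≠ 1)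
    (h2 : x₀ ≠ z) : ∃ a ∈ E, a ≠ 1 ∧ a ≠ z ∧ Commute a s := by
  by_contra hcon
  push Not at hcon
  have hinv : ∀ x ∈ E, x⁻¹ = x := fun x hx => inv_eq_of_mul_eq_one_right (hel x hx)
  have hab : ∀ x ∈ E, ∀ y ∈ E, x * y = y * x := fun x hx y hy => by
    have := hinv _ (mul_mem hx hy)
    rw [mul_inv_rev, hinv x hx, hinv y hy] at this
    exact this.symm
  have hfix : ∀ y ∈ E, s * y * s⁻¹ = y → y = 1 ∨ y = z := by
    intro y hy hy'
    by_contra h
    push Not at h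
    exact hcon y hy h.1 h.2 (mul_inv_eq_iff_eq_mul.1 hy').symm
  have hmov : ∀ x ∈ E, x ≠ 1 → x ≠ z → s * x * s⁻¹ = x * z := by
    intro x hx hx1 hxz
    set y := s * x * s⁻¹ with hy
    have hyE := hsE x hx
    have hss : s * y * s⁻¹ = x := by
      have hc : Commute (s * s) x := by
        rcases hs.2.2 with e | e <;> rw [e]
        · exact Commute.one_left x
        · exact (N.z_comm (hET hx)).symm
      calc s * y * s⁻¹ = s * s * x * (s * s)⁻¹ := by rw [hy]; group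
        _ = x := by rw [hc.eq, mul_inv_cancel_right]
    have hfix' := hfix (x * y) (mul_mem hx hyE) (by
      rw [← conj_mul, hss, ← hy]; exact hab y hyE x hx)
    have he : y = x * (x * y) := by rw [← mul_assoc, hel x hx, one_mul]
    rcases hfix' with e | e
    · exfalso
      have : y = x := by rw [he, e, mul_one]
      exact hcon x hx hx1 hxz (mul_inv_eq_iff_eq_mul.1 this).symm
    · rw [he, e]
  set y := w * x₀ * w⁻¹ with hy
  have hyE := hwE x₀ hx₀
  have hy1 : y ≠ 1 := fun e => h1 (conj_eq_one_iff.1 e)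
  have hyz : y ≠ z := fun e => h2 (by
    rw [show x₀ = w⁻¹ * y * w by rw [hy]; group, e, N.base.hzw.symm.inv_left.eq, inv_mul_cancel_right])
  have hfix' := hfix (x₀ * y) (mul_mem hx₀ hyE) (by
    rw [← conj_mul, hmov x₀ hx₀ h1 h2, hmov y hyE hy1 hyz, mul_assoc, ← mul_assoc z,
      ← (N.z_comm (hET hyE)).eq, mul_assoc y, mul_self_of_two N.base.hz, mul_one])
  have he : y = x₀ * (x₀ * y) := by rw [← mul_assoc, hel x₀ hx₀, one_mul]
  rcases N.w_fix (hET hx₀) (hfix'.imp (fun e => by show y = x₀; rw [he, e, mul_one]) fun e => by show y = x₀ * z; rw [he, e]) with e | e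
  · exact h1 e
  · exact h2 e

omit [Finite G] in
theorem pow_twist {t : G} (ht : t ∈ T) (i : ℕ) : ∀ n : ℕ, ∃ u ∈ T, (t * w ^ i) ^ n = u * w ^ (i * n) := by
  intro n
  induction n with
  | zero => exact ⟨1, one_mem _, by simp⟩
  | succ n ih =>
    obtain ⟨u, hu, e⟩ := ih
    refine ⟨u * (w ^ (i * n) * t * (w ^ (i * n))⁻¹), mul_mem hu (N.normT _ (pow_mem N.base.w_cen _) t ht), ?_⟩
    rw [pow_succ, e, show i * (n + 1) = i * n + i by ring, pow_add]
    group

omit [Finite G] in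
theorem twist_trivial {t : G} (ht : t ∈ T) (i : ℕ) {k : ℕ} (h : (t * w ^ i) ^ 2 ^ k = 1) : w ^ i = 1 := by
  obtain ⟨u, hu, e⟩ := N.pow_twist ht i (2 ^ k)
  rw [h] at e
  have hmem : w ^ (i * 2 ^ k) ∈ T := by rw [eq_inv_of_mul_eq_one_right e.symm]; exact inv_mem hu
  obtain ⟨m, hm⟩ := N.hT ⟨_, hmem⟩
  have hm' : (w ^ i) ^ 2 ^ (k + m) = 1 := by
    rw [pow_add, ← pow_mul, ← mul_assoc, pow_mul]
    exact congrArg Subtype.val hm
  exact orderOf_eq_one_iff.1 (Nat.eq_one_of_dvd_coprimes ((by norm_num : Nat.Coprime 2 3).pow_left (k + m))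
    (orderOf_dvd_of_pow_eq_one hm') (N.base.hw ▸ orderOf_pow_dvd i))

/-- The centraliser of two commuting involutions of `T` is a 2-group. -/
theorem pair_two (hD : D = ⊥) {a : G} (ha : a ∈ T) (ha1 : a ≠ 1) (haz : a ≠ z) {c : G} (hc : c ∈ cen z)
    (hca : Commute c a) : ∃ k, c ^ 2 ^ k = 1 := by
  refine N.two_of_not_three hD hc fun h3 => ?_
  obtain ⟨m, hm⟩ := h3
  have ho : orderOf (c ^ m) = 3 := by
    rw [orderOf_pow_of_dvd (fun e => (orderOf_pos c).ne' (by rw [hm, e, mul_zero])) (hm ▸ dvd_mul_left _ _), hm]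
    exact Nat.mul_div_cancel _ (Nat.pos_of_ne_zero fun e => (orderOf_pos c).ne' (by rw [hm, e, mul_zero]))
  obtain ⟨g, hgz, hgy⟩ := N.base.three_conj N.base.hz ho ((mem_cen.1 (pow_mem hc m)).symm)
  have hgC : g ∈ cen z := mem_cen.2 (mul_inv_eq_iff_eq_mul.1 hgz)
  set a' := g * a * g⁻¹
  have ha' : a' ∈ T := N.normT g hgC a ha
  have hc' : Commute a' (g * c ^ m * g⁻¹) := commute_conj g (hca.symm.pow_right m)
  have hw' : Commute a' w := by
    rcases hgy with e | e <;> rw [e] at hc'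
    · exact hc'
    · have e4 : w * w * (w * w) = w := by rw [← mul_assoc, N.w_three, one_mul]
      exact e4 ▸ hc'.mul_right hc'
  rcases N.T_zero ha' hw' with e | e
  · exact ha1 (conj_eq_one_iff.1 e)
  · refine haz (mul_left_cancel (mul_right_cancel ((e : g * a * g⁻¹ = z).trans hgz.symm)))

/-- Without an inverting element the centraliser of `z` and `a` lies in `T`. -/
theorem pair_mem (hD : D = ⊥) (htop : ∀ g ∈ cen z, ∃ x ∈ T, ∃ d ∈ D, ∃ i : ℕ, g = x * d * w ^ i)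
    {a : G} (ha : a ∈ T) (ha1 : a ≠ 1) (haz : a ≠ z) {c : G} (hc : c ∈ cen z)
    (hca : Commute c a) : c ∈ T := by
  obtain ⟨x, hx, d, hd, i, e⟩ := htop c hc
  obtain ⟨k, hk⟩ := N.pair_two hD ha ha1 haz hc hca
  rw [hD, Subgroup.mem_bot] at hd
  rw [hd, mul_one] at e
  rw [e] at hk
  rw [e, N.twist_trivial hx i hk, mul_one]
  exact hx

/-- With an inverting element fixing `a`. -/
theorem pair_mem_s (hD : D = ⊥) {s : G} (hs : Inverts z w s)
    (htop : ∀ g ∈ cen z, ∃ x ∈ T, ∃ d ∈ D, ∃ i : ℕ, g = x * d * w ^ i ∨ g = x * d * w ^ i * s)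
    {a : G} (ha : a ∈ T) (ha1 : a ≠ 1) (haz : a ≠ z) (has : Commute a s) {c : G} (hc : c ∈ cen z)
    (hca : Commute c a) : c ∈ T ∨ c * s⁻¹ ∈ T := by
  obtain ⟨x, hx, d, hd, i, e⟩ := htop c hc
  rw [hD, Subgroup.mem_bot] at hd
  rw [hd, mul_one] at e
  rcases e with e | e
  · obtain ⟨k, hk⟩ := N.pair_two hD ha ha1 haz hc hca
    rw [e] at hk
    left
    rw [e, N.twist_trivial hx i hk, mul_one]
    exact hx
  · have e' : c * s⁻¹ = x * w ^ i := by rw [e, mul_inv_cancel_right]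
    have hcs : c * s⁻¹ ∈ cen z := mul_mem hc (inv_mem (mem_cen.2 hs.1))
    obtain ⟨k, hk⟩ := N.pair_two hD ha ha1 haz hcs (hca.mul_left has.symm.inv_left)
    rw [e'] at hk
    right
    rw [e', N.twist_trivial hx i hk, mul_one]
    exact hx

end Nil

end CfsgLib.SelfSix
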