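import Cfsg.Agent.Lib.SelfSix.Normalizer
import Cfsg.Agent.Lib.WalterUse.Ward.Final
import Cfsg.Agent.Lib.JTType.PSLTwo

/-!
An elementary abelian Sylow 2-subgroup of order eight leads to `J₁`.
-/

set_option autoImplicit false
set_option linter.unusedSectionVars false
set_option linter.style.haveILetI false

namespace CfsgLib.SelfSix

open Cfsg CfsgLib

universe u

variable {G : Type u} [Group G] {z w : G}

/-- In `PSL₂` in characteristic two the elements centralising an involution square to one. -/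
theorem even_sq {F : Type*} [Field F] [Fintype F] [CharP F 2] {x g : Matrix.ProjectiveSpecialLinearGroup (Fin 2) F}
    (hx : x * x = 1) (hx1 : x ≠ 1) (hg : Commute g x) : g * g = 1 := by
  have hu : PSL2.uu (1 : F) * PSL2.uu 1 = 1 := by
    rw [PSL2.uu, ← map_mul, ← ofAdd_add, CharTwo.add_self_eq_zero, ofAdd_zero, map_one]
  have hu1 : PSL2.uu (1 : F) ≠ 1 := fun e => one_ne_zero (α := F) (PSL2.uu_injective (by
    rw [e, PSL2.uu, ofAdd_zero, map_one]))
  obtain ⟨c, hc⟩ := isConj_iff.1 (JT.invol_conj hx hx1 hu hu1)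
  obtain ⟨A, hA⟩ := JT.mk_surj (c * g * c⁻¹)
  have hAu : PSL2.mk (A * PSL2.uSL 1) = PSL2.mk (PSL2.uSL 1 * A) := by
    rw [map_mul, map_mul, hA, ← PSL2.uu_eq, ← hc]
    exact (hg.map (MulAut.conj c).toMonoidHom).eq
  have hneg : ∀ M : Matrix (Fin 2) (Fin 2) F, -M = M := fun M => by
    ext i j; exact CharTwo.neg_eq _
  have hm : (PSL2.uSL 1 * A).1 = (A * PSL2.uSL 1).1 := by
    rcases PSL2.mk_eq_mk.1 hAu with e | e
    · exact e
    · rwa [hneg] at e
  have h00 : A.1 0 0 + A.1 1 0 = A.1 0 0 := by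
    have := congrFun (congrFun hm 0) 0
    simpa [PSL2.coe_uSL, Matrix.mul_apply, Fin.sum_univ_two] using this
  have h01 : A.1 0 1 + A.1 1 1 = A.1 0 0 + A.1 0 1 := by
    have := congrFun (congrFun hm 0) 1
    simpa [PSL2.coe_uSL, Matrix.mul_apply, Fin.sum_univ_two] using this
  have hA10 : A.1 1 0 = 0 := add_left_cancel (h00.trans (add_zero _).symm)
  have hA11 : A.1 1 1 = A.1 0 0 := add_left_cancel (h01.trans (add_comm _ _))
  have hd : A.1 0 0 * A.1 0 0 = 1 := by
    have := A.2
    rw [Matrix.det_fin_two, hA10, hA11, mul_zero, sub_zero] at this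
    exact this
  have hAA : A * A = 1 := Subtype.ext (by
    ext i j
    fin_cases i <;> fin_cases j <;>
      simp [Matrix.mul_apply, Fin.sum_univ_two, hA10, hA11, hd, mul_comm (A.1 0 1)]
    exact CharTwo.add_self_eq_zero _)
  have h := congrArg PSL2.mk hAA
  rw [map_mul, hA, map_one] at h
  calc g * g = c⁻¹ * (c * g * c⁻¹ * (c * g * c⁻¹)) * c := by group
    _ = 1 := by rw [h]; group

namespace Hyp

variable (H : Hyp G z w) [Finite G] [IsSimpleGroup G] (hG : ¬ IsMulCommutative G)
include H hG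

/-- Elementary abelian Sylow 2-subgroups of order eight: `G` is `J₁`. -/
theorem isoJ1_of_eight (S : Sylow 2 G) (h8 : Nat.card (S : Subgroup G) = 8)
    (hel : ∀ s ∈ (S : Subgroup G), s * s = 1) : Cfsg.Spor.IsoJ1 G := by
  classical
  haveI : Fact (Nat.Prime 2) := ⟨Nat.prime_two⟩
  haveI := Fintype.ofFinite G
  have hS : IsMulCommutative (S : Subgroup G) := ⟨⟨fun a b => Subtype.ext (by
    have h := hel _ (mul_mem a.2 b.2)
    calc (a : G) * b = ((a : G) * b)⁻¹ := eq_inv_of_mul_eq_one_left h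
      _ = b * a := by
        rw [mul_inv_rev, inv_eq_of_mul_eq_one_right (hel _ a.2), inv_eq_of_mul_eq_one_right (hel _ b.2)])⟩⟩
  cases CfsgLib.WalterUse.Ward.abKind_of hG S hS with
  | janko h => exact h
  | @psl F _ _ h4 hq e =>
    exfalso
    rcases hq with ⟨a, hqa⟩ | hq
    · obtain ⟨p, hp⟩ := CharP.exists F
      haveI := hp
      have hp2 : p = 2 := by
        obtain ⟨⟨n, hn⟩, hprime, hcard⟩ := FiniteField.card F p
        rw [hqa] at hcard
        exact ((Nat.prime_dvd_prime_iff_eq hprime Nat.prime_two).1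
          (hprime.dvd_of_dvd_pow (hcard ▸ dvd_pow_self p hn.ne')))
      subst hp2
      have hw2 := even_sq (x := e z) (g := e w) (by rw [← map_mul, mul_self_of_two H.hz, map_one])
        (fun h => ne_one_of_two H.hz (e.map_eq_one_iff.1 h)) (H.hzw.symm.map e)
      have h : w * w = 1 := e.injective (by rw [map_mul, hw2, map_one])
      have h' : w ^ 2 = 1 := by rw [pow_two, h]
      have := orderOf_dvd_of_pow_eq_one h'
      rw [H.hw] at this
      norm_num at this
    · have h8G : 8 ∣ Nat.card (Matrix.ProjectiveSpecialLinearGroup (Fin 2) F) := by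
        rw [← Nat.card_congr e.toEquiv, ← h8]; exact Subgroup.card_subgroup_dvd_card _
      obtain ⟨k, hk⟩ := h8G
      have hc := CfsgLib.DicksonFull.card_psl (F := F)
      obtain ⟨q, hqe⟩ : ∃ q, Fintype.card F = q := ⟨_, rfl⟩
      rw [hqe] at hc hq h4
      have hg : Nat.gcd 2 (q - 1) = 2 := Nat.gcd_eq_left (by omega)
      rw [hg, hk] at hc
      have hmod : q * (q ^ 2 - 1) % 16 = 0 := by rw [← hc]; omega
      obtain ⟨r, i, hi, rfl⟩ : ∃ r i, i < 16 ∧ q = 16 * r + i := ⟨q / 16, q % 16, Nat.mod_lt _ (by norm_num), by omega⟩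
      have h2 : ((16 * r + i) * ((16 * r + i) ^ 2 - 1)) % 16 = (i * ((i * i + 15) % 16)) % 16 := by
        obtain ⟨m, hm⟩ : ∃ m, (16 * r + i) ^ 2 - 1 = m := ⟨_, rfl⟩
        have hm' : m + 1 = (16 * r + i) ^ 2 := by
          have : 1 ≤ (16 * r + i) ^ 2 := Nat.one_le_pow _ _ (by omega)
          omega
        have hm2 : m % 16 = (i * i + 15) % 16 := by
          have : (m + 1) % 16 = (i * i) % 16 := by rw [hm', Nat.pow_mod]; simp [pow_two, Nat.mul_mod]
          omega
        rw [hm, Nat.mul_mod, hm2]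
        simp [Nat.mul_mod]
      rw [h2] at hmod
      rcases hq with hq | hq <;> interval_cases i <;> omega
  | ree h =>
    exfalso
    haveI : Fact (Nat.Prime 3) := ⟨Nat.prime_three⟩
    obtain ⟨F, _, _, _, C, -, R⟩ := h
    obtain ⟨m, hm, hq⟩ := R.pow
    have hcard := C.D.card
    have h27 : 3 ^ 3 ∣ Nat.card (Matrix.ProjectiveSpecialLinearGroup (Fin 2) F) := by
      have h27q : 3 ^ 3 ∣ C.D.q := hq ▸ pow_dvd_pow 3 (by omega)
      obtain ⟨n, hn⟩ := h27q
      have : (27 : ℤ) ∣ 2 * (Nat.card (Matrix.ProjectiveSpecialLinearGroup (Fin 2) F) : ℤ) := by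
        rw [hcard, hn]; push_cast; exact ⟨(n : ℤ) * ((27 * (n : ℤ)) ^ 2 - 1), by ring⟩
      omega
    obtain ⟨Q, hQ⟩ := Sylow.exists_subgroup_card_pow_prime 3 h27
    have hle := H.three_group C.t_ord (P := Q.map C.E) ((IsPGroup.of_card hQ).map _) (by
      rintro _ ⟨l, -, rfl⟩
      exact mem_cen.2 (C.E_comm l).symm)
    rw [Subgroup.card_map_of_injective C.E_inj, hQ] at hle
    norm_num at hle

end Hyp

end CfsgLib.SelfSix
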