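import Cfsg.Agent.Lib.SelfSix.Nil

/-!
Consequences of the soluble shape: Sylow subgroups, transport, and the elements of order prime to six.
-/

set_option autoImplicit false
set_option linter.unusedSectionVars false
set_option linter.style.haveILetI false

namespace CfsgLib.SelfSix

open Cfsg

universe u

variable {G : Type u} [Group G] {z w : G} {T D : Subgroup G}

theorem Hyp.map (H : Hyp G z w) (g : G) : Hyp G (g * z * g⁻¹) (g * w * g⁻¹) := by
  refine ⟨H.one, (orderOf_conj g z).trans H.hz, (orderOf_conj g w).trans H.hw, commute_conj g H.hzw,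
    fun y hy1 hy2 => ?_⟩
  have key : ∀ a : G, Commute y (g * a * g⁻¹) → Commute (g⁻¹ * y * g) a := fun a h => by
    have := commute_conj g⁻¹ h
    rwa [inv_inv, show g⁻¹ * (g * a * g⁻¹) * g = a by group] at this
  obtain ⟨i, j, e⟩ := H.cent _ (key _ hy1) (key _ hy2)
  refine ⟨i, j, ?_⟩
  calc y = g * (g⁻¹ * y * g) * g⁻¹ := by group
    _ = g * (z ^ i * w ^ j) * g⁻¹ := by rw [e]
    _ = _ := by rw [conj_pow, conj_pow]; group

theorem mem_map_conj {A : Subgroup G} {g x : G} :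
    x ∈ A.map (MulAut.conj g).toMonoidHom ↔ g⁻¹ * x * g ∈ A := by
  constructor
  · rintro ⟨a, ha, rfl⟩
    show g⁻¹ * (g * a * g⁻¹) * g ∈ A
    rwa [show g⁻¹ * (g * a * g⁻¹) * g = a by group]
  · intro h
    exact ⟨_, h, show g * (g⁻¹ * x * g) * g⁻¹ = x by group⟩

namespace Nil

variable (N : Nil G z w T D)
include N

theorem T_zero {x : G} (hx : x ∈ T) (hc : Commute x w) : x = 1 ∨ x = z := by
  obtain ⟨k, hk⟩ := N.hT ⟨x, hx⟩
  exact N.base.cent_two (mem_cen.1 (N.hTC hx)) hc (congrArg Subtype.val hk : x ^ 2 ^ k = 1)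

theorem D_zero {d : G} (hd : d ∈ D) (hc : Commute d w) : d = 1 := by
  obtain ⟨m, hm⟩ := N.hD.of_dvd_nat (Subgroup.orderOf_dvd_natCard D hd)
  rcases N.base.cent_cases (mem_cen.1 (N.hDC hd)) hc with h | ⟨v, hv, e⟩
  · rcases (Nat.dvd_prime Nat.prime_three).1 (N.base.hw ▸ orderOf_dvd_of_mem_zpowers h) with e | e
    · exact orderOf_eq_one_iff.1 e
    · exact absurd (e ▸ Subgroup.orderOf_dvd_natCard D hd) N.hD3
  · exfalso
    obtain ⟨j, rfl⟩ := Subgroup.mem_zpowers_iff.1 hv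
    have h3 : (w ^ j) ^ 3 = 1 := by
      rw [← zpow_natCast, ← zpow_mul, mul_comm, zpow_mul, zpow_natCast,
        show w ^ 3 = 1 from N.base.hw ▸ pow_orderOf_eq_one w, one_zpow]
    have e3 : d ^ 3 = z := by
      rw [e, (N.base.hzw.zpow_right j).mul_pow, h3, mul_one, pow_succ, pow_two, mul_self_of_two N.base.hz, one_mul]
    have hzD : z ∈ D := e3 ▸ pow_mem hd 3
    have := N.hD.of_dvd_nat (Subgroup.orderOf_dvd_natCard D hzD)
    rw [N.base.hz] at this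
    exact absurd this (by decide)

theorem wT (x : G) (hx : x ∈ T) : w * x * w⁻¹ ∈ T := N.normT w N.base.w_cen x hx

theorem disjoint : Disjoint T D := Subgroup.disjoint_def.2 fun {x} hxT hxD => by
  obtain ⟨k, hk⟩ := N.hT ⟨x, hxT⟩
  exact orderOf_eq_one_iff.1 (Nat.eq_one_of_dvd_coprimes ((Nat.coprime_two_left.2 N.hD).pow_left k)
    (orderOf_dvd_of_pow_eq_one (congrArg Subtype.val hk : x ^ 2 ^ k = 1)) (Subgroup.orderOf_dvd_natCard D hxD))

theorem map (g : G) : Nil G (g * z * g⁻¹) (g * w * g⁻¹) (T.map (MulAut.conj g).toMonoidHom)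
    (D.map (MulAut.conj g).toMonoidHom) := by
  have hcen : ∀ c ∈ cen (g * z * g⁻¹), g⁻¹ * c * g ∈ cen z := fun c hc => by
    have := commute_conj g⁻¹ (mem_cen.1 hc)
    rw [inv_inv, show g⁻¹ * (g * z * g⁻¹) * g = z by group] at this
    exact mem_cen.2 this
  refine
    { base := N.base.map g
      hTC := ?_
      hDC := ?_
      zT := mem_map_conj.2 (by rw [show g⁻¹ * (g * z * g⁻¹) * g = z by group]; exact N.zT)
      hT := N.hT.map _
      hD := by rw [Subgroup.card_map_of_injective (MulAut.conj g).injective]; exact N.hD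
      hD3 := by rw [Subgroup.card_map_of_injective (MulAut.conj g).injective]; exact N.hD3
      normT := ?_
      normD := ?_
      comm := ?_
      top := ?_ }
  · rintro _ ⟨a, ha, rfl⟩; exact mem_cen.2 (commute_conj g (mem_cen.1 (N.hTC ha)))
  · rintro _ ⟨a, ha, rfl⟩; exact mem_cen.2 (commute_conj g (mem_cen.1 (N.hDC ha)))
  · rintro c hc _ ⟨a, ha, rfl⟩
    refine ⟨_, N.normT _ (hcen c hc) a ha, ?_⟩
    show g * ((g⁻¹ * c * g) * a * (g⁻¹ * c * g)⁻¹) * g⁻¹ = c * (g * a * g⁻¹) * c⁻¹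
    group
  · rintro c hc _ ⟨a, ha, rfl⟩
    refine ⟨_, N.normD _ (hcen c hc) a ha, ?_⟩
    show g * ((g⁻¹ * c * g) * a * (g⁻¹ * c * g)⁻¹) * g⁻¹ = c * (g * a * g⁻¹) * c⁻¹
    group
  · rintro _ ⟨a, ha, rfl⟩ _ ⟨d, hd, rfl⟩; exact commute_conj g (N.comm a ha d hd)
  rcases N.top with h | ⟨s, hs, hsT, h⟩
  · refine Or.inl fun c hc => ?_
    obtain ⟨x, hx, d, hd, i, e⟩ := h _ (hcen c hc)
    refine ⟨_, ⟨x, hx, rfl⟩, _, ⟨d, hd, rfl⟩, i, ?_⟩
    calc c = g * (g⁻¹ * c * g) * g⁻¹ := by group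
      _ = g * (x * d * w ^ i) * g⁻¹ := by rw [e]
      _ = _ := by rw [conj_pow]; simp only [MulEquiv.coe_toMonoidHom, MulAut.conj_apply]; group
  · refine Or.inr ⟨g * s * g⁻¹, ⟨commute_conj g hs.1, ?_, ?_⟩, ?_, fun c hc => ?_⟩
    · calc g * s * g⁻¹ * (g * w * g⁻¹) * (g * s * g⁻¹)⁻¹ = g * (s * w * s⁻¹) * g⁻¹ := by group
        _ = g * w⁻¹ * g⁻¹ := by rw [hs.2.1]
        _ = _ := by group
    · have e : g * s * g⁻¹ * (g * s * g⁻¹) = g * (s * s) * g⁻¹ := by group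
      rcases hs.2.2 with h | h
      · exact Or.inl (by rw [e, h]; group)
      · exact Or.inr (by rw [e, h])
    · rw [mem_map_conj, show g⁻¹ * (g * s * g⁻¹) * g = s by group]; exact hsT
    obtain ⟨x, hx, d, hd, i, e⟩ := h _ (hcen c hc)
    refine ⟨_, ⟨x, hx, rfl⟩, _, ⟨d, hd, rfl⟩, i, ?_⟩
    have ec : c = g * (g⁻¹ * c * g) * g⁻¹ := by group
    rcases e with e | e
    · left; rw [ec, e, conj_pow]; simp only [MulEquiv.coe_toMonoidHom, MulAut.conj_apply]; group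
    · right; rw [ec, e, conj_pow]; simp only [MulEquiv.coe_toMonoidHom, MulAut.conj_apply]; group

/-- `D⟨w⟩` has no nontrivial 2-elements. -/
theorem odd_dw {d : G} (hd : d ∈ D) (i : ℕ) {k : ℕ} (h : (d * w ^ i) ^ 2 ^ k = 1) : d * w ^ i = 1 := by
  set y := d * w ^ i
  have h3 : w ^ 3 = 1 := N.base.hw ▸ pow_orderOf_eq_one w
  have hwC : ∀ n : ℕ, w ^ n ∈ cen z := fun n => pow_mem N.base.w_cen n
  have hy3 : y ^ 3 ∈ D := by
    have e : y ^ 3 = d * (w ^ i * d * (w ^ i)⁻¹) * (w ^ i * w ^ i * d * (w ^ i * w ^ i)⁻¹) * (w ^ i) ^ 3 := by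
      simp only [y, pow_succ, pow_zero, one_mul]; group
    rw [e, ← pow_mul, mul_comm i, pow_mul, h3, one_pow, mul_one]
    exact mul_mem (mul_mem hd (N.normD _ (hwC i) d hd)) (N.normD _ (mul_mem (hwC i) (hwC i)) d hd)
  have hodd : Odd (3 * Nat.card D) := (by decide : Odd 3).mul N.hD
  have h1 : y ^ (3 * Nat.card D) = 1 := by
    rw [pow_mul]
    exact congrArg Subtype.val (pow_card_eq_one' (x := (⟨_, hy3⟩ : D)))
  exact orderOf_eq_one_iff.1 (Nat.eq_one_of_dvd_coprimes ((Nat.coprime_two_left.2 hodd).pow_left k)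
    (orderOf_dvd_of_pow_eq_one h) (orderOf_dvd_of_pow_eq_one h1))

/-- `T` and an inverting element form a subgroup. -/
theorem exists_Ts {s : G} (hs : Inverts z w s) :
    ∃ P : Subgroup G, (∀ g, g ∈ P ↔ g ∈ T ∨ g * s⁻¹ ∈ T) ∧ IsPGroup 2 P ∧ P ≤ cen z := by
  have hsT : ∀ x ∈ T, s * x * s⁻¹ ∈ T := N.normT s (mem_cen.2 hs.1)
  have hsT' : ∀ x ∈ T, s⁻¹ * x * s ∈ T := fun x hx => by
    have := N.normT s⁻¹ (inv_mem (mem_cen.2 hs.1)) x hx
    rwa [inv_inv] at this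
  have hss : s * s ∈ T := by
    rcases hs.2.2 with e | e <;> rw [e]
    · exact one_mem _
    · exact N.zT
  let P : Subgroup G :=
    { carrier := {g | g ∈ T ∨ g * s⁻¹ ∈ T}
      one_mem' := Or.inl (one_mem _)
      mul_mem' := by
        rintro a b (ha | ha) (hb | hb)
        · exact Or.inl (mul_mem ha hb)
        · exact Or.inr (by rw [mul_assoc]; exact mul_mem ha hb)
        · refine Or.inr ?_
          rw [show a * b * s⁻¹ = (a * s⁻¹) * (s * b * s⁻¹) by group]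
          exact mul_mem ha (hsT b hb)
        · refine Or.inl ?_
          rw [show a * b = (a * s⁻¹) * (s * (b * s⁻¹) * s⁻¹) * (s * s) by group]
          exact mul_mem (mul_mem ha (hsT _ hb)) hss
      inv_mem' := by
        rintro a (ha | ha)
        · exact Or.inl (inv_mem ha)
        · refine Or.inr ?_
          rw [show a⁻¹ * s⁻¹ = s⁻¹ * (a * s⁻¹)⁻¹ * s * (s * s)⁻¹ by group]
          exact mul_mem (hsT' _ (inv_mem ha)) (inv_mem hss) }
  refine ⟨P, fun g => Iff.rfl, fun g => ?_, ?_⟩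
  · have h2 : (g : G) * g ∈ T := by
      rcases g.2 with hg | hg
      · exact mul_mem hg hg
      · rw [show (g : G) * g = ((g : G) * s⁻¹) * (s * ((g : G) * s⁻¹) * s⁻¹) * (s * s) by group]
        exact mul_mem (mul_mem hg (hsT _ hg)) hss
    obtain ⟨k, hk⟩ := N.hT ⟨_, h2⟩
    refine ⟨k + 1, Subtype.ext ?_⟩
    show (g : G) ^ 2 ^ (k + 1) = 1
    rw [pow_succ', pow_mul, pow_two]
    exact congrArg Subtype.val hk
  · rintro g (hg | hg)
    · exact N.hTC hg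
    · rw [← inv_mul_cancel_right g s]
      exact mul_mem (N.hTC hg) (mem_cen.2 hs.1)

variable [Finite G]

/-- The Sylow 2-subgroup around `T`. -/
theorem exists_sylow_T : ∃ S : Sylow 2 G, T ≤ (S : Subgroup G) ∧ (S : Subgroup G) ≤ cen z ∧
    ((∀ g, g ∈ (S : Subgroup G) ↔ g ∈ T) ∨
      ∃ s, Inverts z w s ∧ s ∉ T ∧ ∀ g, g ∈ (S : Subgroup G) ↔ g ∈ T ∨ g * s⁻¹ ∈ T) := by
  haveI : Fact (Nat.Prime 2) := ⟨Nat.prime_two⟩
  obtain ⟨P, hTP, hP2, hPC, hmax, hshape⟩ : ∃ P : Subgroup G, T ≤ P ∧ IsPGroup 2 P ∧ P ≤ cen z ∧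
      (∀ Q : Subgroup G, IsPGroup 2 Q → Q ≤ cen z → P ≤ Q → Q = P) ∧
      ((∀ g, g ∈ P ↔ g ∈ T) ∨ ∃ s, Inverts z w s ∧ s ∉ T ∧ ∀ g, g ∈ P ↔ g ∈ T ∨ g * s⁻¹ ∈ T) := by
    rcases N.top with h | ⟨s, hs, hsT, h⟩
    · refine ⟨T, le_rfl, N.hT, N.hTC, fun Q hQ hQC hle => ?_, Or.inl fun g => Iff.rfl⟩
      refine le_antisymm (fun g hg => ?_) hle
      obtain ⟨x, hx, d, hd, i, e⟩ := h g (hQC hg)
      have hy : d * w ^ i ∈ Q := by
        rw [show d * w ^ i = x⁻¹ * g by rw [e]; group]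
        exact mul_mem (inv_mem (hle hx)) hg
      obtain ⟨k, hk⟩ := hQ ⟨_, hy⟩
      rw [e, mul_assoc, N.odd_dw hd i (congrArg Subtype.val hk : (d * w ^ i) ^ 2 ^ k = 1), mul_one]
      exact hx
    · obtain ⟨P, hmem, hP2, hPC⟩ := N.exists_Ts hs
      refine ⟨P, fun g hg => (hmem g).2 (Or.inl hg), hP2, hPC, fun Q hQ hQC hle => ?_, Or.inr ⟨s, hs, hsT, hmem⟩⟩
      refine le_antisymm (fun g hg => ?_) hle
      have hsQ : s ∈ Q := hle ((hmem s).2 (Or.inr (by rw [mul_inv_cancel]; exact one_mem _)))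
      obtain ⟨x, hx, d, hd, i, e⟩ := h g (hQC hg)
      have hxQ : x ∈ Q := hle ((hmem x).2 (Or.inl hx))
      have hy : d * w ^ i ∈ Q := by
        rcases e with e | e
        · rw [show d * w ^ i = x⁻¹ * g by rw [e]; group]
          exact mul_mem (inv_mem hxQ) hg
        · rw [show d * w ^ i = x⁻¹ * g * s⁻¹ by rw [e]; group]
          exact mul_mem (mul_mem (inv_mem hxQ) hg) (inv_mem hsQ)
      obtain ⟨k, hk⟩ := hQ ⟨_, hy⟩
      have hy1 := N.odd_dw hd i (congrArg Subtype.val hk : (d * w ^ i) ^ 2 ^ k = 1)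
      refine (hmem g).2 ?_
      rcases e with e | e
      · left; rw [e, mul_assoc, hy1, mul_one]; exact hx
      · right; rw [e, mul_inv_cancel_right, mul_assoc, hy1, mul_one]; exact hx
  obtain ⟨R, hR⟩ := (hP2.of_equiv (Subgroup.subgroupOfEquivOfLe hPC).symm).exists_le_sylow
  obtain ⟨S, hS⟩ := N.base.sylow_cen R
  have hle : P ≤ (S : Subgroup G) := fun g hg => hS ▸ ⟨⟨g, hPC hg⟩, hR (show (⟨g, hPC hg⟩ : cen z) ∈ P.subgroupOf _ from hg), rfl⟩
  have hSC : (S : Subgroup G) ≤ cen z := hS ▸ Subgroup.map_subtype_le _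
  have hSP := hmax _ S.2 hSC hle
  exact ⟨S, hTP.trans hle, hSC, by rw [hSP]; exact hshape⟩

/-- Elements of the centraliser of order prime to six lie in `D`. -/
theorem mem_D {g : G} (hg : g ∈ cen z) (h6 : (orderOf g).Coprime 6) : g ∈ D := by
  let M : Subgroup (cen z) :=
    { carrier := {c | ∃ x ∈ T, ∃ d ∈ D, (c : G) = x * d}
      one_mem' := ⟨1, one_mem _, 1, one_mem _, by simp⟩
      mul_mem' := by
        rintro a b ⟨x, hx, d, hd, ea⟩ ⟨x', hx', d', hd', eb⟩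
        refine ⟨x * x', mul_mem hx hx', d * d', mul_mem hd hd', ?_⟩
        rw [Subgroup.coe_mul, ea, eb, mul_assoc, ← mul_assoc d, ← (N.comm x' hx' d hd).eq]
        group
      inv_mem' := by
        rintro a ⟨x, hx, d, hd, ea⟩
        refine ⟨x⁻¹, inv_mem hx, d⁻¹, inv_mem hd, ?_⟩
        rw [InvMemClass.coe_inv, ea, (N.comm x hx d hd).eq, mul_inv_rev] }
  haveI : M.Normal := ⟨by
    rintro n ⟨x, hx, d, hd, e⟩ c
    refine ⟨_, N.normT c c.2 x hx, _, N.normD c c.2 d hd, ?_⟩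
    simp only [Subgroup.coe_mul, InvMemClass.coe_inv, e]
    group⟩
  set q := QuotientGroup.mk' M
  have hq : ∀ {c : cen z}, q c = 1 ↔ c ∈ M := fun {c} => QuotientGroup.eq_one_iff c
  have hTM : ∀ x (hx : x ∈ T), q ⟨x, N.hTC hx⟩ = 1 := fun x hx => hq.2 ⟨x, hx, 1, one_mem _, by simp⟩
  set a := q ⟨w, N.base.w_cen⟩
  have ha : a ^ 3 = 1 := by
    rw [← map_pow, show (⟨w, N.base.w_cen⟩ : cen z) ^ 3 = 1 from Subtype.ext (N.base.hw ▸ pow_orderOf_eq_one w),
      map_one]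
  have hsplit : ∀ x ∈ T, ∀ d ∈ D, ∀ (hxd : x * d ∈ cen z), q ⟨x * d, hxd⟩ = 1 := fun x hx d hd _ =>
    hq.2 ⟨x, hx, d, hd, rfl⟩
  have h6g : (q ⟨g, hg⟩) ^ 6 = 1 := by
    rcases N.top with h | ⟨s, hs, -, h⟩
    · obtain ⟨x, hx, d, hd, i, e⟩ := h g hg
      have hxd := mul_mem (N.hTC hx) (N.hDC hd)
      rw [show (⟨g, hg⟩ : cen z) = ⟨x * d, hxd⟩ * ⟨w, N.base.w_cen⟩ ^ i from Subtype.ext e, map_mul, map_pow,
        hsplit x hx d hd, one_mul, ← pow_mul, mul_comm, show 6 = 3 * 2 from rfl, mul_assoc, pow_mul, ha, one_pow]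
    · obtain ⟨x, hx, d, hd, i, e⟩ := h g hg
      have hxd := mul_mem (N.hTC hx) (N.hDC hd)
      set b := q ⟨s, mem_cen.2 hs.1⟩
      rcases e with e | e
      · rw [show (⟨g, hg⟩ : cen z) = ⟨x * d, hxd⟩ * ⟨w, N.base.w_cen⟩ ^ i from Subtype.ext e, map_mul, map_pow,
          hsplit x hx d hd, one_mul, ← pow_mul, mul_comm, show 6 = 3 * 2 from rfl, mul_assoc, pow_mul, ha, one_pow]
      · have hb : b * b = 1 := by
          rw [← map_mul]
          refine hq.2 ⟨s * s, ?_, 1, one_mem _, by simp⟩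
          rcases hs.2.2 with e | e <;> rw [e]
          · exact one_mem _
          · exact N.zT
        have hba : b * a ^ i * b⁻¹ = (a ^ i)⁻¹ := by
          rw [← conj_pow, ← map_inv, ← map_mul, ← map_mul, show (⟨s, mem_cen.2 hs.1⟩ : cen z) * ⟨w, N.base.w_cen⟩ *
            (⟨s, mem_cen.2 hs.1⟩ : cen z)⁻¹ = ⟨w, N.base.w_cen⟩⁻¹ from Subtype.ext hs.2.1, map_inv, inv_pow]
        rw [show (⟨g, hg⟩ : cen z) = ⟨x * d, hxd⟩ * ⟨w, N.base.w_cen⟩ ^ i * ⟨s, mem_cen.2 hs.1⟩ from Subtype.ext e,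
          map_mul, map_mul, map_pow, hsplit x hx d hd, one_mul]
        have h2 : a ^ i * b * (a ^ i * b) = 1 := by
          rw [inv_eq_of_mul_eq_one_right hb] at hba
          calc a ^ i * b * (a ^ i * b) = a ^ i * (b * a ^ i * b) := by group
            _ = 1 := by rw [hba, mul_inv_cancel]
        rw [show 6 = 2 * 3 from rfl, pow_mul, pow_two, h2, one_pow]
  have h1 : q ⟨g, hg⟩ = 1 := by
    refine orderOf_eq_one_iff.1 (Nat.eq_one_of_dvd_coprimes h6 ?_ (orderOf_dvd_of_pow_eq_one h6g))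
    exact (orderOf_map_dvd q _).trans (Subgroup.orderOf_mk g hg).dvd
  obtain ⟨x, hx, d, hd, e⟩ := hq.1 h1
  simp only at e
  obtain ⟨k, hk⟩ := N.hT ⟨x, hx⟩
  have hodd : Odd (orderOf g * Nat.card D) :=
    (Nat.coprime_two_left.1 (h6.symm.coprime_dvd_left (by norm_num))).mul N.hD
  have hx1 : x ^ (orderOf g * Nat.card D) = 1 := by
    have h : (x * d) ^ (orderOf g * Nat.card D) = 1 := by rw [← e, pow_mul, pow_orderOf_eq_one, one_pow]
    rw [(N.comm x hx d hd).mul_pow, mul_comm (orderOf g), pow_mul d] at h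
    have hd1 : d ^ Nat.card D = 1 := congrArg Subtype.val (pow_card_eq_one' (x := (⟨d, hd⟩ : D)))
    rw [hd1, one_pow, mul_one, mul_comm (Nat.card D)] at h
    exact h
  have : x = 1 := orderOf_eq_one_iff.1 (Nat.eq_one_of_dvd_coprimes ((Nat.coprime_two_left.2 hodd).pow_left k)
    (orderOf_dvd_of_pow_eq_one (congrArg Subtype.val hk : x ^ 2 ^ k = 1)) (orderOf_dvd_of_pow_eq_one hx1))
  rw [e, this, one_mul]
  exact hd

theorem card_D_coprime {d : G} (hd : d ∈ D) : (orderOf d).Coprime 6 := by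
  have h2 : (Nat.card D).Coprime 2 := Nat.coprime_two_right.2 N.hD
  have h3 : (Nat.card D).Coprime 3 := ((Nat.Prime.coprime_iff_not_dvd Nat.prime_three).2 N.hD3).symm
  exact (h2.mul_right h3).coprime_dvd_left (Subgroup.orderOf_dvd_natCard D hd)

theorem D_unique {w' : G} {T' D' : Subgroup G} (N' : Nil G z w' T' D') : D = D' :=
  le_antisymm (fun _ hd => N'.mem_D (N.hDC hd) (N.card_D_coprime hd))
    (fun _ hd => N.mem_D (N'.hDC hd) (N'.card_D_coprime hd))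

end Nil

end CfsgLib.SelfSix
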