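import Cfsg.Agent.Lib.SelfSix.Normalizer
import Cfsg.Agent.Lib.SelfSix.NilBasic
import Cfsg.Agent.Lib.GoldCascade.Irrational
import Cfsg.Agent.Lib.PSU3Min.Line

/-!
`PSU₃(q)`, `q` even, has no involution centraliser with a self-centralising element of order three modulo
the involution.
-/

set_option autoImplicit false
set_option linter.unusedSectionVars false
set_option linter.style.haveILetI false

namespace CfsgLib.SelfSix

open Cfsg CfsgLib CfsgLib.PSUBorel CfsgLib.PSU3Min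

universe u

variable {G : Type u} [Group G] [Finite G] {z w : G}

theorem Hyp.not_psu3 (H : Hyp G z w) {F : Type} [Field F] [Fintype F] {q : ℕ} (hF : Fintype.card F = q ^ 2)
    (hq : Even q) (h4 : 4 ≤ q) (e : G ≃* Cfsg.PSU 3 F q) : False := by
  classical
  haveI : Fact (Nat.Prime 2) := ⟨Nat.prime_two⟩
  haveI : CharP F 2 := by
    obtain ⟨p, hp⟩ := CharP.exists F
    obtain ⟨n, hpp, hn⟩ := FiniteField.card F p
    rw [hF] at hn
    have h2 : 2 ∣ p ^ (n : ℕ) := hn ▸ (even_iff_two_dvd.mp hq).trans (dvd_pow_self q (by norm_num))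
    have := (Nat.prime_dvd_prime_iff_eq Nat.prime_two hpp).mp (Nat.prime_two.dvd_of_dvd_pow h2)
    subst this
    exact hp
  obtain ⟨-, σ, hσ⟩ := CfsgLib.UnitaryBasic.frob_exists hF
  obtain ⟨c, hc⟩ : ∃ c : Conj F, c.q = q := ⟨⟨q, σ, hF, hσ⟩, rfl⟩
  subst hc
  obtain ⟨E⟩ := exists_iso c (n := 3)
  let π : SUs c 3 →* G := e.symm.toMonoidHom.comp ((QuotientGroup.mk' _).comp E.toMonoidHom)
  have hπ : Function.Surjective π :=
    e.symm.surjective.comp ((QuotientGroup.mk'_surjective _).comp E.surjective)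
  have hker : ∀ k : SUs c 3, π k = 1 → k ∈ Subgroup.center (SUs c 3) := fun k hk => by
    have h := (QuotientGroup.eq_one_iff (E k)).1 (e.symm.map_eq_one_iff.1 hk)
    refine Subgroup.mem_center_iff.2 fun x => E.injective ?_
    rw [map_mul, map_mul]
    exact Subgroup.mem_center_iff.1 h (E x)
  have hkone : ∀ k : SUs c 3, π k = 1 → (∃ i : ℕ, k ^ 2 ^ i = 1) → k = 1 := by
    rintro k hk ⟨i, hi⟩
    refine orderOf_eq_one_iff.1 (Nat.eq_one_of_dvd_coprimes ((by norm_num : Nat.Coprime 2 3).pow_left i)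
      (orderOf_dvd_of_pow_eq_one hi) ?_)
    exact (Subgroup.orderOf_dvd_natCard _ (hker k hk)).trans (card_center c).1
  -- the radical
  set U := (UG c).map π
  have hUc : Nat.card U = c.q ^ 3 := by
    rw [← card_UG c 2]
    refine (Nat.card_congr (Equiv.ofBijective
      (fun x : UG c => (⟨π x, x, x.2, rfl⟩ : U)) ⟨fun x y hxy => ?_, fun y => ?_⟩)).symm
    · have h : π ((x : SUs c 3)⁻¹ * y) = 1 := by
        rw [map_mul, map_inv, show π (x : SUs c 3) = π y from congrArg Subtype.val hxy, inv_mul_cancel]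
      exact Subtype.ext (inv_mul_eq_one.1 (hkone _ h (exists_ppow c 2 (mul_mem (inv_mem x.2) y.2))))
    · obtain ⟨x, hx, hxy⟩ := y.2
      exact ⟨⟨x, hx⟩, Subtype.ext hxy⟩
  have hU2 : IsPGroup 2 U := by
    rintro ⟨_, x, hx, rfl⟩
    obtain ⟨i, hi⟩ := exists_ppow c 2 hx
    exact ⟨i, Subtype.ext (show π x ^ 2 ^ i = 1 by rw [← map_pow, hi, map_one])⟩
  obtain ⟨S, hS⟩ := hU2.exists_le_sylow
  have hSU : (S : Subgroup G) = U := by
    refine (Subgroup.eq_of_le_of_card_ge hS ?_).symm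
    obtain ⟨k, hk⟩ := IsPGroup.exists_card_eq S.2
    have hdvd : 2 ^ k ∣ Nat.card (SUs c 3) := hk ▸ (Subgroup.card_subgroup_dvd_card _).trans
      (Subgroup.card_dvd_of_surjective π hπ)
    rw [card_G] at hdvd
    have hodd : ¬ 2 ∣ (c.q ^ 2 - 1) * (c.q ^ 3 + 1) := fun h => by
      rcases Nat.prime_two.dvd_mul.1 h with h | h
      · exact not_dvd_sq_sub_one c 2 h
      · exact not_dvd_add_one 2 ((p_dvd_q c 2).trans (dvd_pow_self _ three_ne_zero)) h
    rw [hUc, hk]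
    exact Nat.le_of_dvd (pow_pos (by omega) 3)
      ((((Nat.Prime.coprime_iff_not_dvd Nat.prime_two).2 hodd).pow_left k).dvd_of_dvd_mul_right hdvd)
  -- two central involutions
  obtain ⟨b, hb, hb'⟩ := c.exists_antifixed
  have hzc : ∀ s ∈ ZG c, ∀ u ∈ UG c, Commute s u := by
    rintro s ⟨hsU, hs01⟩ u hu
    obtain ⟨hs12, -⟩ := UG_rel c hsU
    obtain ⟨s10, s20, s21⟩ := (mem_BG_iff c).1 (UG_le c hsU)
    obtain ⟨u10, u20, u21⟩ := (mem_BG_iff c).1 (UG_le c hu)
    rw [hs01, map_zero, neg_zero] at hs12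
    refine SUs_ext c (Matrix.ext fun i j => ?_)
    rw [PSUBorel.coe_mul, PSUBorel.coe_mul]
    fin_cases i <;> fin_cases j <;>
      simp [Matrix.mul_apply, Fin.sum_univ_three, UU_diag c hsU, UU_diag c hu, s10, s20, s21, u10, u20, u21, hs01,
        hs12] <;> ring
  set s : Fix c → SUs c 3 := fun x => emb2 c hb hb' (Dickson.up x)
  have hsZ : ∀ x, s x ∈ ZG c := fun x => emb2_up c hb hb' x
  have hs_inj : ∀ x y, π (s x) = π (s y) → x = y := fun x y h => by
    have h1 : π ((s x)⁻¹ * s y) = 1 := by rw [map_mul, map_inv, h, inv_mul_cancel]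
    have h2 := inv_mul_eq_one.1 (hkone _ h1 (exists_ppow c 2 (mul_mem (inv_mem (ZG_le c (hsZ x))) (ZG_le c (hsZ y)))))
    have h3 := congrArg (fun g : SUs c 3 => g.1.1 0 2) h2
    simp only [s, emb2_up_corner] at h3
    exact Subtype.ext (mul_right_cancel₀ hb h3)
  have hs0 : ∀ x, x ≠ 0 → π (s x) ≠ 1 := fun x hx h => hx (by
    have h2 := hkone _ h (exists_ppow c 2 (ZG_le c (hsZ x)))
    have h3 := congrArg (fun g : SUs c 3 => g.1.1 0 2) h2
    simp only [s, emb2_up_corner] at h3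
    simp at h3
    exact h3.resolve_right hb)
  have hs2 : ∀ x, s x * s x = 1 := fun x => by
    obtain ⟨hU', h01⟩ := hsZ x
    obtain ⟨h12, -⟩ := UG_rel c hU'
    obtain ⟨h10, h20, h21⟩ := (mem_BG_iff c).1 (UG_le c hU')
    rw [h01, map_zero, neg_zero] at h12
    refine SUs_ext c (Matrix.ext fun i j => ?_)
    rw [PSUBorel.coe_mul, PSUBorel.coe_one]
    fin_cases i <;> fin_cases j <;>
      simp [Matrix.mul_apply, Fin.sum_univ_three, UU_diag c hU', h10, h20, h21, h01, h12, CharTwo.add_self_eq_zero]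
  have hord : ∀ x, x ≠ 0 → orderOf (π (s x)) = 2 := fun x hx =>
    orderOf_two (by rw [← map_mul, hs2, map_one]) (hs0 x hx)
  obtain ⟨x1, hx10, hx11⟩ : ∃ x : Fix c, x ≠ 0 ∧ x ≠ 1 := by
    by_contra hcon
    push Not at hcon
    have : Nat.card (Fix c) ≤ 2 := by
      rw [Nat.card_eq_fintype_card]
      refine (Finset.card_le_card (s := (Finset.univ : Finset (Fix c))) (t := {0, 1}) fun x _ => ?_).trans
        Finset.card_le_two
      by_cases h : x = 0
      · simp [h]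
      · simp [hcon x h]
    rw [card_Fix c hb hb'] at this
    omega
  set z' := π (s 1)
  obtain ⟨g, hg⟩ := isConj_iff.1 (H.one _ _ H.hz (hord 1 one_ne_zero))
  have H' : Hyp G z' (g * w * g⁻¹) := by have := H.map g; rwa [hg] at this
  -- the centraliser normalises the radical
  have hcenN : ∀ y ∈ cen z', y ∈ Subgroup.normalizer (U : Set G) := by
    intro y hy
    obtain ⟨l, rfl⟩ := hπ y
    have h1 : π ((s 1)⁻¹ * (l⁻¹ * s 1 * l)) = 1 := by
      simp only [map_mul, map_inv]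
      change z'⁻¹ * ((π l)⁻¹ * z' * π l) = 1
      rw [mul_assoc _ z', ← (mem_cen.1 hy).eq, inv_mul_cancel_left, inv_mul_cancel]
    have hcz := Subgroup.mem_center_iff.1 (hker _ h1) (s 1)
    have h2 : (s 1)⁻¹ * (l⁻¹ * s 1 * l) = 1 := by
      refine hkone _ h1 ⟨1, ?_⟩
      have hsq : (l⁻¹ * s 1 * l) * (l⁻¹ * s 1 * l) = 1 := by
        calc l⁻¹ * s 1 * l * (l⁻¹ * s 1 * l) = l⁻¹ * (s 1 * s 1) * l := by group
          _ = 1 := by rw [hs2]; group
      have hsi : (s 1)⁻¹ = s 1 := inv_eq_of_mul_eq_one_right (hs2 1)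
      rw [hsi] at hcz ⊢
      rw [← mul_assoc (s 1) (s 1), hs2, one_mul] at hcz
      rw [pow_one, pow_two]
      calc s 1 * (l⁻¹ * s 1 * l) * (s 1 * (l⁻¹ * s 1 * l))
          = (s 1 * (l⁻¹ * s 1 * l) * s 1) * (l⁻¹ * s 1 * l) := by group
        _ = 1 := by rw [← hcz, hsq]
    have h3 : l⁻¹ * s 1 * l = s 1 := (inv_mul_eq_one.1 h2).symm
    have hlB : l ∈ BG c := ti c (ZG_le c (hsZ 1)) (fun h => hs0 1 one_ne_zero (by rw [h, map_one]))
      (h3.symm ▸ ZG_le c (hsZ 1))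
    refine Subgroup.mem_normalizer_iff.2 fun x => ⟨?_, ?_⟩
    · rintro ⟨u, hu, rfl⟩
      exact ⟨l * u * l⁻¹, conj_UG c hlB hu, by simp⟩
    · rintro ⟨u, hu, hux⟩
      refine ⟨l⁻¹ * u * l, by simpa using conj_UG c (inv_mem hlB) hu, ?_⟩
      rw [map_mul, map_mul, map_inv, hux]
      group
  have hSC : (S : Subgroup G) ≤ cen z' := by
    rw [hSU]
    rintro _ ⟨u, hu, rfl⟩
    exact mem_cen.2 ((hzc _ (hsZ 1) u hu).symm.map π)
  obtain ⟨h8, -⟩ := H'.ns S hSC (by
    show g * w * g⁻¹ ∈ Subgroup.normalizer ((S : Subgroup G) : Set G)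
    rw [hSU]; exact hcenN _ H'.w_cen) (a := π (s x1))
    (by rw [hSU]; exact ⟨_, ZG_le c (hsZ x1), rfl⟩) (hord x1 hx10) (fun h => hx11 (hs_inj _ _ h))
    (fun y hy => by
      rw [hSU] at hy
      obtain ⟨u, hu, rfl⟩ := hy
      exact (hzc _ (hsZ x1) u hu).map π)
  rw [hSU, hUc] at h8
  have : 4 ^ 3 ≤ c.q ^ 3 := Nat.pow_le_pow_left h4 3
  omega

end CfsgLib.SelfSix
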