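import Cfsg.Agent.Lib.SelfSix.Fix
import Cfsg.Agent.Lib.SelfSix.Eight
import Cfsg.Agent.Lib.SelfSix.Unitary
import Cfsg.Agent.S0222

/-!
The odd part of the centraliser is trivial when `T` has a second involution.
-/

set_option autoImplicit false
set_option linter.unusedSectionVars false
set_option linter.style.haveILetI false

namespace CfsgLib.SelfSix

open Cfsg

universe u

variable {G : Type u} [Group G] [Finite G] {z w : G} {T D : Subgroup G}

/-- `E` is the odd part of the centraliser of `x`. -/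
def IsCoreAt (x : G) (E : Subgroup G) : Prop := ∃ (w' : G) (T' : Subgroup G), Nil G x w' T' E

theorem IsCoreAt.map {x : G} {E : Subgroup G} (h : IsCoreAt x E) (g : G) :
    IsCoreAt (g * x * g⁻¹) (E.map (MulAut.conj g).toMonoidHom) :=
  let ⟨_, _, h⟩ := h
  ⟨_, _, h.map g⟩

theorem IsCoreAt.unique {x : G} {E F : Subgroup G} (h : IsCoreAt x E) (h' : IsCoreAt x F) : E = F :=
  let ⟨_, _, h⟩ := h
  let ⟨_, _, h'⟩ := h'
  h.D_unique h'

theorem IsCoreAt.orderOf {x : G} {E : Subgroup G} (h : IsCoreAt x E) : orderOf x = 2 :=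
  let ⟨_, _, h⟩ := h
  h.base.hz

namespace Nil

variable (N : Nil G z w T D)
include N

theorem core_exists {x : G} (hx : _root_.orderOf x = 2) :
    ∃ E, IsCoreAt x E ∧ Nat.card E = Nat.card D := by
  obtain ⟨g, hg⟩ := isConj_iff.1 (N.base.one _ _ N.base.hz hx)
  refine ⟨D.map (MulAut.conj g).toMonoidHom, ?_, Subgroup.card_map_of_injective (MulAut.conj g).injective⟩
  rw [← hg]
  exact ⟨_, _, N.map g⟩

theorem core_card {x : G} {E : Subgroup G} (h : IsCoreAt x E) : Nat.card E = Nat.card D := by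
  obtain ⟨E', h', hc⟩ := N.core_exists h.orderOf
  rw [h.unique h', hc]

theorem core_eq {x y : G} {E : Subgroup G} (hE : IsCoreAt x E) (hy : _root_.orderOf y = 2)
    (hle : E ≤ cen y) : IsCoreAt y E := by
  obtain ⟨F, hF, hc⟩ := N.core_exists hy
  obtain ⟨wF, TF, NF⟩ := hF
  obtain ⟨wE, TE, NE⟩ := id hE
  have hEF : E = F := Subgroup.eq_of_le_of_card_ge (fun d hd => NF.mem_D (hle hd) (NE.card_D_coprime hd))
    (by rw [hc, N.core_card hE])
  exact ⟨wF, TF, hEF ▸ NF⟩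

theorem core_self : IsCoreAt z D := ⟨_, _, N⟩

/-- `D` is the odd part at every involution of the Sylow subgroup. -/
theorem core_sylow {a : G} (ha : a ∈ T) (ha2 : _root_.orderOf a = 2) (haz : a ≠ z) {S : Sylow 2 G}
    (hS : (∀ g, g ∈ (S : Subgroup G) ↔ g ∈ T) ∨
      ∃ s, Inverts z w s ∧ s ∉ T ∧ ∀ g, g ∈ (S : Subgroup G) ↔ g ∈ T ∨ g * s⁻¹ ∈ T)
    {x : G} (hx : x ∈ (S : Subgroup G)) (hx2 : _root_.orderOf x = 2) : IsCoreAt x D := by
  haveI : Fact (Nat.Prime 2) := ⟨Nat.prime_two⟩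
  have hT : ∀ y, y ∈ T → _root_.orderOf y = 2 → IsCoreAt y D := fun y hy hy2 =>
    N.core_eq N.core_self hy2 fun d hd => mem_cen.2 (N.comm y hy d hd).symm
  by_cases hxT : x ∈ T
  · exact hT x hxT hx2
  rcases hS with hS | ⟨s, hs, -, hS⟩
  · exact absurd ((hS x).1 hx) hxT
  have hxs : x * s⁻¹ ∈ T := ((hS x).1 hx).resolve_left hxT
  obtain ⟨b, hb, hb1, hbz, hbx⟩ := N.exists_cent ha ha2 haz hs (mul_self_of_two hx2) hxs hxT
  obtain ⟨E, hE, -⟩ := N.core_exists hx2
  obtain ⟨w', T', N'⟩ := id hE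
  obtain ⟨S', hT'S, hS'C, hS'⟩ := N'.exists_sylow_T
  set A := Subgroup.closure ({z, b} : Set G)
  have hzA : z ∈ A := Subgroup.subset_closure (Or.inl rfl)
  have hbA : b ∈ A := Subgroup.subset_closure (Or.inr rfl)
  have hAT : A ≤ T := (Subgroup.closure_le _).2 (by
    rintro y (rfl | rfl)
    · exact N.zT
    · exact hb)
  have hzx : Commute z x := by
    have hsz : Commute s z := hs.1
    have := (mem_cen.1 (N.hTC hxs)).mul_left hsz
    rw [inv_mul_cancel_right] at this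
    exact this.symm
  have hAC : A ≤ cen x := (Subgroup.closure_le _).2 (by
    rintro y (rfl | rfl)
    · exact mem_cen.2 hzx
    · exact mem_cen.2 hbx)
  obtain ⟨Q, hQ⟩ := ((N.hT.to_le hAT).of_equiv (Subgroup.subgroupOfEquivOfLe hAC).symm).exists_le_sylow
  obtain ⟨R, hR⟩ := (S'.2.of_equiv (Subgroup.subgroupOfEquivOfLe hS'C).symm).exists_le_sylow
  obtain ⟨c, hc⟩ := MulAction.exists_smul_eq (cen x) Q R
  have hRS : ∀ y : cen x, y ∈ (R : Subgroup (cen x)) → (y : G) ∈ (S' : Subgroup G) := by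
    have h := S'.3 (R.2.map (cen x).subtype) (fun y hy => ⟨⟨y, hS'C hy⟩,
      hR (show (⟨y, hS'C hy⟩ : cen x) ∈ (S' : Subgroup G).subgroupOf (cen x) from hy), rfl⟩)
    exact fun y hy => h ▸ ⟨y, hy, rfl⟩
  have hconj : ∀ y ∈ A, (c : G) * y * (c : G)⁻¹ ∈ (S' : Subgroup G) := fun y hy => by
    have h := hRS (c * ⟨y, hAC hy⟩ * c⁻¹) (by
      rw [← hc, Sylow.coe_subgroup_smul, Subgroup.mem_pointwise_smul_iff_inv_smul_mem]
      have e : (MulAut.conj c)⁻¹ • (c * ⟨y, hAC hy⟩ * c⁻¹) = (⟨y, hAC hy⟩ : cen x) := by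
        simp only [MulAut.smul_def, MulAut.conj_inv_apply]; group
      rw [e]
      exact hQ (show (⟨y, hAC hy⟩ : cen x) ∈ A.subgroupOf (cen x) from hy))
    simpa using h
  obtain ⟨y, hyA, hy1, hyT'⟩ : ∃ y ∈ A, y ≠ 1 ∧ y ∈ T' := by
    have back : ∀ y, (c : G) * y * (c : G)⁻¹ ∈ T' → y ∈ T' := fun y hy => by
      have := N'.normT _ (inv_mem c.2) _ hy
      rwa [inv_inv, show (c : G)⁻¹ * ((c : G) * y * (c : G)⁻¹) * c = y by group] at this
    rcases hS' with hS' | ⟨s', hs', -, hS'⟩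
    · exact ⟨z, hzA, ne_one_of_two N.base.hz, back z ((hS' _).1 (hconj z hzA))⟩
    rcases (hS' _).1 (hconj z hzA) with h | h
    · exact ⟨z, hzA, ne_one_of_two N.base.hz, back z h⟩
    rcases (hS' _).1 (hconj b hbA) with h' | h'
    · exact ⟨b, hbA, hb1, back b h'⟩
    refine ⟨z * b⁻¹, mul_mem hzA (inv_mem hbA), fun e => hbz (mul_inv_eq_one.1 e).symm, back _ ?_⟩
    have := mul_mem h (inv_mem h')
    rwa [show (c : G) * z * (c : G)⁻¹ * s'⁻¹ * ((c : G) * b * (c : G)⁻¹ * s'⁻¹)⁻¹ =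
      (c : G) * (z * b⁻¹) * (c : G)⁻¹ by group] at this
  obtain ⟨e, he, he2⟩ : ∃ e, e ∈ Subgroup.zpowers y ∧ _root_.orderOf e = 2 := by
    haveI : Nontrivial (Subgroup.zpowers y) := ⟨⟨⟨y, Subgroup.mem_zpowers y⟩, 1, fun h => hy1 (congrArg Subtype.val h)⟩⟩
    have hp : IsPGroup 2 (Subgroup.zpowers y) := N.hT.to_le (Subgroup.zpowers_le.2 (hAT hyA))
    obtain ⟨n, hn, hc⟩ := hp.nontrivial_iff_card.1 this
    obtain ⟨e, he⟩ := exists_prime_orderOf_dvd_card' (G := Subgroup.zpowers y) 2 (hc ▸ dvd_pow_self 2 hn.ne')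
    exact ⟨e, e.2, by rwa [Subgroup.orderOf_coe]⟩
  have heT : e ∈ T := Subgroup.zpowers_le.2 (hAT hyA) he
  have heT' : e ∈ T' := Subgroup.zpowers_le.2 hyT' he
  have h1 := hT e heT he2
  have h2 : IsCoreAt e E := N.core_eq hE he2 fun d hd => mem_cen.2 (N'.comm e heT' d hd).symm
  rw [h1.unique h2]
  exact hE

theorem D_eq_bot [IsSimpleGroup G] (hG : ¬ IsMulCommutative G) {a : G} (ha : a ∈ T) (ha2 : _root_.orderOf a = 2)
    (haz : a ≠ z) : D = ⊥ := by
  by_contra hD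
  haveI : Fact (Nat.Prime 2) := ⟨Nat.prime_two⟩
  obtain ⟨S, hTS, hSC, hS⟩ := N.exists_sylow_T
  set M := Subgroup.normalizer (D : Set G) with hM
  have hnorm : ∀ g : G, g ∈ M ↔ D.map (MulAut.conj g).toMonoidHom = D := by
    intro g
    rw [hM, Subgroup.mem_normalizer_iff]
    constructor
    · intro h
      refine Subgroup.eq_of_le_of_card_ge ?_ (le_of_eq (Subgroup.card_map_of_injective (MulAut.conj g).injective).symm)
      rintro _ ⟨d, hd, rfl⟩
      exact (h d).1 hd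
    · intro h x
      refine ⟨fun hx => h ▸ ⟨x, hx, rfl⟩, fun hx => ?_⟩
      rw [← h] at hx
      obtain ⟨d, hd, e⟩ := hx
      have : d = x := mul_left_cancel (mul_right_cancel e)
      exact this ▸ hd
  have hCM : cen z ≤ M := fun c hc => (hnorm c).2 (by
    refine Subgroup.eq_of_le_of_card_ge ?_ (le_of_eq (Subgroup.card_map_of_injective (MulAut.conj c).injective).symm)
    rintro _ ⟨d, hd, rfl⟩
    exact N.normD c hc d hd)
  have hall : ∀ x ∈ M, _root_.orderOf x = 2 → IsCoreAt x D := by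
    intro x hx hx2
    obtain ⟨P, hP⟩ := (isPGroup_zp (x := (⟨x, hx⟩ : M)) ((Subgroup.orderOf_mk x hx).trans hx2)).exists_le_sylow
    obtain ⟨m, hm⟩ := MulAction.exists_smul_eq M P (S.subtype (hSC.trans hCM))
    have hxS : (m : G) * x * (m : G)⁻¹ ∈ (S : Subgroup G) := by
      have h : m * ⟨x, hx⟩ * m⁻¹ ∈ (S.subtype (hSC.trans hCM) : Subgroup M) := by
        rw [← hm, Sylow.coe_subgroup_smul, Subgroup.mem_pointwise_smul_iff_inv_smul_mem]
        have e : (MulAut.conj m)⁻¹ • (m * ⟨x, hx⟩ * m⁻¹) = (⟨x, hx⟩ : M) := by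
          simp only [MulAut.smul_def, MulAut.conj_inv_apply]; group
        rw [e]
        exact hP (Subgroup.mem_zpowers _)
      exact h
    have h := (N.core_sylow ha ha2 haz hS hxS ((orderOf_conj _ x).trans hx2)).map (m : G)⁻¹
    rwa [show (m : G)⁻¹ * ((m : G) * x * (m : G)⁻¹) * (m : G)⁻¹⁻¹ = x by group,
      (hnorm _).1 (inv_mem m.2)] at h
  have hzM : z ∈ M := hCM N.base.z_cen
  have hse : Cfsg.IsStronglyEmbedded M := by
    refine ⟨fun h => ?_, even_iff_two_dvd.2 (N.base.hz ▸ Subgroup.orderOf_dvd_natCard M hzM), fun g hg => ?_⟩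
    · haveI hn : D.Normal := Subgroup.normalizer_eq_top_iff.1 h
      rcases hn.eq_bot_or_eq_top with e | e
      · exact hD e
      · have := N.hD.of_dvd_nat (Subgroup.orderOf_dvd_natCard D (e ▸ Subgroup.mem_top z))
        rw [N.base.hz] at this
        exact absurd this (by decide)
    · by_contra hodd
      rw [Nat.not_odd_iff_even, even_iff_two_dvd] at hodd
      obtain ⟨y, hy⟩ := exists_prime_orderOf_dvd_card' 2 hodd
      obtain ⟨x, hxx0⟩ : ∃ x : G, (y : G) = x := ⟨_, rfl⟩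
      have hxM : x ∈ M := hxx0 ▸ y.2.1
      have hxg : x ∈ M.map (MulAut.conj g).toMonoidHom := hxx0 ▸ y.2.2
      have hx2 : _root_.orderOf x = 2 := by rw [← hxx0, Subgroup.orderOf_coe, hy]
      obtain ⟨x', hx', hxx⟩ := hxg
      have hx'2 : _root_.orderOf x' = 2 := by
        rw [← hx2, ← hxx]; exact (orderOf_conj g x').symm
      have h1 := (hall x' hx' hx'2).map g
      rw [show g * x' * g⁻¹ = x from hxx] at h1
      exact hg ((hnorm g).2 (h1.unique (hall x hxM hx2)))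
  rcases Cfsg.Agent.S0222.result (by
      by_contra h
      push Not at h
      exact hG ⟨⟨h⟩⟩) M hse with ⟨F, _, _, hF2, -, ⟨e⟩⟩ | h | ⟨F, _, _, q, hF, hq, h4, ⟨e⟩⟩
  · have hw2 := even_sq (x := e z) (g := e w) (by rw [← map_mul, mul_self_of_two N.base.hz, map_one])
      (fun h => ne_one_of_two N.base.hz (e.map_eq_one_iff.1 h)) (N.base.hzw.symm.map e)
    have h : w * w = 1 := e.injective (by rw [map_mul, hw2, map_one])
    rw [← pow_two] at h
    have := orderOf_dvd_of_pow_eq_one h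
    rw [N.base.hw] at this
    norm_num at this
  · obtain ⟨-, m, -, hcard⟩ := h
    have h3 := _root_.orderOf_dvd_natCard w
    rw [N.base.hw, hcard] at h3
    set q := 2 ^ (2 * m + 1) with hq
    have hq3 : q % 3 = 2 := by rw [hq, pow_succ, pow_mul, Nat.mul_mod, Nat.pow_mod]; norm_num
    have e2 : q ^ 2 % 3 = 1 := by rw [Nat.pow_mod, hq3]
    clear_value q
    clear hq
    have e1 : (q - 1) % 3 = 1 := by omega
    have e3 : (q ^ 2 + 1) % 3 = 2 := by omega
    rw [Nat.dvd_iff_mod_eq_zero, Nat.mul_mod, Nat.mul_mod (q ^ 2), e2, e3, e1] at h3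
    norm_num at h3
  · exact N.base.not_psu3 hF hq h4 e

end Nil

end CfsgLib.SelfSix
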