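import Cfsg.Agent.Lib.SelfSix.ClassTwo

/-!
The second centre of `T`, and an involution in the derived group.
-/

set_option autoImplicit false
set_option linter.unusedSectionVars false
set_option linter.style.haveILetI false

namespace CfsgLib.SelfSix

open Cfsg
open scoped commutatorElement

universe u

variable {G : Type u} [Group G] {z w : G} {T D : Subgroup G}

/-- Elements of `T` central modulo `z`. -/
def Mid (z : G) (T : Subgroup G) (a : G) : Prop := a ∈ T ∧ ∀ t ∈ T, ⁅a, t⁆ = 1 ∨ ⁅a, t⁆ = z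

namespace Nil

variable (N : Nil G z w T D)
include N

theorem pair_mul {x y : G} (hx : x = 1 ∨ x = z) (hy : y = 1 ∨ y = z) : x * y = 1 ∨ x * y = z := by
  rcases hx with rfl | rfl <;> rcases hy with rfl | rfl <;> simp [mul_self_of_two N.base.hz]

theorem pair_conj {x t : G} (hx : x = 1 ∨ x = z) (ht : t ∈ T) : t * x * t⁻¹ = x := by
  rcases hx with rfl | rfl
  · simp
  · rw [(N.z_comm ht).eq, mul_inv_cancel_right]

/-- The elements central modulo `z` form a subgroup. -/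
theorem exists_mid : ∃ A : Subgroup G, ∀ a, a ∈ A ↔ Mid z T a := by
  refine ⟨{ carrier := {a | Mid z T a}, one_mem' := ⟨one_mem _, fun t _ => Or.inl (commutatorElement_one_left t)⟩,
            mul_mem' := ?_, inv_mem' := ?_ }, fun a => Iff.rfl⟩
  · rintro a b ⟨ha, ha'⟩ ⟨hb, hb'⟩
    refine ⟨mul_mem ha hb, fun t ht => ?_⟩
    rw [show ⁅a * b, t⁆ = a * ⁅b, t⁆ * a⁻¹ * ⁅a, t⁆ by simp only [commutatorElement_def]; group,
      N.pair_conj (hb' t ht) ha]
    exact N.pair_mul (hb' t ht) (ha' t ht)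
  · rintro a ⟨ha, ha'⟩
    refine ⟨inv_mem ha, fun t ht => ?_⟩
    rw [show ⁅a⁻¹, t⁆ = a⁻¹ * ⁅a, t⁆⁻¹ * a⁻¹⁻¹ by simp only [commutatorElement_def]; group]
    have hi : ⁅a, t⁆⁻¹ = 1 ∨ ⁅a, t⁆⁻¹ = z := by
      rcases ha' t ht with e | e <;> rw [e]
      · exact Or.inl inv_one
      · exact Or.inr (inv_of_two N.base.hz)
    rw [N.pair_conj hi (inv_mem ha)]
    exact hi

/-- A noncentral element of the second centre moves under the outside of its centraliser to itself times `z`. -/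
theorem mid_move {a t : G} (ha : Mid z T a) (ht : t ∈ T) (h : ¬ Commute t a) : t * a * t⁻¹ = a * z := by
  have e := (ha.2 t ht).resolve_left fun e => h (commutatorElement_eq_one_iff_commute.1 e).symm
  calc t * a * t⁻¹ = a * ⁅a⁻¹, t⁆ := by simp only [commutatorElement_def]; group
    _ = a * (a⁻¹ * ⁅a, t⁆⁻¹ * a) := by simp only [commutatorElement_def]; group
    _ = ⁅a, t⁆⁻¹ * a := by group
    _ = a * z := by rw [e, inv_of_two N.base.hz, (N.z_comm ha.1).eq]

theorem mid_w {a : G} (ha : Mid z T a) : Mid z T (w * a * w⁻¹) := by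
  refine ⟨N.wT a ha.1, fun t ht => ?_⟩
  have h1 := N.normT w⁻¹ (inv_mem N.base.w_cen) t ht
  rw [inv_inv] at h1
  have e : ⁅w * a * w⁻¹, t⁆ = w * ⁅a, w⁻¹ * t * w⁆ * w⁻¹ := by simp only [commutatorElement_def]; group
  rw [e]
  rcases ha.2 _ h1 with e' | e' <;> rw [e']
  · exact Or.inl (by group)
  · exact Or.inr (by rw [N.base.hzw.symm.eq, mul_inv_cancel_right])

variable [Finite G]

theorem derived_mid {a : G} (ha : a ∈ ⁅T, T⁆) : Mid z T a := by
  obtain ⟨A, hA⟩ := N.exists_mid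
  refine (hA a).1 (Subgroup.commutator_le.2 (fun x hx y hy => (hA _).2 ⟨?_, fun t ht => N.class_two hx hy ht⟩) ha)
  exact Subgroup.commutator_le.2 (fun p hp q hq => T.mul_mem (T.mul_mem (T.mul_mem hp hq) (T.inv_mem hp))
    (T.inv_mem hq)) (Subgroup.commutator_mem_commutator hx hy)

theorem derived_le : ⁅T, T⁆ ≤ T := fun _ ha => (N.derived_mid ha).1

/-- An element of the second centre commutes with the derived group. -/
theorem mid_comm {a : G} (ha : Mid z T a) {c : G} (hc : c ∈ ⁅T, T⁆) : Commute a c := by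
  refine (Subgroup.mem_centralizer_singleton_iff.1 ((Subgroup.commutator_le (H₃ := Subgroup.centralizer {a})).2
    (fun x hx y hy => Subgroup.mem_centralizer_singleton_iff.2 ?_) hc)).symm
  have hmove : ∀ x ∈ T, ∃ ζ, (ζ = 1 ∨ ζ = z) ∧ a * x * a⁻¹ = x * ζ := fun x hx => ⟨⁅a, x⁆, ha.2 x hx, by
    rw [show x * ⁅a, x⁆ = x * ⁅a, x⁆ * x⁻¹ * x by group, N.pair_conj (ha.2 x hx) hx]
    simp only [commutatorElement_def]; group⟩
  obtain ⟨ζ, hζ, e1⟩ := hmove x hx
  obtain ⟨η, hη, e2⟩ := hmove y hy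
  have hcen : ∀ ζ', (ζ' = 1 ∨ ζ' = z) → ∀ u ∈ T, Commute ζ' u := by
    rintro ζ' (rfl | rfl) u hu
    · exact Commute.one_left u
    · exact (N.z_comm hu).symm
  have e : a * ⁅x, y⁆ * a⁻¹ = ⁅x, y⁆ := by
    calc a * ⁅x, y⁆ * a⁻¹ = ⁅a * x * a⁻¹, a * y * a⁻¹⁆ := by simp only [commutatorElement_def]; group
      _ = ⁅x * ζ, y * η⁆ := by rw [e1, e2]
      _ = ⁅x, y⁆ := by
        have hζη : η ∈ T := by rcases hη with rfl | rfl; exacts [one_mem _, N.zT]
        simp only [commutatorElement_def, mul_inv_rev]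
        rw [show x * ζ * (y * η) = x * y * (ζ * η) by
          rw [mul_assoc x, ← mul_assoc ζ, (hcen ζ hζ y hy).eq]; group,
          show x * y * (ζ * η) * (ζ⁻¹ * x⁻¹) = x * y * η * (ζ * ζ⁻¹) * x⁻¹ by
            rw [(hcen ζ hζ η hζη).eq]; group]
        rw [mul_inv_cancel, mul_one, mul_assoc (x * y) η, (hcen η hη _ (inv_mem hx)).eq]
        group
  exact (mul_inv_eq_iff_eq_mul.1 e).symm

theorem derived_comm {a c : G} (ha : a ∈ ⁅T, T⁆) (hc : c ∈ ⁅T, T⁆) : Commute a c :=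
  N.mid_comm (N.derived_mid ha) hc

theorem derived_w {c : G} (hc : c ∈ ⁅T, T⁆) : w * c * w⁻¹ ∈ ⁅T, T⁆ := by
  refine (Subgroup.commutator_le (H₃ := (⁅T, T⁆ : Subgroup G).comap (MulAut.conj w).toMonoidHom)).2
    (fun x hx y hy => ?_) hc
  show w * ⁅x, y⁆ * w⁻¹ ∈ ⁅T, T⁆
  rw [show w * ⁅x, y⁆ * w⁻¹ = ⁅w * x * w⁻¹, w * y * w⁻¹⁆ by simp only [commutatorElement_def]; group]
  exact Subgroup.commutator_mem_commutator (N.wT x hx) (N.wT y hy)

/-- An involution of the derived group outside `⟨z⟩`. -/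
theorem exists_derived_invol (h : ¬ ∀ x ∈ T, ∀ y ∈ T, ⁅x, y⁆ = 1 ∨ ⁅x, y⁆ = z) :
    ∃ a ∈ ⁅T, T⁆, a * a = 1 ∧ a ≠ 1 ∧ a ≠ z := by
  by_contra hcon
  push Not at hcon
  refine h fun x hx y hy => ?_
  suffices key : ∀ k, ∀ u ∈ ⁅T, T⁆, u ^ 2 ^ k = 1 → u = 1 ∨ u = z by
    obtain ⟨k, hk⟩ := N.hT ⟨_, N.derived_le (Subgroup.commutator_mem_commutator hx hy)⟩
    exact key k _ (Subgroup.commutator_mem_commutator hx hy) (congrArg Subtype.val hk)
  have hinv : ∀ u ∈ ⁅T, T⁆, u * u = 1 → u = 1 ∨ u = z := fun u hu e => by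
    by_cases h1 : u = 1
    · exact Or.inl h1
    · exact Or.inr (hcon u hu e h1)
  intro k
  induction k with
  | zero => intro u _ e; exact Or.inl (by simpa using e)
  | succ k ih =>
    intro u hu e
    rw [pow_succ', pow_mul, pow_two] at e
    rcases ih (u * u) (mul_mem hu hu) e with e | e
    · exact hinv u hu e
    refine N.mod_of_fix (N.derived_le hu) (hinv _ (mul_mem (inv_mem hu) (N.derived_w hu)) ?_)
    have hc : Commute u (w * u * w⁻¹) := N.derived_comm hu (N.derived_w hu)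
    calc u⁻¹ * (w * u * w⁻¹) * (u⁻¹ * (w * u * w⁻¹)) = u⁻¹ * ((w * u * w⁻¹) * u⁻¹) * (w * u * w⁻¹) := by group
      _ = (u * u)⁻¹ * (w * (u * u) * w⁻¹) := by rw [← hc.inv_left.eq]; group
      _ = 1 := by rw [e, N.base.hzw.symm.eq, mul_inv_cancel_right, inv_mul_cancel]

end Nil

end CfsgLib.SelfSix
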