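import Cfsg.Agent.Lib.SelfSix.Derived
import Cfsg.Agent.Lib.Elementary

/-!
`T` modulo its Frattini subgroup has more than four elements unless it is abelian modulo `z`.
-/

set_option autoImplicit false
set_option linter.unusedSectionVars false
set_option linter.style.haveILetI false

namespace CfsgLib.SelfSix

open Cfsg
open scoped commutatorElement

universe u

variable {G : Type u} [Group G] [Finite G] {z w : G} {T D : Subgroup G}

namespace Nil

variable (N : Nil G z w T D)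
include N

theorem mid_index {a : G} (ha : Mid z T a) {t : G} (ht : t ∈ T) (hta : ¬ Commute t a) :
    ((T ⊓ cen a).subgroupOf T).index = 2 := by
  refine Subgroup.index_eq_two_iff.2 ⟨⟨t, ht⟩, fun b => ?_⟩
  by_cases hb : (b : G) ∈ T ⊓ cen a
  · refine Or.inr ⟨hb, fun h => hta ?_⟩
    have h2 : (b : G) * t ∈ T ⊓ cen a := h
    have := mul_mem (inv_mem hb) h2
    rw [inv_mul_cancel_left] at this
    exact mem_cen.1 this.2
  · refine Or.inl ⟨?_, hb⟩
    have hba : ¬ Commute (b : G) a := fun h => hb ⟨b.2, mem_cen.2 h⟩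
    refine ⟨mul_mem b.2 ht, mem_cen.2 (mul_inv_eq_iff_eq_mul.1 ?_)⟩
    calc (b : G) * t * a * ((b : G) * t)⁻¹ = (b : G) * (t * a * t⁻¹) * (b : G)⁻¹ := by group
      _ = ((b : G) * a * (b : G)⁻¹) * ((b : G) * z * (b : G)⁻¹) := by rw [N.mid_move ha ht hta]; group
      _ = a := by
        rw [N.mid_move ha b.2 hba, (N.z_comm b.2).eq, mul_inv_cancel_right, mul_assoc,
          mul_self_of_two N.base.hz, mul_one]

/-- The orbit relation for an element of the second centre. -/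
theorem third {a : G} (ha : a ∈ T) : ∃ ζ, (ζ = 1 ∨ ζ = z) ∧
    w * (w * a * w⁻¹) * w⁻¹ = (a * (w * a * w⁻¹))⁻¹ * ζ := by
  refine ⟨_, N.orbit ha, ?_⟩
  group

theorem derived_z (hZ : ∀ y ∈ T, (∀ t ∈ T, Commute y t) → y = 1 ∨ y = z)
    (hnc : ¬ ∀ x ∈ T, ∀ y ∈ T, ⁅x, y⁆ = 1 ∨ ⁅x, y⁆ = z) : z ∈ ⁅T, T⁆ := by
  obtain ⟨a, ha, -, ha1, haz⟩ := N.exists_derived_invol hnc
  obtain ⟨t, ht, hta⟩ : ∃ t ∈ T, ¬ Commute t a := by
    by_contra h
    push Not at h
    exact (hZ a (N.derived_le ha) fun t ht => (h t ht).symm).elim ha1 haz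
  have hm := N.derived_mid ha
  rw [← (hm.2 t ht).resolve_left fun e => hta (commutatorElement_eq_one_iff_commute.1 e).symm]
  exact Subgroup.commutator_mem_commutator (N.derived_le ha) ht

/-- The Frattini subgroup of `T`, in the group. -/
theorem frattini_index (hnc : ¬ ∀ x ∈ T, ∀ y ∈ T, ⁅x, y⁆ = 1 ∨ ⁅x, y⁆ = z)
    (hZ : ∀ y ∈ T, (∀ t ∈ T, Commute y t) → y = 1 ∨ y = z) :
    4 < (frattini T).index := by
  classical
  haveI : Fact (Nat.Prime 2) := ⟨Nat.prime_two⟩
  by_contra hle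
  push Not at hle
  set Φ := frattini T
  set wn : Subgroup.normalizer (T : Set G) := ⟨w, Subgroup.mem_normalizer_iff.2 fun x => ⟨N.wT x, fun h => by
    have := N.normT w⁻¹ (inv_mem N.base.w_cen) _ h
    rwa [inv_inv, show w⁻¹ * (w * x * w⁻¹) * w = x by group] at this⟩⟩
  set σ : MulAut T := Subgroup.normalizerMonoidHom T wn
  have hσ : ∀ x : T, ((σ x : T) : G) = w * x * w⁻¹ := fun x => rfl
  have hσΦ : ∀ x ∈ Φ, σ x ∈ Φ := fun x hx => by
    have h := Subgroup.characteristic_iff_map_eq.1 (inferInstance : Φ.Characteristic) σ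
    rw [← h]
    exact ⟨x, hx, rfl⟩
  have hσΦ' : ∀ x, σ x ∈ Φ → x ∈ Φ := fun x hx => by
    have h := Subgroup.characteristic_iff_map_eq.1 (inferInstance : Φ.Characteristic) σ
    rw [← h] at hx
    obtain ⟨y, hy, e⟩ := hx
    exact σ.injective e ▸ hy
  have hσ3 : ∀ x, σ (σ (σ x)) = x := fun x => Subtype.ext (by
    rw [hσ, hσ, hσ, show w * (w * (w * (x : G) * w⁻¹) * w⁻¹) * w⁻¹ = w * w * w * (x : G) * (w * w * w)⁻¹ by group,
      N.w_three]
    group)
  have hcomm : ∀ u ∈ ⁅T, T⁆, ∀ hu : u ∈ T, (⟨u, hu⟩ : T) ∈ Φ := by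
    intro u hu
    have key : ⁅T, T⁆ ≤ Φ.map T.subtype := Subgroup.commutator_le.2 fun p hp q hq =>
      ⟨⁅(⟨p, hp⟩ : T), ⟨q, hq⟩⁆, CfsgLib.commutator_le_frattini_pGroup N.hT
        (Subgroup.commutator_mem_commutator (Subgroup.mem_top _) (Subgroup.mem_top _)), rfl⟩
    intro hu'
    obtain ⟨v, hv, e⟩ := key hu
    exact (Subtype.ext e : v = ⟨u, hu'⟩) ▸ hv
  have hzΦ : (⟨z, N.zT⟩ : T) ∈ Φ := hcomm z (N.derived_z hZ hnc) N.zT
  -- a fixed coset is trivial
  have hfix : ∀ x : T, x⁻¹ * σ x ∈ Φ → x ∈ Φ := by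
    intro x hx
    have h3 : ¬ 3 ∣ Nat.card Φ := by
      intro h
      obtain ⟨m, hm⟩ := IsPGroup.exists_card_eq (N.hT.to_subgroup Φ)
      rw [hm] at h
      exact absurd (Nat.prime_three.dvd_of_dvd_pow h) (by norm_num)
    obtain ⟨n, hn, he⟩ := CfsgLib.FpfSymThree.exists_fixed_coset σ hσ3 hσΦ h3 hx
    have h := N.T_zero (x * n : T).2 (by
      refine (mul_inv_eq_iff_eq_mul.1 ?_).symm
      rw [← hσ, he])
    have hm : x * n ∈ Φ := by
      rcases h with e | e
      · rw [show x * n = 1 from Subtype.ext e]; exact one_mem _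
      · rw [show x * n = ⟨z, N.zT⟩ from Subtype.ext e]; exact hzΦ
    exact (Subgroup.mul_mem_cancel_right Φ hn).1 hm
  have hne : Φ ≠ ⊤ := fun e => by
    have h : (⊥ : Subgroup T) = ⊤ := frattini_nongenerating (by rw [bot_sup_eq]; exact e)
    refine ne_one_of_two N.base.hz ?_
    have hz' : (⟨z, N.zT⟩ : T) ∈ (⊥ : Subgroup T) := h ▸ Subgroup.mem_top _
    exact congrArg Subtype.val (Subgroup.mem_bot.1 hz')
  obtain ⟨x, hx⟩ : ∃ x : T, x ∉ Φ := by
    by_contra h
    push Not at h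
    exact hne (eq_top_iff.2 fun y _ => h y)
  set y := σ x with hy
  have hyΦ : y ∉ Φ := fun h => hx (hσΦ' x h)
  have hxy : x⁻¹ * y ∉ Φ := fun h => hx (hfix x h)
  have hxy' : x * y ∉ Φ := fun h => hxy (by
    rw [show x⁻¹ * y = (x * x)⁻¹ * (x * y) by group]
    exact mul_mem (inv_mem (by rw [← pow_two]; exact CfsgLib.pow_mem_frattini_pGroup N.hT x)) h)
  haveI : Φ.Normal := inferInstance
  let f : Fin 4 → T ⧸ Φ := ![1, (x : T ⧸ Φ), (y : T ⧸ Φ), ((x * y : T) : T ⧸ Φ)]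
  have h1 : (x : T ⧸ Φ) ≠ 1 := fun h => hx ((QuotientGroup.eq_one_iff x).1 h)
  have h2 : (y : T ⧸ Φ) ≠ 1 := fun h => hyΦ ((QuotientGroup.eq_one_iff y).1 h)
  have h3 : ((x * y : T) : T ⧸ Φ) ≠ 1 := fun h => hxy' ((QuotientGroup.eq_one_iff _).1 h)
  have h4 : (x : T ⧸ Φ) ≠ y := fun h => hxy (QuotientGroup.eq.1 h)
  have h5 : (x : T ⧸ Φ) ≠ ((x * y : T) : T ⧸ Φ) := fun h => hyΦ (by
    have := QuotientGroup.eq.1 h
    rwa [inv_mul_cancel_left] at this)
  have h6 : (y : T ⧸ Φ) ≠ ((x * y : T) : T ⧸ Φ) := fun h => hx (by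
    have := (inferInstance : Φ.Normal).conj_mem _ (QuotientGroup.eq.1 h) y
    rwa [show y * (y⁻¹ * (x * y)) * y⁻¹ = x by group] at this)
  have hf : Function.Injective f := by
    intro i j h
    fin_cases i <;> fin_cases j <;>
      first
      | rfl
      | exact absurd h h1 | exact absurd h h1.symm | exact absurd h h2 | exact absurd h h2.symm
      | exact absurd h h3 | exact absurd h h3.symm | exact absurd h h4 | exact absurd h h4.symm
      | exact absurd h h5 | exact absurd h h5.symm | exact absurd h h6 | exact absurd h h6.symm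
  have hb : Function.Bijective f := (Nat.bijective_iff_injective_and_card f).2
    ⟨hf, le_antisymm (Nat.card_le_card_of_injective f hf) (by rw [Nat.card_fin]; exact hle)⟩
  set X := Subgroup.closure ({x, y} : Set T)
  have hxX : x ∈ X := Subgroup.subset_closure (Or.inl rfl)
  have hyX : y ∈ X := Subgroup.subset_closure (Or.inr rfl)
  have htop : X ⊔ Φ = ⊤ := by
    refine eq_top_iff.2 fun v _ => ?_
    obtain ⟨i, hi⟩ := hb.2 (v : T ⧸ Φ)
    have key : ∀ u ∈ X, (u : T ⧸ Φ) = v → v ∈ X ⊔ Φ := fun u hu h => by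
      rw [show v = u * (u⁻¹ * v) by group]
      exact Subgroup.mul_mem_sup hu (QuotientGroup.eq.1 h)
    fin_cases i
    exacts [key 1 (one_mem _) hi, key x hxX hi, key y hyX hi, key _ (mul_mem hxX hyX) hi]
  have hXtop := frattini_nongenerating htop
  -- `x` and its image are central modulo `z`
  let V : G → Subgroup T := fun g =>
    { carrier := {v | ⁅g, (v : G)⁆ = 1 ∨ ⁅g, (v : G)⁆ = z}
      one_mem' := Or.inl (commutatorElement_one_right g)
      mul_mem' := fun {u v} hu hv => by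
        show ⁅g, ((u * v : T) : G)⁆ = 1 ∨ _
        rw [Subgroup.coe_mul, show ⁅g, (u : G) * v⁆ = ⁅g, (u : G)⁆ * ((u : G) * ⁅g, (v : G)⁆ * (u : G)⁻¹) by
          simp only [commutatorElement_def]; group, N.pair_conj hv u.2]
        exact N.pair_mul hu hv
      inv_mem' := fun {u} hu => by
        show ⁅g, ((u⁻¹ : T) : G)⁆ = 1 ∨ _
        rw [InvMemClass.coe_inv, show ⁅g, (u : G)⁻¹⁆ = (u : G)⁻¹ * ⁅g, (u : G)⁆⁻¹ * (u : G)⁻¹⁻¹ by
          simp only [commutatorElement_def]; group]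
        have hi : ⁅g, (u : G)⁆⁻¹ = 1 ∨ ⁅g, (u : G)⁆⁻¹ = z := by
          rcases hu with e | e <;> rw [e]
          · exact Or.inl inv_one
          · exact Or.inr (inv_of_two N.base.hz)
        rw [N.pair_conj hi (inv_mem u.2)]
        exact hi }
  have hVx : X ≤ V (x : G) := (Subgroup.closure_le _).2 (by
    rintro v (rfl | rfl)
    · exact Or.inl (by rw [commutatorElement_self])
    · show ⁅(x : G), ((σ x : T) : G)⁆ = 1 ∨ _
      rw [hσ]; exact N.comm_w x.2)
  have hmx : Mid z T (x : G) := ⟨x.2, fun v hv => hVx (hXtop.symm ▸ Subgroup.mem_top (⟨v, hv⟩ : T))⟩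
  obtain ⟨A, hA⟩ := N.exists_mid
  have hall : X ≤ A.subgroupOf T := (Subgroup.closure_le _).2 (by
    rintro v (rfl | rfl)
    · exact (hA _).2 hmx
    · exact (hA _).2 (by show Mid z T ((σ x : T) : G); rw [hσ]; exact N.mid_w hmx))
  exact hnc fun p hp q hq => ((hA p).1 (hall (hXtop.symm ▸ Subgroup.mem_top (⟨p, hp⟩ : T)))).2 q hq

end Nil

end CfsgLib.SelfSix
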