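import Cfsg.Agent.Lib.SelfSix.Central
import Cfsg.Agent.Lib.SelfSix.Gen

/-!
`T` of index two in a Sylow subgroup and not extraspecial.
-/

set_option autoImplicit false
set_option linter.unusedSectionVars false
set_option linter.style.haveILetI false

namespace CfsgLib.SelfSix

open Cfsg
open scoped commutatorElement

universe u

variable {G : Type u} [Group G] [Finite G] {z w : G} {T D : Subgroup G}

/-- A subgroup of half the order. -/
theorem half_facts {M R : Subgroup G} (hMR : M ≤ R) (h : Nat.card R = 2 * Nat.card M) :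
    (∀ r ∈ R, ∀ m ∈ M, r * m * r⁻¹ ∈ M) ∧ (∀ u ∈ R, ∀ v ∈ R, u ∉ M → v ∉ M → u * v ∈ M) := by
  have hi : (M.subgroupOf R).index = 2 := by
    have := Subgroup.card_mul_index (M.subgroupOf R)
    rw [Nat.card_congr (Subgroup.subgroupOfEquivOfLe hMR).toEquiv, h, mul_comm 2] at this
    exact Nat.eq_of_mul_eq_mul_left Nat.card_pos this
  refine ⟨fun r hr m hm => ?_, fun u hu v hv hu' hv' => ?_⟩
  · haveI : (M.subgroupOf R).Normal := Subgroup.normal_of_index_eq_two hi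
    exact (inferInstance : (M.subgroupOf R).Normal).conj_mem ⟨m, hMR hm⟩ hm ⟨r, hr⟩
  · exact (Subgroup.mul_mem_iff_of_index_two hi (a := (⟨u, hu⟩ : R)) (b := ⟨v, hv⟩)).2 (iff_of_false hu' hv')

namespace Nil

variable (N : Nil G z w T D)
include N

/-- The centre of the Sylow subgroup. -/
theorem sylow_center (hD : D = ⊥) {s : G} (hs : Inverts z w s)
    (htop : ∀ g ∈ cen z, ∃ x ∈ T, ∃ d ∈ D, ∃ i : ℕ, g = x * d * w ^ i ∨ g = x * d * w ^ i * s)
    (S : Sylow 2 G) (hS : ∀ g, g ∈ (S : Subgroup G) ↔ g ∈ T ∨ g * s⁻¹ ∈ T)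
    (hZ : ∀ y ∈ T, (∀ t ∈ T, Commute y t) → y = 1 ∨ y = z)
    {a : G} (ha : a ∈ T) (ha1 : a ≠ 1) (haz : a ≠ z) (has : Commute a s)
    {y : G} (hy : y ∈ (S : Subgroup G)) (hc : ∀ r ∈ (S : Subgroup G), Commute y r) : y = 1 ∨ y = z := by
  have hyT : ∀ t ∈ T, Commute y t := fun t ht => hc t ((hS t).2 (Or.inl ht))
  rcases (hS y).1 hy with h | h
  · exact hZ y h hyT
  exfalso
  obtain ⟨x, rfl⟩ : ∃ x, y = x * s := ⟨y * s⁻¹, (inv_mul_cancel_right y s).symm⟩
  rw [mul_inv_cancel_right] at h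
  set u := w⁻¹ * (x * s) * w * (x * s)⁻¹
  have huC : u ∈ cen z := mul_mem (mul_mem (mul_mem (inv_mem N.base.w_cen) (mul_mem (N.hTC h) (mem_cen.2 hs.1)))
    N.base.w_cen) (inv_mem (mul_mem (N.hTC h) (mem_cen.2 hs.1)))
  have hua : Commute u a := by
    refine mul_inv_eq_iff_eq_mul.1 ?_
    have h1 := N.wT a ha
    calc u * a * u⁻¹ = w⁻¹ * ((x * s) * (w * ((x * s)⁻¹ * a * (x * s)) * w⁻¹) * (x * s)⁻¹) * w := by
          simp only [u]; group
      _ = w⁻¹ * (w * a * w⁻¹) * w := by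
        rw [mul_assoc _ a, ← (hyT a ha).eq, inv_mul_cancel_left, (hyT _ h1).eq, mul_inv_cancel_right]
      _ = a := by group
  have hw2 : w⁻¹ * w⁻¹ = w := by
    rw [← mul_inv_rev, inv_eq_iff_mul_eq_one, N.w_three]
  have huw : u = (w⁻¹ * x * w) * (w * x⁻¹ * w⁻¹) * w := by
    calc u = w⁻¹ * x * (s * w * s⁻¹) * x⁻¹ := by simp only [u]; group
      _ = (w⁻¹ * x * w) * (w⁻¹ * w⁻¹) * x⁻¹ := by rw [hs.2.1]; group
      _ = _ := by rw [hw2]; group
  have hx1 : (w⁻¹ * x * w) * (w * x⁻¹ * w⁻¹) ∈ T := by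
    refine mul_mem ?_ (N.wT _ (inv_mem h))
    have := N.normT w⁻¹ (inv_mem N.base.w_cen) x h
    rwa [inv_inv] at this
  have hno : ∀ t ∈ T, ∀ r : G, (∃ k, r ^ 2 ^ k = 1) → r = t * w → False := by
    rintro t ht r ⟨k, hk⟩ rfl
    have := N.twist_trivial ht 1 (k := k) (by rwa [pow_one])
    rw [pow_one] at this
    have h3 := N.base.hw
    rw [this, orderOf_one] at h3
    omega
  rcases N.pair_mem_s hD hs htop ha ha1 haz has huC hua with h1 | h1
  · obtain ⟨k, hk⟩ := N.hT ⟨u, h1⟩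
    exact hno _ hx1 u ⟨k, congrArg Subtype.val hk⟩ huw
  · obtain ⟨k, hk⟩ := S.2 ⟨s, (hS s).2 (Or.inr (by rw [mul_inv_cancel]; exact one_mem _))⟩
    refine hno ((u * s⁻¹)⁻¹ * ((w⁻¹ * x * w) * (w * x⁻¹ * w⁻¹))) (mul_mem (inv_mem h1) hx1) s
      ⟨k, congrArg Subtype.val hk⟩ ?_
    rw [mul_assoc _ _ w, ← huw]
    group

theorem double_case [IsSimpleGroup G] (hG : ¬ IsMulCommutative G) (hD : D = ⊥) {s : G} (hs : Inverts z w s)
    (htop : ∀ g ∈ cen z, ∃ x ∈ T, ∃ d ∈ D, ∃ i : ℕ, g = x * d * w ^ i ∨ g = x * d * w ^ i * s)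
    (hsT : s ∉ T)
    (S : Sylow 2 G) (hS : ∀ g, g ∈ (S : Subgroup G) ↔ g ∈ T ∨ g * s⁻¹ ∈ T)
    (hZ : ∀ y ∈ T, (∀ t ∈ T, Commute y t) → y = 1 ∨ y = z)
    (hnc : ¬ ∀ x ∈ T, ∀ y ∈ T, ⁅x, y⁆ = 1 ∨ ⁅x, y⁆ = z) : Cfsg.Spor.IsoJ1 G := by
  classical
  haveI : Fact (Nat.Prime 2) := ⟨Nat.prime_two⟩
  have H := N.base
  set A : Subgroup G := ⁅T, T⁆ with hAdef
  have hAn : ∀ c ∈ cen z, ∀ x ∈ A, c * x * c⁻¹ ∈ A := fun c hc x hx => by
    refine (Subgroup.commutator_le (H₃ := A.comap (MulAut.conj c).toMonoidHom)).2 (fun p hp q hq => ?_) hx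
    show c * ⁅p, q⁆ * c⁻¹ ∈ A
    rw [show c * ⁅p, q⁆ * c⁻¹ = ⁅c * p * c⁻¹, c * q * c⁻¹⁆ by simp only [commutatorElement_def]; group]
    exact Subgroup.commutator_mem_commutator (N.normT c hc p hp) (N.normT c hc q hq)
  -- an involution of the derived group fixed by `s`
  let E : Subgroup G :=
    { carrier := {x | x ∈ A ∧ x * x = 1}
      one_mem' := ⟨one_mem _, one_mul 1⟩
      mul_mem' := fun {x y} hx hy => ⟨mul_mem hx.1 hy.1, by
        rw [mul_assoc, ← mul_assoc y x, ← (N.derived_comm hx.1 hy.1).eq, mul_assoc x y, hy.2, mul_one, hx.2]⟩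
      inv_mem' := fun {x} hx => ⟨inv_mem hx.1, by rw [← mul_inv_rev, hx.2, inv_one]⟩ }
  have hEn : ∀ c ∈ cen z, ∀ x ∈ E, c * x * c⁻¹ ∈ E := fun c hc x hx =>
    ⟨hAn c hc x hx.1, by rw [conj_mul, hx.2, mul_one, mul_inv_cancel]⟩
  obtain ⟨a₀, ha₀, ha₀2, ha₀1, ha₀z⟩ := N.exists_derived_invol hnc
  obtain ⟨a, ⟨haA, haa⟩, ha1, haz, has⟩ := N.exists_fixed hs E (fun x hx => N.derived_le hx.1) (fun x hx => hx.2)
    (fun x hx => hEn w H.w_cen x hx) (fun x hx => hEn s (mem_cen.2 hs.1) x hx)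
    (show a₀ ∈ E from ⟨ha₀, ha₀2⟩) ha₀1 ha₀z
  have ha : Mid z T a := N.derived_mid haA
  have hzA : z ∈ A := N.derived_z hZ hnc
  obtain ⟨t, ht, hta⟩ : ∃ t ∈ T, ¬ Commute t a := by
    by_contra h
    push Not at h
    exact (hZ a ha.1 fun t ht => (h t ht).symm).elim ha1 haz
  have hza : Commute z a := (N.z_comm ha.1).symm
  have hsC : s ∈ cen z := mem_cen.2 hs.1
  have hTS : T ≤ (S : Subgroup G) := fun g hg => (hS g).2 (Or.inl hg)
  have hSC : (S : Subgroup G) ≤ cen z := fun g hg => by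
    rcases (hS g).1 hg with h | h
    · exact N.hTC h
    · rw [← inv_mul_cancel_right g s]; exact mul_mem (N.hTC h) hsC
  set K := T ⊓ cen a
  set R := cen z ⊓ cen a
  have hKR : K ≤ R := fun k hk => ⟨N.hTC hk.1, hk.2⟩
  have hsR : s ∈ R := ⟨hsC, mem_cen.2 has.symm⟩
  have hsK : s ∉ K := fun h => hsT h.1
  have hRK : ∀ c ∈ R, c ∈ K ∨ c * s⁻¹ ∈ K := fun c hc => by
    rcases N.pair_mem_s hD hs htop ha.1 ha1 haz has hc.1 (mem_cen.1 hc.2) with h | h
    · exact Or.inl ⟨h, hc.2⟩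
    · exact Or.inr ⟨h, (cen a).mul_mem hc.2 ((cen a).inv_mem (mem_cen.2 has.symm))⟩
  have hcRK : Nat.card R = 2 * Nat.card K := by
    have hi : (K.subgroupOf R).index = 2 := by
      refine Subgroup.index_eq_two_iff.2 ⟨⟨s, hsR⟩⁻¹, fun b => ?_⟩
      rcases hRK b b.2 with hb | hb
      · refine Or.inr ⟨hb, fun h => hsK ?_⟩
        have h2 : (b : G) * s⁻¹ ∈ K := h
        have := mul_mem (inv_mem h2) hb
        rwa [mul_inv_rev, inv_inv, inv_mul_cancel_right] at this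
      · refine Or.inl ⟨hb, fun h => hsK ?_⟩
        have := mul_mem (inv_mem hb) (show (b : G) ∈ K from h)
        rwa [mul_inv_rev, inv_inv, inv_mul_cancel_right] at this
    rw [← Subgroup.card_mul_index (K.subgroupOf R), hi, mul_comm,
      Nat.card_congr (Subgroup.subgroupOfEquivOfLe hKR).toEquiv]
  have hcT : Nat.card T = 2 * Nat.card K := by
    rw [← Subgroup.card_mul_index (K.subgroupOf T), N.mid_index ha ht hta, mul_comm,
      Nat.card_congr (Subgroup.subgroupOfEquivOfLe (inf_le_left : K ≤ T)).toEquiv]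
  have hRS : R ≤ (S : Subgroup G) := fun c hc => (hS c).2 ((hRK c hc).imp (fun h => h.1) fun h => h.1)
  -- the Sylow subgroup at `a`
  obtain ⟨Q, hQ⟩ := ((S.2.to_le hRS).of_equiv
    (Subgroup.subgroupOfEquivOfLe (inf_le_right : R ≤ cen a)).symm).exists_le_sylow
  obtain ⟨g₀, hg₀⟩ := H.exists_conj (orderOf_two haa ha1)
  obtain ⟨g, hg⟩ : ∃ g : G, g * z * g⁻¹ = a := ⟨g₀⁻¹, by rw [← hg₀]; group⟩
  obtain ⟨Sa, hSa, hRSa⟩ : ∃ Sa : Sylow 2 G, (Sa : Subgroup G) ≤ cen a ∧ R ≤ (Sa : Subgroup G) := by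
    subst hg
    obtain ⟨Sa, hSa⟩ := (N.map g).base.sylow_cen Q
    refine ⟨Sa, hSa ▸ Subgroup.map_subtype_le _, fun c hc => hSa ▸ ⟨⟨c, hc.2⟩, hQ ?_, rfl⟩⟩
    exact (hc : c ∈ R)
  have hcSa : Nat.card (Sa : Subgroup G) = 2 * Nat.card T :=
    N.card_sylow_of_inverting hD hsC hs.2.1 Sa
  obtain ⟨h, hh⟩ := MulAction.exists_smul_eq G S Sa
  have hhmem : ∀ {x : G}, x ∈ (Sa : Subgroup G) ↔ h⁻¹ * x * h ∈ (S : Subgroup G) := fun {x} => by
    rw [← hh, Sylow.coe_subgroup_smul, Subgroup.mem_pointwise_smul_iff_inv_smul_mem]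
    simp [MulAut.smul_def]
  have haSa : a ∈ (Sa : Subgroup G) := hRSa ⟨N.hTC ha.1, self_cen a⟩
  have hcent : ∀ y ∈ (Sa : Subgroup G), (∀ r ∈ (Sa : Subgroup G), Commute y r) → y = 1 ∨ y = a := by
    have key : ∀ y ∈ (Sa : Subgroup G), (∀ r ∈ (Sa : Subgroup G), Commute y r) → y = 1 ∨ y = h * z * h⁻¹ := by
      intro y hy hc
      have h2 : ∀ r ∈ (S : Subgroup G), Commute (h⁻¹ * y * h) r := fun r hr => by
        have := commute_conj h⁻¹ (hc (h * r * h⁻¹) (hhmem.2 (by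
          rwa [show h⁻¹ * (h * r * h⁻¹) * h = r by group])))
        rwa [inv_inv, show h⁻¹ * (h * r * h⁻¹) * h = r by group] at this
      rcases N.sylow_center hD hs htop S hS hZ ha.1 ha1 haz has (hhmem.1 hy) h2 with e | e
      · refine Or.inl ?_
        rw [show y = h * (h⁻¹ * y * h) * h⁻¹ by group, e]; group
      · refine Or.inr ?_
        rw [show y = h * (h⁻¹ * y * h) * h⁻¹ by group, e]
    intro y hy hc
    have hha := (key a haSa fun r hr => (mem_cen.1 (hSa hr)).symm).resolve_left ha1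
    exact (key y hy hc).imp id fun e => e.trans hha.symm
  have hzR : z ∈ R := ⟨H.z_cen, mem_cen.2 hza⟩
  obtain ⟨hSaR, hSaR2⟩ := half_facts hRSa (by rw [hcSa, hcT, hcRK])
  obtain ⟨t₁, ht₁, ht₁R⟩ : ∃ t₁ ∈ (Sa : Subgroup G), t₁ ∉ R := by
    by_contra hh
    push Not at hh
    have h1 := Subgroup.card_le_of_le (show (Sa : Subgroup G) ≤ R from hh)
    have := Nat.card_pos (α := K)
    omega
  have ht₁a : t₁ * a * t₁⁻¹ = a := by rw [(mem_cen.1 (hSa ht₁)).eq, mul_inv_cancel_right]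
  have ht₁z : ¬ Commute t₁ z := fun e => ht₁R ⟨mem_cen.2 e, hSa ht₁⟩
  set x₁ := t₁ * z * t₁⁻¹ with hx₁
  have hx₁R : ∀ r ∈ R, Commute r x₁ := fun r hr => by
    have hm : t₁⁻¹ * r * t₁ ∈ R := by
      have := hSaR t₁⁻¹ (inv_mem ht₁) r hr
      rwa [inv_inv] at this
    have h2 := commute_conj t₁ (mem_cen.1 hm.1)
    rwa [show t₁ * (t₁⁻¹ * r * t₁) * t₁⁻¹ = r by group] at h2
  have hx₁z : x₁ = z * a := by
    have h2R : t₁ * t₁ ∈ R := hSaR2 t₁ ht₁ t₁ ht₁ ht₁R ht₁R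
    have h1 : Commute (z * x₁) t₁ := by
      refine (mul_inv_eq_iff_eq_mul.1 ?_).symm
      calc t₁ * (z * x₁) * t₁⁻¹ = x₁ * (t₁ * t₁ * z * (t₁ * t₁)⁻¹) := by rw [hx₁]; group
        _ = x₁ * z := by rw [(mem_cen.1 h2R.1).eq, mul_inv_cancel_right]
        _ = z * x₁ := (hx₁R z hzR).eq.symm
    have h2 : ∀ r ∈ R, Commute (z * x₁) r := fun r hr => ((mem_cen.1 hr.1).symm).mul_left (hx₁R r hr).symm
    have hall : ∀ r ∈ (Sa : Subgroup G), Commute (z * x₁) r := by
      intro r hr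
      by_cases hrR : r ∈ R
      · exact h2 r hrR
      · have hm : r * t₁⁻¹ ∈ R := hSaR2 r hr t₁⁻¹ (inv_mem ht₁) hrR (fun e => ht₁R (by simpa using inv_mem e))
        have := (h2 _ hm).mul_right h1
        rwa [inv_mul_cancel_right] at this
    have hmem : z * x₁ ∈ (Sa : Subgroup G) := mul_mem (hRSa hzR) (mul_mem (mul_mem ht₁ (hRSa hzR)) (inv_mem ht₁))
    have e0 : x₁ = z * (z * x₁) := by rw [← mul_assoc, mul_self_of_two H.hz, one_mul]
    rcases hcent _ hmem hall with e | e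
    · exfalso
      rw [e, mul_one] at e0
      exact ht₁z (mul_inv_eq_iff_eq_mul.1 e0)
    · rw [e] at e0; exact e0
  -- the element `d`
  set d := t * t₁ with hd
  have htz : t * z * t⁻¹ = z := by rw [(N.z_comm ht).eq, mul_inv_cancel_right]
  have hta' : t * a * t⁻¹ = a * z := N.mid_move ha ht hta
  have hzzaz : z * (a * z) = a := by rw [hza.symm.eq, ← mul_assoc, mul_self_of_two H.hz, one_mul]
  have hdz : d * z * d⁻¹ = a := by
    calc d * z * d⁻¹ = t * x₁ * t⁻¹ := by simp only [hd, hx₁]; group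
      _ = (t * z * t⁻¹) * (t * a * t⁻¹) := by rw [hx₁z]; group
      _ = a := by rw [htz, hta', hzzaz]
  have hda : d * a * d⁻¹ = a * z := by
    calc d * a * d⁻¹ = t * (t₁ * a * t₁⁻¹) * t⁻¹ := by simp only [hd]; group
      _ = a * z := by rw [ht₁a, hta']
  have hdaz : d * (a * z) * d⁻¹ = z := by
    rw [← conj_mul, hda, hdz, hza.symm.eq, mul_assoc, haa, mul_one]
  have hd'z : d⁻¹ * z * d = a * z := by
    calc d⁻¹ * z * d = d⁻¹ * (d * (a * z) * d⁻¹) * d := by rw [hdaz]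
      _ = a * z := by group
  have hd'a : d⁻¹ * a * d = z := by
    calc d⁻¹ * a * d = d⁻¹ * (d * z * d⁻¹) * d := by rw [hdz]
      _ = z := by group
  have hRd : ∀ c ∈ R, d * c * d⁻¹ ∈ R := fun c hc => by
    have h1 := mem_cen.1 hc.1
    have h2 := mem_cen.1 hc.2
    refine ⟨mem_cen.2 ?_, mem_cen.2 (hdz ▸ commute_conj d h1)⟩
    exact hdaz ▸ commute_conj d (h2.mul_right h1)
  have hRd' : ∀ c ∈ R, d⁻¹ * c * d ∈ R := fun c hc => by
    have h1 := mem_cen.1 hc.1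
    have h2 := mem_cen.1 hc.2
    have k1 := commute_conj d⁻¹ (h2 : Commute c a)
    have k2 := commute_conj d⁻¹ (h1 : Commute c z)
    rw [inv_inv] at k1 k2
    rw [hd'a] at k1
    rw [hd'z] at k2
    refine ⟨mem_cen.2 k1, mem_cen.2 ?_⟩
    have := k2.mul_right k1
    rwa [mul_assoc a z z, mul_self_of_two H.hz, mul_one] at this
  have ht'a : t⁻¹ * a * t = a * z := by
    have h : ¬ Commute t⁻¹ a := fun h => hta (by simpa using h.inv_left)
    have := N.mid_move ha (inv_mem ht) h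
    rwa [inv_inv] at this
  have ht'z : t⁻¹ * z * t = z := by
    rw [mul_assoc, ← (N.z_comm ht).eq, inv_mul_cancel_left]
  have hd3 : d * d * d ∈ R := by
    refine ⟨mem_cen.2 (mul_inv_eq_iff_eq_mul.1 ?_), mem_cen.2 (mul_inv_eq_iff_eq_mul.1 ?_)⟩
    · calc d * d * d * z * (d * d * d)⁻¹ = d * (d * (d * z * d⁻¹) * d⁻¹) * d⁻¹ := by group
        _ = z := by rw [hdz, hda, hdaz]
    · calc d * d * d * a * (d * d * d)⁻¹ = d * (d * (d * a * d⁻¹) * d⁻¹) * d⁻¹ := by group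
        _ = a := by rw [hda, hdaz, hdz]
  set r₀ := t * d * t⁻¹ * d with hr₀
  have hr₀R : r₀ ∈ R := by
    refine ⟨mem_cen.2 (mul_inv_eq_iff_eq_mul.1 ?_), mem_cen.2 (mul_inv_eq_iff_eq_mul.1 ?_)⟩
    · calc r₀ * z * r₀⁻¹ = t * (d * (t⁻¹ * (d * z * d⁻¹) * t) * d⁻¹) * t⁻¹ := by simp only [hr₀]; group
        _ = z := by rw [hdz, ht'a, hdaz, htz]
    · calc r₀ * a * r₀⁻¹ = t * (d * (t⁻¹ * (d * a * d⁻¹) * t) * d⁻¹) * t⁻¹ := by simp only [hr₀]; group
        _ = t * (d * ((t⁻¹ * a * t) * (t⁻¹ * z * t)) * d⁻¹) * t⁻¹ := by rw [hda]; group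
        _ = a := by
          rw [ht'a, ht'z, mul_assoc a z z, mul_self_of_two H.hz, mul_one, hda, ← conj_mul, hta', htz, mul_assoc,
            mul_self_of_two H.hz, mul_one]
  -- the conjugates of `K`
  set K₁ := K.map (MulAut.conj d).toMonoidHom
  set K₂ := K.map (MulAut.conj d⁻¹).toMonoidHom
  have hm1 : ∀ {c : G}, c ∈ K₁ ↔ d⁻¹ * c * d ∈ K := fun {c} => mem_map_conj
  have hm2 : ∀ {c : G}, c ∈ K₂ ↔ d * c * d⁻¹ ∈ K := fun {c} => by
    rw [mem_map_conj, inv_inv]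
  have hK1R : K₁ ≤ R := fun c hc => by
    have := hRd _ (hKR (hm1.1 hc))
    rwa [show d * (d⁻¹ * c * d) * d⁻¹ = c by group] at this
  have hK2R : K₂ ≤ R := fun c hc => by
    have := hRd' _ (hKR (hm2.1 hc))
    rwa [show d⁻¹ * (d * c * d⁻¹) * d = c by group] at this
  obtain ⟨hKn, hKp⟩ := half_facts hKR hcRK
  obtain ⟨hK1n, hK1p⟩ := half_facts hK1R (by rw [Subgroup.card_map_of_injective (MulAut.conj d).injective, hcRK])
  obtain ⟨hK2n, hK2p⟩ := half_facts hK2R (by rw [Subgroup.card_map_of_injective (MulAut.conj d⁻¹).injective, hcRK])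
  have hswap : ∀ c ∈ K₁, t * c * t⁻¹ ∈ K₂ := fun c hc => by
    have hk := hm1.1 hc
    set k := d⁻¹ * c * d
    have ht2 : t * k * t⁻¹ ∈ K := by
      refine ⟨T.mul_mem (T.mul_mem ht hk.1) (T.inv_mem ht), mem_cen.2 ?_⟩
      have h2 := commute_conj t ((mem_cen.1 hk.2).mul_right (N.z_comm hk.1))
      rwa [show t * (a * z) * t⁻¹ = a by
        rw [← conj_mul, hta', htz, mul_assoc, mul_self_of_two H.hz, mul_one]] at h2
    have h3 : d⁻¹ * (t * k * t⁻¹) * d⁻¹⁻¹ ∈ K₂ := ⟨_, ht2, rfl⟩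
    have := hK2n r₀ hr₀R _ h3
    rwa [show r₀ * (d⁻¹ * (t * k * t⁻¹) * d⁻¹⁻¹) * r₀⁻¹ = t * c * t⁻¹ by simp only [hr₀, k]; group] at this
  have hswap' : ∀ c ∈ K₂, t⁻¹ * c * t ∈ K₁ := by
    have he : K₁.map (MulAut.conj t).toMonoidHom = K₂ := Subgroup.eq_of_le_of_card_ge
      (by rintro _ ⟨v, hv, rfl⟩; exact hswap v hv)
      (by
        show Nat.card (K.map (MulAut.conj d⁻¹).toMonoidHom) ≤ Nat.card (K₁.map (MulAut.conj t).toMonoidHom)
        rw [Subgroup.card_map_of_injective (f := (MulAut.conj t).toMonoidHom) (MulAut.conj t).injective,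
          Subgroup.card_map_of_injective (f := (MulAut.conj d⁻¹).toMonoidHom) (MulAut.conj d⁻¹).injective,
          Subgroup.card_map_of_injective (f := (MulAut.conj d).toMonoidHom) (MulAut.conj d).injective])
    intro c hc
    rw [← he] at hc
    exact mem_map_conj.1 hc
  -- step one
  have hAK : ∀ c ∈ A, c ∈ K := fun c hc => ⟨N.derived_le hc, mem_cen.2 (N.mid_comm ha hc).symm⟩
  have hazA : a * z ∈ A := mul_mem haA hzA
  have hA2 : ∀ c ∈ A, d⁻¹ * c * d ∈ K := by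
    by_contra hcon
    push Not at hcon
    obtain ⟨c, hc, hcK⟩ := hcon
    set q := d⁻¹ * c * d
    have hqR : q ∈ R := hRd' c (hKR (hAK c hc))
    obtain ⟨e₀, he₀, he₀K⟩ : ∃ e ∈ A, e ∉ K₂ := by
      by_contra hh
      push Not at hh
      refine hcK (hm1.1 ?_)
      have h3 := hswap' _ (hh _ (hAn t (N.hTC ht) c hc))
      rwa [show t⁻¹ * (t * c * t⁻¹) * t = c by group] at h3
    haveI := (Fact.mk Nat.prime_two)
    set Φ := (frattini T).map T.subtype with hΦ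
    have hAΦ : ∀ u ∈ A, u ∈ Φ := fun u hu => by
      refine (Subgroup.commutator_le.2 fun p hp q hq => ?_) hu
      exact ⟨⁅(⟨p, hp⟩ : T), ⟨q, hq⟩⁆, CfsgLib.commutator_le_frattini_pGroup N.hT
        (Subgroup.commutator_mem_commutator (Subgroup.mem_top _) (Subgroup.mem_top _)), rfl⟩
    have hqk : ∀ k ∈ K, k ∈ K₂ → ⁅q, k⁆ ∈ A := fun k _ hk => by
      have h1 := (N.derived_mid hc).2 (d * k * d⁻¹) (hm2.1 hk).1
      have e : d⁻¹ * ⁅c, d * k * d⁻¹⁆ * d = ⁅q, k⁆ := by simp only [q, commutatorElement_def]; group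
      rw [← e]
      rcases h1 with h1 | h1 <;> rw [h1]
      · rw [show d⁻¹ * (1 : G) * d = 1 by group]; exact one_mem _
      · rw [hd'z]; exact hazA
    have hqe : ∀ e ∈ A, ⁅q, e⁆ ∈ A := fun e he => mul_mem (hAn q hqR.1 e he) (inv_mem he)
    have hqK : ∀ k ∈ K, ⁅q, k⁆ ∈ A := fun k hk => by
      by_cases hk2 : k ∈ K₂
      · exact hqk k hk hk2
      have hm : k * e₀ ∈ K₂ := hK2p k (hKR hk) e₀ (hKR (hAK e₀ he₀)) hk2 he₀K
      have h1 := hqk _ (mul_mem hk (hAK e₀ he₀)) hm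
      rw [show ⁅q, k⁆ = ⁅q, k * e₀⁆ * (k * ⁅q, e₀⁆ * k⁻¹)⁻¹ by simp only [commutatorElement_def]; group]
      exact mul_mem h1 (inv_mem (hAn k (N.hTC hk.1) _ (hqe e₀ he₀)))
    have hqT : q ∉ T := fun e => hcK ⟨e, hqR.2⟩
    have hqs : q * s⁻¹ ∈ T := ((hRK q hqR).resolve_left fun e => hqT e.1).1
    have hsK' : ∀ k ∈ K, s * k * s⁻¹ * k⁻¹ ∈ A := fun k hk => by
      set u := q * s⁻¹
      have hks : s * k * s⁻¹ ∈ T := N.normT s hsC k hk.1
      rw [show s * k * s⁻¹ * k⁻¹ = ⁅u⁻¹, u * (s * k * s⁻¹) * u⁻¹⁆ * ⁅q, k⁆ by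
        simp only [u, commutatorElement_def]; group]
      exact mul_mem (Subgroup.commutator_mem_commutator (inv_mem hqs) (mul_mem (mul_mem hqs hks) (inv_mem hqs)))
        (hqK k hk)
    set b := w * a * w⁻¹
    have hKw : ∀ v ∈ T, Commute v b → w⁻¹ * v * w ∈ K := fun v hv hvb => by
      have h1 := N.normT w⁻¹ (inv_mem H.w_cen) v hv
      rw [inv_inv] at h1
      refine ⟨h1, mem_cen.2 ?_⟩
      have h2 := commute_conj w⁻¹ hvb
      rwa [inv_inv, show w⁻¹ * b * w = a by simp only [b]; group] at h2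
    obtain ⟨t', ht', ht'b⟩ : ∃ t' ∈ T, ¬ Commute t' b := ⟨w * t * w⁻¹, N.wT t ht, fun hh => hta (by
      have h2 := commute_conj w⁻¹ hh
      rwa [inv_inv, show w⁻¹ * b * w = a by simp only [b]; group,
        show w⁻¹ * (w * t * w⁻¹) * w = t by group] at h2)⟩
    have hbound : (frattini T).index ≤ 4 := by
      refine le_trans (Nat.le_of_dvd (Nat.pos_of_ne_zero Subgroup.FiniteIndex.index_ne_zero)
        (Subgroup.index_dvd_of_le (H := K.subgroupOf T ⊓ (T ⊓ cen b).subgroupOf T) ?_)) ?_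
      swap
      · refine Subgroup.index_inf_le.trans ?_
        rw [N.mid_index ha ht hta, N.mid_index (N.mid_w ha) ht' ht'b]
      rintro ⟨v, hv⟩ ⟨hvK, hvb⟩
      have hvK' : v ∈ K := hvK
      have hk' := hKw v hv (mem_cen.1 (show v ∈ T ⊓ cen b from hvb).2)
      set k' := w⁻¹ * v * w with hk'def
      have h1 := hsK' v hvK'
      have h2 := hAn w⁻¹ (inv_mem H.w_cen) _ (hsK' k' hk')
      rw [inv_inv] at h2
      have hsw : s * w = w⁻¹ * s := mul_inv_eq_iff_eq_mul.1 hs.2.1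
      have hsv : s * v * s⁻¹ = w⁻¹ * (s * k' * s⁻¹) * w := by
        calc s * v * s⁻¹ = (s * w) * k' * (s * w)⁻¹ := by rw [hk'def]; group
          _ = _ := by rw [hsw]; group
      have hw2 : w⁻¹ * w⁻¹ = w := by rw [← mul_inv_rev, inv_eq_iff_mul_eq_one, N.w_three]
      have h3 : v⁻¹ * (w * v * w⁻¹) ∈ A := by
        have e : w⁻¹ * k' * w = w * v * w⁻¹ := by
          calc w⁻¹ * k' * w = (w⁻¹ * w⁻¹) * v * (w⁻¹ * w⁻¹)⁻¹ := by
                simp only [hk'def, mul_assoc, mul_inv_rev, inv_inv]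
            _ = _ := by rw [hw2]
        have h4 : w⁻¹ * (s * k' * s⁻¹ * k'⁻¹) * w = (s * v * s⁻¹) * (w * v * w⁻¹)⁻¹ := by
          rw [hsv, ← e]; group
        rw [h4] at h2
        have h5 := mul_mem (inv_mem h2) h1
        rw [show ((s * v * s⁻¹) * (w * v * w⁻¹)⁻¹)⁻¹ * (s * v * s⁻¹ * v⁻¹) = w * v * w⁻¹ * v⁻¹ by group] at h5
        have h6 := hAn v⁻¹ (inv_mem (N.hTC hv)) _ h5
        rwa [show v⁻¹ * (w * v * w⁻¹ * v⁻¹) * v⁻¹⁻¹ = v⁻¹ * (w * v * w⁻¹) by group] at h6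
      -- a fixed coset of the Frattini subgroup
      set σ : MulAut T := Subgroup.normalizerMonoidHom T ⟨w, N.w_norm⟩
      have hσ : ∀ x : T, ((σ x : T) : G) = w * x * w⁻¹ := fun x => rfl
      have hσ3 : ∀ x, σ (σ (σ x)) = x := fun x => Subtype.ext (by
        rw [hσ, hσ, hσ, show w * (w * (w * (x : G) * w⁻¹) * w⁻¹) * w⁻¹ = w * w * w * (x : G) * (w * w * w)⁻¹ by group,
          N.w_three]
        group)
      have h3F : ¬ 3 ∣ Nat.card (frattini T) := by
        intro h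
        obtain ⟨m, hm⟩ := IsPGroup.exists_card_eq (N.hT.to_subgroup (frattini T))
        rw [hm] at h
        exact absurd (Nat.prime_three.dvd_of_dvd_pow h) (by norm_num)
      obtain ⟨f, hf, hfe⟩ : (⟨v⁻¹ * (w * v * w⁻¹), mul_mem (inv_mem hv) (N.wT v hv)⟩ : T) ∈ frattini T ∧ True ∧ True :=
        ⟨by
          obtain ⟨u, hu, e⟩ := hAΦ _ h3
          exact (Subtype.ext e : u = (⟨v⁻¹ * (w * v * w⁻¹), mul_mem (inv_mem hv) (N.wT v hv)⟩ : T)) ▸ hu, trivial, trivial⟩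
      obtain ⟨n, hn, hne⟩ := CfsgLib.FpfSymThree.exists_fixed_coset σ hσ3 (fun x hx => by
        have h := Subgroup.characteristic_iff_map_eq.1 (inferInstance : (frattini T).Characteristic) σ
        rw [← h]; exact ⟨x, hx, rfl⟩) h3F (x := ⟨v, hv⟩) f
      have h7 := N.T_zero ((⟨v, hv⟩ : T) * n).2 (by
        refine (mul_inv_eq_iff_eq_mul.1 ?_).symm
        rw [← hσ, hne])
      have hm : (⟨v, hv⟩ : T) * n ∈ frattini T := by
        rcases h7 with e | e
        · rw [show (⟨v, hv⟩ : T) * n = 1 from Subtype.ext e]; exact one_mem _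
        · obtain ⟨u, hu, e'⟩ := hAΦ z hzA
          rw [show (⟨v, hv⟩ : T) * n = u from Subtype.ext (e.trans e'.symm)]; exact hu
      exact (Subgroup.mul_mem_cancel_right _ hn).1 hm
    have := N.frattini_index hnc hZ
    omega
  have hA1K : ∀ c ∈ A, c ∈ K₁ := fun c hc => hm1.2 (hA2 c hc)
  have hA2K : ∀ c ∈ A, c ∈ K₂ := fun c hc => by
    have h1 := hswap _ (hA1K _ (hAn t⁻¹ (inv_mem (N.hTC ht)) c hc))
    rwa [show t * (t⁻¹ * c * t⁻¹⁻¹) * t⁻¹ = c by group] at h1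
  -- step two
  set L := K ⊓ K₁ with hLdef
  have hAL : A ≤ L := fun c hc => ⟨hAK c hc, hA1K c hc⟩
  have hLT : L ≤ T := fun c hc => hc.1.1
  have hLn : ∀ v ∈ T, ∀ c ∈ L, v * c * v⁻¹ ∈ L := fun v hv c hc => by
    rw [show v * c * v⁻¹ = ⁅v, c⁆ * c by simp only [commutatorElement_def]; group]
    exact mul_mem (hAL (Subgroup.commutator_mem_commutator hv (hLT hc))) hc
  have hL2 : ∀ c ∈ L, c ∈ K₂ := fun c hc => by
    have h1 := hLn t⁻¹ (inv_mem ht) c hc
    have h2 := hswap _ h1.2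
    rwa [show t * (t⁻¹ * c * t⁻¹⁻¹) * t⁻¹ = c by group] at h2
  have hLd : ∀ c ∈ L, d * c * d⁻¹ ∈ L := fun c hc => ⟨hm2.1 (hL2 c hc), hm1.2 (by
    rw [show d⁻¹ * (d * c * d⁻¹) * d = c by group]; exact hc.1)⟩
  have hLd' : ∀ c ∈ L, d⁻¹ * c * d ∈ L := by
    intro c hc
    have he : L.map (MulAut.conj d).toMonoidHom = L := Subgroup.eq_of_le_of_card_ge
      (by rintro _ ⟨v, hv, rfl⟩; exact hLd v hv)
      (le_of_eq (Subgroup.card_map_of_injective (MulAut.conj d).injective).symm)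
    rw [← he] at hc
    exact mem_map_conj.1 hc
  -- step three
  set b := w * a * w⁻¹ with hb
  have hbA : b ∈ A := N.derived_w haA
  have hbm : Mid z T b := N.derived_mid hbA
  have hbb : b * b = 1 := by rw [hb, conj_mul, haa, mul_one, mul_inv_cancel]
  have hb1 : b ≠ 1 := fun e => ha1 (conj_eq_one_iff.1 e)
  have hbz : b ≠ z := fun e => haz (by
    rw [show a = w⁻¹ * b * w by rw [hb]; group, e, H.hzw.symm.inv_left.eq, inv_mul_cancel_right])
  obtain ⟨ζ, hζ, hc⟩ := N.third ha.1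
  set c := w * b * w⁻¹ with hcdef
  have hcab : c = (a * b)⁻¹ * ζ := hc
  have hζc : ∀ v ∈ T, Commute v ζ := fun v hv => by
    rcases hζ with rfl | rfl
    · exact Commute.one_right v
    · exact N.z_comm hv
  have hwc : w * c * w⁻¹ = a := by
    rw [hcdef, hb, show w * (w * (w * a * w⁻¹) * w⁻¹) * w⁻¹ = (w * w * w) * a * (w * w * w)⁻¹ by group, N.w_three]
    group
  have hwK : ∀ v ∈ T, Commute v a → Commute v b → w * v * w⁻¹ ∈ K := fun v hv h1 h2 => by
    have h3 : Commute v c := by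
      rw [hcab]; exact ((h1.mul_right h2).inv_right).mul_right (hζc v hv)
    exact ⟨N.wT v hv, mem_cen.2 (hwc ▸ commute_conj w h3)⟩
  by_cases hcase : ∀ l ∈ L, Commute l b
  · -- the local subgroup
    set I := K ⊓ cen b
    have hLI : L ≤ I := fun l hl => ⟨hl.1, mem_cen.2 (hcase l hl)⟩
    obtain ⟨k₀, hk₀, hk₀b⟩ : ∃ k ∈ K, ¬ Commute k b := by
      by_contra hh
      push Not at hh
      have hab : ∀ v ∈ T, Commute (a * b) v := fun v hv => by
        by_cases hva : Commute v a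
        · exact (hva.mul_right (hh v ⟨hv, mem_cen.2 hva⟩)).symm
        have hvb : ¬ Commute v b := fun hvb => by
          obtain ⟨t', ht', ht'b⟩ : ∃ t' ∈ T, ¬ Commute t' b := ⟨w * t * w⁻¹, N.wT t ht, fun h4 => hta (by
            have h2 := commute_conj w⁻¹ h4
            rwa [inv_inv, show w⁻¹ * b * w = a by rw [hb]; group,
              show w⁻¹ * (w * t * w⁻¹) * w = t by group] at h2)⟩
          have hle : K ≤ T ⊓ cen b := fun k hk => ⟨hk.1, mem_cen.2 (hh k hk)⟩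
          have he : K = T ⊓ cen b := Subgroup.eq_of_le_of_card_ge hle (by
            have h1 := Subgroup.card_mul_index ((T ⊓ cen b).subgroupOf T)
            rw [N.mid_index hbm ht' ht'b,
              Nat.card_congr (Subgroup.subgroupOfEquivOfLe (inf_le_left : T ⊓ cen b ≤ T)).toEquiv] at h1
            omega)
          exact hva (mem_cen.1 (show v ∈ K by rw [he]; exact ⟨hv, mem_cen.2 hvb⟩).2)
        refine (mul_inv_eq_iff_eq_mul.1 ?_ : Commute v (a * b)).symm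
        rw [← conj_mul, N.mid_move ha hv hva, N.mid_move hbm hv hvb, mul_assoc a, ← mul_assoc z,
          ← (N.z_comm hbm.1).eq, mul_assoc b, mul_self_of_two H.hz, mul_one]
      have he : b = a * (a * b) := by rw [← mul_assoc, haa, one_mul]
      exact (N.w_fix ha.1 ((hZ _ (mul_mem ha.1 hbm.1) hab).imp
        (fun e => by show b = a; rw [he, e, mul_one]) fun e => by show b = a * z; rw [he, e])).elim ha1 haz
    have hk₀L : k₀ ∉ L := fun hh => hk₀b (hcase k₀ hh)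
    have hIL : ∀ v ∈ I, v ∈ L := fun v hv => by
      by_contra hvL
      have h1 : v ∉ K₁ := fun hh => hvL ⟨hv.1, hh⟩
      have h2 : k₀ ∉ K₁ := fun hh => hk₀L ⟨hk₀, hh⟩
      have h3 : v * k₀ ∈ L := ⟨mul_mem hv.1 hk₀, hK1p v (hKR hv.1) k₀ (hKR hk₀) h1 h2⟩
      have := (mem_cen.1 hv.2).inv_left.mul_left (hcase _ h3)
      rw [inv_mul_cancel_left] at this
      exact hk₀b this
    have hLw : ∀ l ∈ L, w * l * w⁻¹ ∈ L := fun l hl => hIL _ ⟨hwK l (hLT hl) (mem_cen.1 hl.1.2) (hcase l hl),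
      mem_cen.2 (commute_conj w (mem_cen.1 hl.1.2))⟩
    have hLs : ∀ l ∈ L, s * l * s⁻¹ ∈ L := fun l hl =>
      ⟨hKn s hsR l hl.1, hK1n s hsR l hl.2⟩
    set M := cen z ⊔ Subgroup.zpowers d
    have hCL : ∀ g ∈ cen z, ∀ l ∈ L, g * l * g⁻¹ ∈ L := by
      intro g hg
      have hwn : w ∈ Subgroup.normalizer (L : Set G) := Subgroup.mem_normalizer_fintype fun n hn => hLw n hn
      have hsn : s ∈ Subgroup.normalizer (L : Set G) := Subgroup.mem_normalizer_fintype fun n hn => hLs n hn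
      obtain ⟨v, hv, e₁, he₁, i, e⟩ := htop g hg
      rw [hD, Subgroup.mem_bot] at he₁
      rw [he₁, mul_one] at e
      have hvn : v ∈ Subgroup.normalizer (L : Set G) := Subgroup.mem_normalizer_fintype fun n hn => hLn v hv n hn
      have hgn : g ∈ Subgroup.normalizer (L : Set G) := by
        rcases e with e | e <;> rw [e]
        · exact mul_mem hvn (pow_mem hwn i)
        · exact mul_mem (mul_mem hvn (pow_mem hwn i)) hsn
      exact fun l hl => (Subgroup.mem_normalizer_iff.1 hgn l).1 hl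
    have hMn : M ≤ Subgroup.normalizer (L : Set G) :=
      sup_le (fun g hg => Subgroup.mem_normalizer_fintype fun n hn => hCL g hg n hn)
        (Subgroup.zpowers_le.2 (Subgroup.mem_normalizer_fintype fun n hn => hLd n hn))
    have hdM : d ∈ M := Subgroup.mem_sup_right (Subgroup.mem_zpowers d)
    refine (N.loc hG hD M L le_sup_left (fun hh => haz ?_) (N.hT.to_le hLT) (hAL hzA)
      ((hLT.trans N.hTC).trans le_sup_left)
      (fun g hg r hr => (Subgroup.mem_normalizer_iff.1 (hMn hg) r).1 hr)).resolve_right fun h32 => ?_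
    · have := mem_cen.1 (hh hdM)
      rw [this.eq, mul_inv_cancel_right] at hdz
      exact hdz.symm
    · have hAT : A ≤ T := N.derived_le
      have h5 : 4 < Nat.card A := by
        have hz1 : z ≠ 1 := ne_one_of_two H.hz
        have haz1 : a * z ≠ 1 := fun e => haz ((eq_inv_of_mul_eq_one_left e).trans (inv_of_two H.hz))
        have hazz : a * z ≠ z := fun e => ha1 (mul_eq_right.1 e)
        have haza : a * z ≠ a := fun e => hz1 (mul_eq_left.1 e)
        have hba' : b ≠ a := fun e => (N.w_fix ha.1 (Or.inl e)).elim ha1 haz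
        have hbaz : b ≠ a * z := fun e => (N.w_fix ha.1 (Or.inr e)).elim ha1 haz
        have hsub : ({1, z, a, a * z, b} : Set G) ⊆ (A : Set G) := by
          rintro v (rfl | rfl | rfl | rfl | rfl)
          exacts [one_mem _, hzA, haA, hazA, hbA]
        refine lt_of_lt_of_le (by norm_num : 4 < 5) (le_trans ?_ (Set.ncard_le_ncard hsub (Set.toFinite _)))
        rw [Set.ncard_insert_of_notMem (by simp [hz1.symm, ha1.symm, haz1.symm, hb1.symm]),
          Set.ncard_insert_of_notMem (by simp [haz.symm, hazz.symm, hbz.symm]),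
          Set.ncard_insert_of_notMem (by simp [haza.symm, hba'.symm]),
          Set.ncard_insert_of_notMem (by simp [hbaz.symm]), Set.ncard_singleton]
      have hle : A.subgroupOf T ≤ frattini T := fun u hu => by
        have key : A ≤ (frattini T).map T.subtype := Subgroup.commutator_le.2 fun p hp q hq =>
          ⟨⁅(⟨p, hp⟩ : T), ⟨q, hq⟩⁆, CfsgLib.commutator_le_frattini_pGroup N.hT
            (Subgroup.commutator_mem_commutator (Subgroup.mem_top _) (Subgroup.mem_top _)), rfl⟩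
        obtain ⟨v, hv, e⟩ := key hu
        exact (Subtype.ext e : v = u) ▸ hv
      have h6 := N.frattini_index hnc hZ
      have h7 := Nat.le_of_dvd (Nat.pos_of_ne_zero Subgroup.FiniteIndex.index_ne_zero) (Subgroup.index_dvd_of_le hle)
      have h8 := Subgroup.card_mul_index (A.subgroupOf T)
      rw [Nat.card_congr (Subgroup.subgroupOfEquivOfLe hAT).toEquiv, h32.1] at h8
      obtain ⟨j, hj⟩ := IsPGroup.exists_card_eq (N.hT.to_le hAT)
      rw [hj] at h5 h8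
      have h3 : 3 ≤ j := by
        by_contra hh
        have := Nat.pow_le_pow_right (show 0 < 2 by norm_num) (show j ≤ 2 by omega)
        omega
      have h9 := Nat.pow_le_pow_right (show 0 < 2 by norm_num) h3
      have : (A.subgroupOf T).index ≤ 4 := by
        by_contra hh
        push Not at hh
        have := Nat.mul_le_mul h9 hh
        omega
      omega
  exfalso
  push Not at hcase
  obtain ⟨l₀, hl₀, hl₀b⟩ := hcase
  set x := d⁻¹ * b * d with hx
  have hxL : x ∈ L := hLd' b (hAL hbA)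
  have hxx : x * x = 1 := by
    rw [hx, show d⁻¹ * b * d * (d⁻¹ * b * d) = d⁻¹ * (b * b) * d by group, hbb]; group
  have hdxd : d * x * d⁻¹ = b := by rw [hx]; group
  set l := d⁻¹ * l₀ * d with hl
  have hlL : l ∈ L := hLd' l₀ hl₀
  have hdld : d * l * d⁻¹ = l₀ := by rw [hl]; group
  have hzne : a * z ≠ 1 := fun e => haz ((eq_inv_of_mul_eq_one_left e).trans (inv_of_two H.hz))
  have hcomx : ∀ v ∈ L, ⁅v, x⁆ = 1 ∨ ⁅v, x⁆ = a * z := fun v hv => by
    have h1 := hbm.2 (d * v * d⁻¹) (hLT (hLd v hv))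
    have e : ⁅v, x⁆ = d⁻¹ * ⁅b, d * v * d⁻¹⁆⁻¹ * d := by
      rw [hx]; simp only [commutatorElement_def]; group
    rw [e]
    rcases h1 with h1 | h1 <;> rw [h1]
    · left; group
    · right; rw [inv_of_two H.hz, hd'z]
  have hlx : ⁅l, x⁆ = a * z := (hcomx l hlL).resolve_left fun e => hl₀b (by
    have := commute_conj d (commutatorElement_eq_one_iff_commute.1 e)
    rwa [hdld, hdxd] at this)
  have hbx : Commute x b := by
    rcases hbm.2 x (hLT hxL) with e | e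
    · exact (commutatorElement_eq_one_iff_commute.1 e).symm
    rcases hcomx b (hAL hbA) with e' | e'
    · exact (commutatorElement_eq_one_iff_commute.1 e').symm
    · exact absurd (mul_eq_right.1 (e'.symm.trans e)) ha1
  set i := w * x * w⁻¹
  have hiK : i ∈ K := hwK x (hLT hxL) (mem_cen.1 hxL.1.2) hbx
  have hix : Commute x i := N.invol_comm (hLT hxL) hxx
  by_cases hiL : i ∈ L
  · have hA' : ⁅l, i⁆ ∈ A := Subgroup.commutator_mem_commutator (hLT hlL) (hLT hiL)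
    have hA'' : d⁻¹ * ⁅l, i⁆ * d ∈ A := by
      rw [show d⁻¹ * ⁅l, i⁆ * d = ⁅d⁻¹ * l * d, d⁻¹ * i * d⁆ by simp only [commutatorElement_def]; group]
      exact Subgroup.commutator_mem_commutator (hLT (hLd' l hlL)) (hLT (hLd' i hiL))
    have hcv : w * w * ⁅l, x⁆ * (w * w)⁻¹ = c * z := by
      rw [hlx]
      calc w * w * (a * z) * (w * w)⁻¹ = w * ((w * a * w⁻¹) * (w * z * w⁻¹)) * w⁻¹ := by group
        _ = w * (b * z) * w⁻¹ := by rw [H.hzw.symm.eq, mul_inv_cancel_right, ← hb]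
        _ = (w * b * w⁻¹) * (w * z * w⁻¹) := by group
        _ = c * z := by rw [H.hzw.symm.eq, mul_inv_cancel_right, ← hcdef]
    obtain ⟨η, hη, hlie⟩ : ∃ η, (η = 1 ∨ η = z) ∧ ⁅l, i⁆ = c * η := by
      rcases N.shift (hLT hlL) (hLT hxL) with e | e <;> rw [hcv] at e
      · exact ⟨z, Or.inr rfl, e⟩
      · exact ⟨1, Or.inl rfl, by rw [e, mul_assoc, mul_self_of_two H.hz]⟩
    -- `b` lies in the image of `A` under `d`
    have hpair : ∀ ε, (ε = 1 ∨ ε = z) → d⁻¹ * ε * d ∈ A := by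
      rintro ε (rfl | rfl)
      · rw [show d⁻¹ * (1 : G) * d = 1 by group]; exact one_mem _
      · rw [hd'z]; exact hazA
    have hyA : d⁻¹ * b * d ∈ A := by
      have e : b = a⁻¹ * (ζ * η) * (c * η)⁻¹ := by
        have h1 : Commute (c * η) ζ := hζc _ (mul_mem (hcab ▸ mul_mem (inv_mem (mul_mem ha.1 hbm.1))
          (by rcases hζ with rfl | rfl; exacts [one_mem _, N.zT])) (by rcases hη with rfl | rfl; exacts [one_mem _, N.zT]))
        have h2 : c * η = (a * b)⁻¹ * (ζ * η) := by rw [hcab, mul_assoc]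
        rw [h2, mul_inv_rev, inv_inv, mul_assoc a⁻¹, ← mul_assoc (ζ * η), mul_inv_cancel, one_mul,
          inv_mul_cancel_left]
      rw [e, show d⁻¹ * (a⁻¹ * (ζ * η) * (c * η)⁻¹) * d =
        (d⁻¹ * a * d)⁻¹ * (d⁻¹ * (ζ * η) * d) * (d⁻¹ * (c * η) * d)⁻¹ by group, hd'a, ← hlie]
      exact mul_mem (mul_mem (inv_mem hzA) (hpair _ (N.pair_mul hζ hη))) (inv_mem hA'')
    refine hl₀b ?_
    have h1 := (N.derived_mid hyA).2 (d⁻¹ * l₀ * d) (hLT hlL)
    have h2 := hbm.2 l₀ (hLT hl₀)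
    have e : ⁅b, l₀⁆ = d * ⁅d⁻¹ * b * d, d⁻¹ * l₀ * d⁆ * d⁻¹ := by simp only [commutatorElement_def]; group
    refine (commutatorElement_eq_one_iff_commute.1 (h2.resolve_right fun hz2 => ?_)).symm
    rcases h1 with h1 | h1 <;> rw [h1, hz2] at e
    · exact ne_one_of_two H.hz (e.trans (by group))
    · rw [hdz] at e; exact haz e.symm
  · have hiK2 : i ∉ K₂ := fun hh => by
      refine hiL ⟨hiK, ?_⟩
      have h4 : ⁅t⁻¹, i⁆ ∈ K₁ := hA1K _ (Subgroup.commutator_mem_commutator (inv_mem ht) hiK.1)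
      have h5 := K₁.mul_mem (K₁.inv_mem h4) (hswap' i hh)
      rwa [show ⁅t⁻¹, i⁆⁻¹ * (t⁻¹ * i * t) = i by simp only [commutatorElement_def]; group] at h5
    set r := d * i * d⁻¹
    have hrK : r ∉ K := fun hh => hiK2 (hm2.2 hh)
    have hrR : r ∈ R := hRd i (hKR hiK)
    have hrb : r * b * r⁻¹ = b := by
      have h1 : Commute r b := by
        have := commute_conj d hix.symm
        rwa [hdxd] at this
      rw [h1.eq, mul_inv_cancel_right]
    have hu : r * s⁻¹ ∈ T := ((hRK r hrR).resolve_left hrK).1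
    set u := r * s⁻¹
    have hw2 : w⁻¹ * w⁻¹ = w := by rw [← mul_inv_rev, inv_eq_iff_mul_eq_one, N.w_three]
    have hsw : s * w = w⁻¹ * s := mul_inv_eq_iff_eq_mul.1 hs.2.1
    have hsb : s * b * s⁻¹ = c := by
      calc s * b * s⁻¹ = (s * w) * a * (s * w)⁻¹ := by rw [hb]; group
        _ = w⁻¹ * (s * a * s⁻¹) * w := by rw [hsw]; group
        _ = w⁻¹ * a * w := by rw [← has.eq, mul_inv_cancel_right]
        _ = c := by
          rw [hcdef, hb]
          calc w⁻¹ * a * w = (w⁻¹ * (w * w * w)) * a * (w⁻¹ * (w * w * w))⁻¹ := by rw [N.w_three]; group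
            _ = _ := by group
    have hcT : c ∈ T := N.wT b hbm.1
    have hub : u * c * u⁻¹ = b := by
      rw [← hsb]
      calc u * (s * b * s⁻¹) * u⁻¹ = r * b * r⁻¹ := by simp only [u]; group
        _ = b := hrb
    have hcm : Mid z T c := N.mid_w hbm
    have hfix : c = b ∨ c = b * z := by
      rcases hcm.2 u hu with e | e
      · left
        rw [← hub, (commutatorElement_eq_one_iff_commute.1 e).symm.eq, mul_inv_cancel_right]
      · right
        have h1 : u * c * u⁻¹ = c * z := N.mid_move hcm hu fun hh => ne_one_of_two H.hz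
          (e.symm.trans (commutatorElement_eq_one_iff_commute.2 hh.symm))
        rw [← hub, h1, mul_assoc, mul_self_of_two H.hz, mul_one]
    exact (N.w_fix hbm.1 hfix).elim hb1 hbz

end Nil

end CfsgLib.SelfSix
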