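import Cfsg.Agent.Lib.CTwoAbelian.Sporadic
import Cfsg.Agent.Lib.Golay.ElemClasses

/-!
`A₈`, `A₉` and `M₁₂` have two classes of involutions.
-/

set_option autoImplicit false
set_option maxRecDepth 100000
set_option linter.unusedSectionVars false

namespace CfsgLib.SelfSix

open Cfsg CfsgGolay

universe u

/-- All involutions are conjugate. -/
def OneClass (G : Type u) [Group G] : Prop := ∀ x y : G, orderOf x = 2 → orderOf y = 2 → IsConj x y

theorem OneClass.of_equiv {G : Type u} [Group G] {K : Type*} [Group K] (h : OneClass G) (e : G ≃* K) : OneClass K :=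
  fun x y hx hy => by
    have := e.toMonoidHom.map_isConj (h (e.symm x) (e.symm y) (by rw [MulEquiv.orderOf_eq, hx])
      (by rw [MulEquiv.orderOf_eq, hy]))
    simpa using this

theorem alt_two_classes (n : ℕ) (hn : 8 ≤ n) : ¬ OneClass (alternatingGroup (Fin n)) := by
  intro h
  let f : Fin 8 ≃ {i : Fin n // i.val < 8} :=
    { toFun := fun j => ⟨Fin.castLE hn j, j.2⟩
      invFun := fun i => ⟨i.1.val, i.2⟩
      left_inv := fun j => rfl
      right_inv := fun i => rfl }
  let p : Equiv.Perm (Fin 8) := Equiv.swap 0 1 * Equiv.swap 2 3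
  let q : Equiv.Perm (Fin 8) := Equiv.swap 0 1 * Equiv.swap 2 3 * (Equiv.swap 4 5 * Equiv.swap 6 7)
  have hfix : p.support.card = 4 ∧ q.support.card = 8 ∧ p * p = 1 ∧ q * q = 1 ∧ p ≠ 1 ∧ q ≠ 1 ∧
      Equiv.Perm.sign p = 1 ∧ Equiv.Perm.sign q = 1 := by decide +kernel
  obtain ⟨hp4, hq8, hp, hq, hp1, hq1, hps, hqs⟩ := hfix
  let ι := Equiv.Perm.extendDomainHom f
  have hs : ∀ σ : Equiv.Perm (Fin 8), Equiv.Perm.sign (ι σ) = Equiv.Perm.sign σ := fun σ => by
    exact Equiv.Perm.sign_extendDomain σ f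
  have hc : ∀ σ : Equiv.Perm (Fin 8), (ι σ).support.card = σ.support.card := fun σ => by
    exact Equiv.Perm.card_support_extend_domain f
  have ho : ∀ σ : Equiv.Perm (Fin 8), σ * σ = 1 → σ ≠ 1 → ∀ hm : ι σ ∈ alternatingGroup (Fin n),
      orderOf (⟨ι σ, hm⟩ : alternatingGroup (Fin n)) = 2 := fun σ h2 h1 hm => by
    rw [Subgroup.orderOf_mk, orderOf_injective ι (Equiv.Perm.extendDomainHom_injective f)]
    exact orderOf_eq_prime (by rw [pow_two, h2]) h1
  have hpm : ι p ∈ alternatingGroup (Fin n) := Equiv.Perm.mem_alternatingGroup.2 ((hs p).trans hps)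
  have hqm : ι q ∈ alternatingGroup (Fin n) := Equiv.Perm.mem_alternatingGroup.2 ((hs q).trans hqs)
  have h1 : IsConj (ι p) (ι q) :=
    (alternatingGroup (Fin n)).subtype.map_isConj (h ⟨ι p, hpm⟩ ⟨ι q, hqm⟩ (ho p hp hp1 hpm) (ho q hq hq1 hqm))
  obtain ⟨c, hcq⟩ := isConj_iff.1 h1
  have h2 := Equiv.Perm.card_support_conj (σ := c) (τ := ι p)
  rw [hcq, hc, hc, hp4, hq8] at h2
  omega

theorem fix_codes : fixedMask 235858092014725848871085848532159489 = 0 ∧
    pc (fixedMask 721064549862662597311266359538158624) = 8 := by decide +kernel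

theorem m12_two_classes : ¬ OneClass Spor.M12 := by
  intro h
  have key : ∀ a : ℕ, (permOK a && gensKept a && inSub [] [340831] a && Nat.beq (pcomp a a) pid) = true →
      ∃ x : Spor.M12, x * x = 1 ∧ Repr a (x : Equiv.Perm GolayPt) := by
    intro a ha
    simp only [Bool.and_eq_true] at ha
    obtain ⟨⟨⟨a1, a2⟩, a3⟩, haa⟩ := ha
    obtain ⟨x, hx⟩ := exists_repr_of_permOK a1
    exact ⟨⟨x, M12_eq ▸ mem_subG_of_inSub (mem_M24_of_gensKept hx a2) hx a3⟩, Subtype.ext
      ((hx.comp hx).unique (Nat.eq_of_beq_eq_true haa ▸ repr_pid)), hx⟩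
  obtain ⟨x, hx, hxr⟩ := key 235858092014725848871085848532159489 (by decide +kernel)
  obtain ⟨y, hy, hyr⟩ := key 721064549862662597311266359538158624 (by decide +kernel)
  have hfx : (fixF (x : Equiv.Perm GolayPt)).card = 0 := by
    rw [fixF_repr hxr, fix_codes.1, card_toSet]
    decide +kernel
  have hfy : (fixF (y : Equiv.Perm GolayPt)).card = 8 := by rw [fixF_repr hyr, card_toSet, fix_codes.2]
  have h1 : ∀ g : Spor.M12, (fixF (g : Equiv.Perm GolayPt)).card ≠ 24 → g * g = 1 → orderOf g = 2 := fun g hg h2 =>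
    orderOf_eq_prime (by rw [pow_two, h2]) fun e => hg (by rw [e]; decide +kernel)
  obtain ⟨c, hc⟩ := isConj_iff.1 (h x y (h1 x (by omega) hx) (h1 y (by omega) hy))
  have := card_fixF_conj (c : Equiv.Perm GolayPt) (x : Equiv.Perm GolayPt)
  rw [show (c : Equiv.Perm GolayPt) * x * (c : Equiv.Perm GolayPt)⁻¹ = y from congrArg Subtype.val hc, hfx, hfy] at this
  omega

end CfsgLib.SelfSix
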