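import Cfsg.Agent.Lib.SelfSix.Central
import Cfsg.Agent.Lib.SelfSix.Derived
import Cfsg.Agent.Lib.SelfSix.Models
import Cfsg.Agent.Lib.SymplecticTypeP
import Cfsg.Agent.Lib.ExtraspecialIndexP
import Cfsg.Agent.S3344

/-!
`T` is not extraspecial with a second involution.
-/

set_option autoImplicit false
set_option linter.unusedSectionVars false
set_option linter.style.haveILetI false

namespace CfsgLib.SelfSix

open Cfsg
open scoped commutatorElement

universe u

variable {G : Type u} [Group G] [Finite G] {z w : G} {T D : Subgroup G}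

namespace Nil

variable (N : Nil G z w T D)
include N

theorem extra_false [IsSimpleGroup G] (hG : ¬ IsMulCommutative G) (hD : D = ⊥) {s : G} (hs : Inverts z w s)
    (hsT : s ∉ T) (htop : ∀ g ∈ cen z, ∃ x ∈ T, ∃ d ∈ D, ∃ i : ℕ, g = x * d * w ^ i ∨ g = x * d * w ^ i * s)
    (hZ : ∀ y ∈ T, (∀ t ∈ T, Commute y t) → y = 1 ∨ y = z)
    (hcomm : ∀ x ∈ T, ∀ y ∈ T, ⁅x, y⁆ = 1 ∨ ⁅x, y⁆ = z)
    {a : G} (ha : a ∈ T) (haa : a * a = 1) (ha1 : a ≠ 1) (haz : a ≠ z) : False := by
  classical
  haveI : Fact (Nat.Prime 2) := ⟨Nat.prime_two⟩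
  haveI : Fact (Nat.Prime 3) := ⟨Nat.prime_three⟩
  have H := N.base
  have hmid : Mid z T a := ⟨ha, hcomm a ha⟩
  obtain ⟨t, ht, hta⟩ : ∃ t ∈ T, ¬ Commute t a := by
    by_contra h
    push Not at h
    exact (hZ a ha fun t ht => (h t ht).symm).elim ha1 haz
  set zT : T := ⟨z, N.zT⟩
  have hzT2 : orderOf zT = 2 := (Subgroup.orderOf_mk z N.zT).trans H.hz
  have hmem : ∀ {x : T}, x ∈ Subgroup.zpowers zT ↔ (x : G) = 1 ∨ (x : G) = z := fun {x} => by
    rw [mem_zp_two hzT2]
    constructor <;> rintro (e | e)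
    · exact Or.inl (congrArg Subtype.val e)
    · exact Or.inr (congrArg Subtype.val e)
    · exact Or.inl (Subtype.ext e)
    · exact Or.inr (Subtype.ext e)
  -- squares are central
  have hsq : ∀ x ∈ T, x * x = 1 ∨ x * x = z := fun x hx => hZ _ (mul_mem hx hx) fun y hy => by
    refine commutatorElement_eq_one_iff_commute.1 ?_
    rw [show ⁅x * x, y⁆ = x * ⁅x, y⁆ * x⁻¹ * ⁅x, y⁆ by simp only [commutatorElement_def]; group,
      N.pair_conj (hcomm x hx y hy) hx]
    rcases hcomm x hx y hy with e | e <;> rw [e]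
    · exact one_mul 1
    · exact mul_self_of_two H.hz
  have hext : Cfsg.IsExtraspecial 2 T := CfsgLib.SymplecticTypeP.isExtraspecial_of N.hT hzT2
    (fun x => hmem.2 (by rw [SubmonoidClass.coe_pow, pow_two]; exact hsq x x.2))
    (fun x y => hmem.2 (hcomm x x.2 y y.2))
    (fun x hx => hmem.2 (hZ x x.2 fun y hy => congrArg Subtype.val (hx ⟨y, hy⟩).eq))
    ⟨⟨t, ht⟩, ⟨a, ha⟩, fun h => hta (congrArg Subtype.val h.eq)⟩
  -- the size of `T`
  obtain ⟨n, hn1, hn⟩ := CfsgLib.ExtraspecialIndexP.exists_card hext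
  have hbound : ∀ U : Subgroup G, U ≤ T → (∀ x ∈ U, ∀ y ∈ U, Commute x y) →
      Nat.card U * Nat.card U ≤ 2 * Nat.card T := fun U hU hc => by
    have h := CfsgLib.ExtraspecialIndexP.card_abelian_sq_le hext (U.subgroupOf T)
      ⟨⟨fun x y => Subtype.ext (Subtype.ext (hc _ x.2 _ y.2).eq)⟩⟩
    rwa [Nat.card_congr (Subgroup.subgroupOfEquivOfLe hU).toEquiv] at h
  have h8 : Nat.card T ≠ 8 := by
    intro h8
    set b := w * a * w⁻¹
    have hba : Commute a b := N.invol_comm ha haa
    set U := Subgroup.closure ({z, a, b} : Set G)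
    have hUT : U ≤ T := (Subgroup.closure_le _).2 (by
      rintro v (rfl | rfl | rfl)
      exacts [N.zT, ha, N.wT a ha])
    have hU : IsMulCommutative U := Subgroup.isMulCommutative_closure (by
      rintro u (rfl | rfl | rfl) v (rfl | rfl | rfl)
      exacts [rfl, (N.z_comm ha).symm.eq, (N.z_comm (N.wT a ha)).symm.eq, (N.z_comm ha).eq, rfl, hba.eq,
        (N.z_comm (N.wT a ha)).eq, hba.symm.eq, rfl])
    have h5 : 5 ≤ Nat.card U := by
      have hzU : z ∈ U := Subgroup.subset_closure (Or.inl rfl)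
      have haU : a ∈ U := Subgroup.subset_closure (Or.inr (Or.inl rfl))
      have hbU : b ∈ U := Subgroup.subset_closure (Or.inr (Or.inr rfl))
      have hb1 : b ≠ 1 := fun e => ha1 (conj_eq_one_iff.1 e)
      have hbz : b ≠ z := fun e => haz (by
        rw [show a = w⁻¹ * b * w by simp only [b]; group, e, H.hzw.symm.inv_left.eq, inv_mul_cancel_right])
      have hba' : b ≠ a := fun e => (N.w_fix ha (Or.inl e)).elim ha1 haz
      have hbaz : b ≠ a * z := fun e => (N.w_fix ha (Or.inr e)).elim ha1 haz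
      have hz1 : z ≠ 1 := ne_one_of_two H.hz
      have haz1 : a * z ≠ 1 := fun e => haz ((eq_inv_of_mul_eq_one_left e).trans (inv_of_two H.hz))
      have hazz : a * z ≠ z := fun e => ha1 (mul_eq_right.1 e)
      have haza : a * z ≠ a := fun e => hz1 (mul_eq_left.1 e)
      have hsub : ({1, z, a, a * z, b} : Set G) ⊆ (U : Set G) := by
        rintro v (rfl | rfl | rfl | rfl | rfl)
        exacts [one_mem _, hzU, haU, mul_mem haU hzU, hbU]
      refine le_trans ?_ (Set.ncard_le_ncard hsub (Set.toFinite _))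
      rw [Set.ncard_insert_of_notMem (by simp [hz1.symm, ha1.symm, haz1.symm, hb1.symm]),
        Set.ncard_insert_of_notMem (by simp [haz.symm, hazz.symm, hbz.symm]),
        Set.ncard_insert_of_notMem (by simp [haza.symm, hba'.symm]),
        Set.ncard_insert_of_notMem (by simp [hbaz.symm]), Set.ncard_singleton]
    have := hbound U hUT fun x hx y hy => congrArg Subtype.val (hU.is_comm.comm (⟨x, hx⟩ : U) ⟨y, hy⟩)
    rw [h8] at this
    nlinarith
  -- the subgroup of index two
  set K := T ⊓ cen a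
  have hmove : ∀ b ∈ T, ¬ Commute b a → b * a * b⁻¹ = a * z := fun b hb h => N.mid_move hmid hb h
  have hiT : (K.subgroupOf T).index = 2 := by
    refine Subgroup.index_eq_two_iff.2 ⟨⟨t, ht⟩, fun b => ?_⟩
    by_cases hb : (b : G) ∈ K
    · refine Or.inr ⟨hb, fun h => hta ?_⟩
      have h2 : (b : G) * t ∈ K := h
      have := mul_mem (inv_mem hb) h2
      rw [inv_mul_cancel_left] at this
      exact mem_cen.1 this.2
    · refine Or.inl ⟨?_, hb⟩
      have hba : ¬ Commute (b : G) a := fun h => hb ⟨b.2, mem_cen.2 h⟩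
      refine ⟨mul_mem b.2 ht, mem_cen.2 (mul_inv_eq_iff_eq_mul.1 ?_)⟩
      calc (b : G) * t * a * ((b : G) * t)⁻¹ = (b : G) * (t * a * t⁻¹) * (b : G)⁻¹ := by group
        _ = ((b : G) * a * (b : G)⁻¹) * ((b : G) * z * (b : G)⁻¹) := by rw [hmove t ht hta]; group
        _ = a := by
          rw [hmove b b.2 hba, (N.z_comm b.2).eq, mul_inv_cancel_right, mul_assoc, mul_self_of_two H.hz, mul_one]
  have hcT : Nat.card T = 2 * Nat.card K := by
    rw [← Subgroup.card_mul_index (K.subgroupOf T), hiT, mul_comm,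
      Nat.card_congr (Subgroup.subgroupOfEquivOfLe (inf_le_left : K ≤ T)).toEquiv]
  obtain ⟨g₀, hg₀⟩ := H.exists_conj (orderOf_two haa ha1)
  obtain ⟨g, hg⟩ : ∃ g : G, g * z * g⁻¹ = a := ⟨g₀⁻¹, by rw [← hg₀]; group⟩
  set T' := T.map (MulAut.conj g).toMonoidHom
  set C := cen (g * z * g⁻¹)
  have N' := N.map g
  have hKC : K ≤ C := fun k hk => by
    show k ∈ cen (g * z * g⁻¹)
    rw [hg]; exact hk.2
  have hT'idx : (T'.subgroupOf C).index = 6 := by
    have hD' : D.map (MulAut.conj g).toMonoidHom = ⊥ := by rw [hD, Subgroup.map_bot]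
    rcases N'.top_split hD' with ⟨S', hS', -⟩ | ⟨s', -, hs', hs'T, -, htop'⟩
    · exfalso
      have h1 := N.card_sylow_of_inverting hD (mem_cen.2 hs.1) hs.2.1 S'
      have h2 : (S' : Subgroup G) = T' := Subgroup.ext hS'
      rw [h2, Subgroup.card_map_of_injective (MulAut.conj g).injective] at h1
      have := Nat.card_pos (α := T)
      omega
    · exact (N'.index_six hD' hs' hs'T htop').1
  have hrel : T'.relIndex K ≤ 2 := by
    haveI : (T'.subgroupOf C).Normal := ⟨fun x hx c => N'.normT c c.2 x hx⟩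
    have h6 : T'.relIndex K ∣ 6 := by
      rw [← hT'idx, ← Subgroup.relIndex_subgroupOf hKC]
      exact Subgroup.relIndex_dvd_index_of_normal _ _
    obtain ⟨m, hm⟩ := IsPGroup.exists_card_eq (N.hT.to_le (inf_le_left : K ≤ T))
    have h2 : T'.relIndex K ∣ 2 ^ m := by
      rw [← hm]
      exact ⟨_, (Subgroup.index_mul_card (T'.subgroupOf K)).symm⟩
    obtain ⟨j, -, hj⟩ := (Nat.dvd_prime_pow Nat.prime_two).1 h2
    rcases j with _ | _ | j
    · rw [hj]; norm_num
    · rw [hj]; norm_num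
    · exfalso
      have h4 := (pow_dvd_pow 2 (show 2 ≤ j + 1 + 1 by omega)).trans (hj ▸ h6)
      norm_num at h4
  set U := K ⊓ T'
  have hUab : ∀ x ∈ U, ∀ y ∈ U, Commute x y := by
    rintro x ⟨hx, ⟨x', hx', rfl⟩⟩ y ⟨hy, ⟨y', hy', rfl⟩⟩
    refine commutatorElement_eq_one_iff_commute.1 ?_
    rcases hcomm _ hx.1 _ hy.1 with e | e
    · exact e
    exfalso
    rw [← map_commutatorElement] at e
    rcases hcomm x' hx' y' hy' with e' | e' <;> rw [e'] at e
    · exact ne_one_of_two H.hz (e.symm.trans (map_one _))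
    · exact haz (hg.symm.trans e)
  have hUc : Nat.card T ≤ 4 * Nat.card U := by
    have h1 : Nat.card U * T'.relIndex K = Nat.card K := by
      rw [← Subgroup.card_mul_index (T'.subgroupOf K)]
      refine congrArg (· * _) ?_
      rw [show T'.subgroupOf K = U.subgroupOf K from (Subgroup.inf_subgroupOf_left T' K).symm,
        Nat.card_congr (Subgroup.subgroupOfEquivOfLe (inf_le_left : U ≤ K)).toEquiv]
    have := Nat.mul_le_mul_left (Nat.card U) hrel
    omega
  have hU2 := hbound U (inf_le_left.trans inf_le_left) hUab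
  have h32 : Nat.card T = 32 := by
    have h1 : Nat.card T * Nat.card T ≤ 32 * Nat.card T :=
      (Nat.mul_le_mul hUc hUc).trans (by linarith)
    have h2 := Nat.le_of_mul_le_mul_right h1 Nat.card_pos
    rw [hn] at h2 h8 ⊢
    have h3 : 2 * n + 1 ≤ 5 := (Nat.pow_le_pow_iff_right (by norm_num : 1 < 2)).1 h2
    obtain rfl | rfl : n = 1 ∨ n = 2 := by omega
    · exact absurd rfl h8
    · rfl
  -- the classification
  obtain ⟨-, hcore, ⟨e⟩⟩ := N.index_six hD hs hsT htop
  have hQ : T = (pCore 2 (cen z)).map (cen z).subtype := by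
    rw [hcore, Subgroup.subgroupOf_map_subtype, inf_eq_left.mpr N.hTC]
  obtain ⟨X, hX⟩ := (isPGroup_zp (x := (⟨w, H.w_cen⟩ : cen z))
    ((Subgroup.orderOf_mk w H.w_cen).trans H.hw)).exists_le_sylow
  have hXe : (X : Subgroup (cen z)).map (cen z).subtype = Subgroup.zpowers w :=
    H.three_sub (X.2.map _) (Subgroup.map_subtype_le _) ⟨_, hX (Subgroup.mem_zpowers _), rfl⟩
  have hCQX : T ⊓ Subgroup.centralizer (((X : Subgroup (cen z)).map (cen z).subtype : Subgroup G) : Set G) =
      Subgroup.zpowers z := by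
    rw [hXe]
    refine le_antisymm (fun x hx => ?_) (Subgroup.zpowers_le.2 ⟨N.zT, Subgroup.mem_centralizer_iff.2 fun y hy => ?_⟩)
    · exact (mem_zp_two H.hz).2 (N.T_zero hx.1
        (Subgroup.mem_centralizer_iff.1 hx.2 w (Subgroup.mem_zpowers w)).symm)
    · obtain ⟨i, rfl⟩ := Subgroup.mem_zpowers_iff.1 hy
      exact (H.hzw.zpow_right i).symm.eq
  have hone : OneClass G := H.one
  rcases Cfsg.Agent.S3344.result z H.hz (cen z) rfl T hQ hext h32 e X hCQX
      ⟨g, by rw [hg]; exact ha, by rw [hg]; exact haz⟩ with ⟨M, hM, -, -, hM8, -⟩ | ⟨⟨e⟩⟩ | ⟨⟨e⟩⟩ | ⟨⟨e⟩⟩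
  · rcases hM.eq_bot_or_eq_top with rfl | rfl
    · rw [Subgroup.card_bot] at hM8; omega
    · rw [Subgroup.card_top] at hM8
      have h1 : Nat.card T ≤ Nat.card G := Nat.le_of_dvd Nat.card_pos T.card_subgroup_dvd_card
      omega
  · exact alt_two_classes 8 le_rfl (hone.of_equiv e)
  · exact alt_two_classes 9 (by norm_num) (hone.of_equiv e)
  · exact m12_two_classes (hone.of_equiv e)

end Nil

end CfsgLib.SelfSix
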