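import Mathlib

/-!
The facts about `A₅` and its standard four-group that are needed for `S3243`.
-/

set_option autoImplicit false
set_option maxRecDepth 4000

namespace CfsgLib.SelfSix.Five

open Equiv

/-- The alternating group of degree five. -/
abbrev A5 : Type := alternatingGroup (Fin 5)

/-- `(0 1)(2 3)`. -/
def a0 : A5 := ⟨swap 0 1 * swap 2 3, Equiv.Perm.mem_alternatingGroup.2 (by decide +kernel)⟩

/-- `(0 2)(1 3)`. -/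
def b0 : A5 := ⟨swap 0 2 * swap 1 3, Equiv.Perm.mem_alternatingGroup.2 (by decide +kernel)⟩

/-- `(0 1 2)`. -/
def k0 : A5 := ⟨swap 0 1 * swap 1 2, Equiv.Perm.mem_alternatingGroup.2 (by decide +kernel)⟩

/-- The four-group. -/
def inW (g : A5) : Prop := g = 1 ∨ g = a0 ∨ g = b0 ∨ g = a0 * b0

instance (g : A5) : Decidable (inW g) := by unfold inW; infer_instance

theorem inW_mul : ∀ g h : A5, inW g → inW h → inW (g * h) := by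
  rintro g h (rfl | rfl | rfl | rfl) (rfl | rfl | rfl | rfl) <;> decide +kernel

theorem inW_inv : ∀ g : A5, inW g → g⁻¹ = g := by
  rintro g (rfl | rfl | rfl | rfl) <;> decide +kernel

/-- The four-group as a subgroup. -/
def W : Subgroup A5 where
  carrier := {g | inW g}
  one_mem' := Or.inl rfl
  mul_mem' := fun hg hh => inW_mul _ _ hg hh
  inv_mem' := fun {g} hg => by rw [Set.mem_setOf_eq, inW_inv g hg]; exact hg

theorem mem_W {g : A5} : g ∈ W ↔ inW g := Iff.rfl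

theorem four_sq : ∀ g : A5, g ^ 4 = 1 → g * g = 1 := by decide +kernel

theorem invol_conj : ∀ g : A5, g * g = 1 → g ≠ 1 → ∃ c : A5, c * a0 * c⁻¹ = g := by decide +kernel

theorem three_conj : ∀ g : A5, g ^ 3 = 1 → g ≠ 1 → ∃ c : A5, c * g * c⁻¹ = k0 ∨ c * g * c⁻¹ = k0 * k0 := by
  decide +kernel

theorem k0_norm : k0 ^ 3 = 1 ∧ k0 ≠ 1 ∧ inW (k0 * a0 * k0⁻¹) ∧ inW (k0 * b0 * k0⁻¹) ∧
    inW (k0 * k0 * a0 * (k0 * k0)⁻¹) ∧ inW (k0 * k0 * b0 * (k0 * k0)⁻¹) := by decide +kernel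

theorem norm_W : ∀ g : A5, inW (g * a0 * g⁻¹) → inW (g * b0 * g⁻¹) →
    inW g ∨ inW (k0⁻¹ * g) ∨ inW ((k0 * k0)⁻¹ * g) := by decide +kernel

theorem coset_three : ∀ g : A5, inW g ∨ ∃ c, inW c ∧ (g * c) ^ 3 = 1 ∧ g * c ≠ 1 := by
  have h : ∀ g : A5, inW g ∨ ((g * 1) ^ 3 = 1 ∧ g * 1 ≠ 1) ∨ ((g * a0) ^ 3 = 1 ∧ g * a0 ≠ 1) ∨
      ((g * b0) ^ 3 = 1 ∧ g * b0 ≠ 1) ∨ ((g * (a0 * b0)) ^ 3 = 1 ∧ g * (a0 * b0) ≠ 1) := by decide +kernel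
  intro g
  rcases h g with h | h | h | h | h
  exacts [Or.inl h, Or.inr ⟨1, Or.inl rfl, h⟩, Or.inr ⟨a0, Or.inr (Or.inl rfl), h⟩,
    Or.inr ⟨b0, Or.inr (Or.inr (Or.inl rfl)), h⟩, Or.inr ⟨a0 * b0, Or.inr (Or.inr (Or.inr rfl)), h⟩]

theorem line_of : ∀ a : A5, inW a → a ≠ 1 →
    ∃ g : A5, ∃ c : A5, inW c ∧ (g * c) ^ 3 = 1 ∧ g * c ≠ 1 ∧ inW (g * c * a * g) := by
  have h : ∀ a : A5, (a = a0 ∨ a = b0 ∨ a = a0 * b0) → ∃ g : A5,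
      ((g * 1) ^ 3 = 1 ∧ g * 1 ≠ 1 ∧ inW (g * 1 * a * g)) ∨
      ((g * a0) ^ 3 = 1 ∧ g * a0 ≠ 1 ∧ inW (g * a0 * a * g)) ∨
      ((g * b0) ^ 3 = 1 ∧ g * b0 ≠ 1 ∧ inW (g * b0 * a * g)) ∨
      ((g * (a0 * b0)) ^ 3 = 1 ∧ g * (a0 * b0) ≠ 1 ∧ inW (g * (a0 * b0) * a * g)) := by
    rintro a (rfl | rfl | rfl) <;> decide +kernel
  intro a ha ha1
  obtain ⟨g, h | h | h | h⟩ := h a (ha.resolve_left ha1)
  exacts [⟨g, 1, Or.inl rfl, h⟩, ⟨g, a0, Or.inr (Or.inl rfl), h⟩,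
    ⟨g, b0, Or.inr (Or.inr (Or.inl rfl)), h⟩, ⟨g, a0 * b0, Or.inr (Or.inr (Or.inr rfl)), h⟩]

theorem card_A5 : Nat.card A5 = 60 := by
  rw [nat_card_alternatingGroup, Nat.card_fin]; rfl

theorem card_W : Nat.card W = 4 := by
  classical
  have e : Nat.card W = Nat.card {g : A5 // inW g} := rfl
  rw [e, Nat.card_eq_fintype_card]
  decide +kernel

end CfsgLib.SelfSix.Five
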