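import Cfsg.Agent.Lib.SelfSix.Shape
import Cfsg.Agent.Lib.JTType.PSLTwo

/-!
The centraliser of an involution modulo the involution is not `PSL(2,7)`.
-/

set_option autoImplicit false
set_option linter.unusedSectionVars false
set_option linter.style.haveILetI false

namespace CfsgLib.SelfSix

open Cfsg

universe u

variable {G : Type u} [Group G] {z w : G}

theorem exists_four_seven : ∃ y : Matrix.ProjectiveSpecialLinearGroup (Fin 2) (ZMod 7),
    y ^ 4 = 1 ∧ y ^ 2 ≠ 1 := by
  let A : Matrix.SpecialLinearGroup (Fin 2) (ZMod 7) := ⟨!![0, -1; 1, 3], by decide +kernel⟩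
  have h4 : A.1 ^ 4 = -1 := by decide +kernel
  have h2 : A.1 ^ 2 ≠ 1 ∧ A.1 ^ 2 ≠ -1 := by decide +kernel
  haveI : Fact (Nat.Prime 7) := ⟨by norm_num⟩
  refine ⟨CfsgLib.PSL2.mk A, ?_, ?_⟩
  · rw [← map_pow, ← map_one (CfsgLib.PSL2.mk (F := ZMod 7))]
    refine CfsgLib.PSL2.mk_eq_mk.2 (Or.inr ?_)
    rw [Matrix.SpecialLinearGroup.coe_pow, h4, neg_neg, Matrix.SpecialLinearGroup.coe_one]
  · intro h
    rw [← map_pow, ← map_one (CfsgLib.PSL2.mk (F := ZMod 7))] at h
    rcases CfsgLib.PSL2.mk_eq_mk.1 h with e | e <;>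
      rw [Matrix.SpecialLinearGroup.coe_pow, Matrix.SpecialLinearGroup.coe_one] at e
    · exact h2.1 e.symm
    · exact h2.2 (by rw [e, neg_neg])

namespace Hyp

variable (H : Hyp G z w) [Finite G] [IsSimpleGroup G] (hG : ¬ IsMulCommutative G)
include H hG

/-- The centraliser has an involution other than `z`. -/
theorem exists_other : ∃ x ∈ cen z, orderOf x = 2 ∧ x ≠ z := by
  haveI : Fact (Nat.Prime 2) := ⟨Nat.prime_two⟩
  obtain ⟨S, hS⟩ := H.exists_sylow
  obtain ⟨P, hP⟩ := (isPGroup_zp (x := zin z) ((Subgroup.orderOf_mk z (self_cen z)).trans H.hz)).exists_le_sylow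
  obtain ⟨T, hT⟩ := H.sylow_cen P
  have hzT : z ∈ (T : Subgroup G) := hT ▸ ⟨_, hP (Subgroup.mem_zpowers _), rfl⟩
  obtain ⟨x, hx, hx2, hne⟩ := two_invol hG T hzT H.hz
  exact ⟨x, (Subgroup.map_subtype_le _) (hT ▸ hx), hx2, hne⟩

theorem not_seven : ¬ SevenCase z := by
  haveI : Fact (Nat.Prime 7) := ⟨by norm_num⟩
  rintro ⟨e⟩
  obtain ⟨x, hxC, hx2, hxz⟩ := H.exists_other hG
  have hxbar : e (proj z ⟨x, hxC⟩) * e (proj z ⟨x, hxC⟩) = 1 := by
    rw [← map_mul, ← map_mul, show (⟨x, hxC⟩ : cen z) * ⟨x, hxC⟩ = 1 from Subtype.ext (mul_self_of_two hx2),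
      map_one, map_one]
  have hxbar1 : e (proj z ⟨x, hxC⟩) ≠ 1 := fun h => by
    rcases (proj_one H.hz).1 (e.map_eq_one_iff.1 h) with h | h
    · exact ne_one_of_two hx2 h
    · exact hxz h
  -- every lift of an involution is an involution
  have hlift : ∀ c : cen z, (c : G) * c = 1 ∨ (e (proj z c)) * (e (proj z c)) ≠ 1 ∨ proj z c = 1 := by
    intro c
    by_cases hc : e (proj z c) * e (proj z c) = 1
    swap
    · exact Or.inr (Or.inl hc)
    by_cases hc1 : proj z c = 1
    · exact Or.inr (Or.inr hc1)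
    left
    obtain ⟨g, hg⟩ := isConj_iff.1 (CfsgLib.JT.invol_conj hxbar hxbar1 hc
      (fun h => hc1 (e.map_eq_one_iff.1 h)))
    obtain ⟨d, hd⟩ := QuotientGroup.mk'_surjective _ (e.symm g)
    have h1 : proj z (d * ⟨x, hxC⟩ * d⁻¹) = proj z c := e.injective (by
      rw [map_mul, map_mul, map_inv, map_mul, map_mul, map_inv, show proj z d = e.symm g from hd, e.apply_symm_apply,
        hg])
    have h2 : ((d : G) * x * (d : G)⁻¹) * ((d : G) * x * (d : G)⁻¹) = 1 := by
      rw [show (d : G) * x * (d : G)⁻¹ * ((d : G) * x * (d : G)⁻¹) = (d : G) * (x * x) * (d : G)⁻¹ by group,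
        mul_self_of_two hx2, mul_one, mul_inv_cancel]
    rcases proj_eq H.hz h1 with h | h <;> simp only [Subgroup.coe_mul, InvMemClass.coe_inv] at h
    · rw [h, h2]
    · have hcz : Commute ((d : G) * x * (d : G)⁻¹) z := mem_cen.1 (d * ⟨x, hxC⟩ * d⁻¹).2
      rw [h, hcz.symm.mul_mul_mul_comm, h2, mul_self_of_two H.hz, one_mul]
  -- an element of order four squares to an involution
  obtain ⟨y, hy4, hy2⟩ := exists_four_seven
  obtain ⟨c, hc⟩ := QuotientGroup.mk'_surjective _ (e.symm y)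
  have hey : e (proj z c) = y := by rw [show proj z c = e.symm y from hc, e.apply_symm_apply]
  have hcc : (c : G) * c * ((c : G) * c) = 1 := by
    have := hlift (c * c)
    rw [map_mul, map_mul, hey, ← pow_two y, ← pow_two (y ^ 2), ← pow_mul, hy4] at this
    rcases this with h | h | h
    · exact h
    · exact absurd rfl h
    · exfalso
      have := congrArg e h
      rw [map_mul, hey, map_one, ← pow_two] at this
      exact hy2 this
  have ho : orderOf ((c : G) * c) = 2 := orderOf_two hcc fun h => hy2 (by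
    rw [pow_two, ← hey, ← map_mul, ← map_mul, show c * c = 1 from Subtype.ext h, map_one, map_one])
  obtain ⟨h, hhC, hhz⟩ := H.sq_root ho
  rcases hlift ⟨h, hhC⟩ with h1 | h1 | h1
  · exact ne_one_of_two H.hz (hhz.symm.trans h1)
  · refine h1 ?_
    rw [← map_mul, ← map_mul, show (⟨h, hhC⟩ : cen z) * ⟨h, hhC⟩ = zin z from Subtype.ext hhz,
      (proj_one H.hz).2 (Or.inr rfl), map_one]
  · rcases (proj_one H.hz).1 h1 with h1 | h1 <;> simp only at h1
    · exact ne_one_of_two H.hz (by rw [← hhz, h1, one_mul])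
    · exact ne_one_of_two H.hz (by rw [← hhz, h1, mul_self_of_two H.hz])

end Hyp

end CfsgLib.SelfSix
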