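import Cfsg.Agent.Lib.SelfSix.Eight
import Cfsg.Agent.Lib.SelfSix.Seven
import Cfsg.Agent.Lib.SelfSix.FiveModel
import Cfsg.Agent.Lib.ExtraspecialTwo

/-!
When the centraliser of an involution modulo the involution is an extension of an elementary abelian group
by `A₅`, the Sylow 2-subgroups are elementary abelian of order eight.
-/

set_option autoImplicit false
set_option linter.unusedSectionVars false
set_option linter.style.haveILetI false

namespace CfsgLib.SelfSix

open Cfsg CfsgLib

universe u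

variable {G : Type u} [Group G] {z w : G}

theorem Hyp.conj (H : Hyp G z w) {c : G} (hc : Commute c z) : Hyp G z (c * w * c⁻¹) := by
  refine ⟨H.one, H.hz, (orderOf_conj c w).trans H.hw, ?_, fun g hg1 hg2 => ?_⟩
  · have h := commute_conj c H.hzw
    rwa [hc.eq, mul_inv_cancel_right] at h
  · have h1 : Commute (c⁻¹ * g * c) z := (hc.inv_left.mul_left hg1).mul_left hc
    have h2 : Commute (c⁻¹ * g * c) w := by
      have h := commute_conj c⁻¹ hg2
      rwa [show c⁻¹ * (c * w * c⁻¹) * c⁻¹⁻¹ = w by group, inv_inv] at h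
    obtain ⟨i, j, e⟩ := H.cent _ h1 h2
    refine ⟨i, j, ?_⟩
    calc g = c * (c⁻¹ * g * c) * c⁻¹ := by group
      _ = c * (z ^ i * w ^ j) * c⁻¹ := by rw [e]
      _ = (c * z * c⁻¹) ^ i * (c * w * c⁻¹) ^ j := by rw [conj_pow, conj_pow]; group
      _ = z ^ i * (c * w * c⁻¹) ^ j := by rw [hc.eq, mul_inv_cancel_right]

/-- The extension by `A₅`. -/
structure FiveData (z : G) where
  π : cbar z →* Five.A5
  surj : Function.Surjective π
  comm : ∀ e ∈ π.ker, ∀ f ∈ π.ker, Commute e f
  exp : ∀ e ∈ π.ker, e * e = 1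

theorem FiveCase.data {z : G} (h : FiveCase z) : Nonempty (FiveData z) := by
  obtain ⟨E, hE, hc, he, ⟨φ⟩⟩ := h
  set π : cbar z →* Five.A5 := φ.toMonoidHom.comp (QuotientGroup.mk' E)
  have hker : ∀ {e : cbar z}, e ∈ π.ker → e ∈ E := fun {e} h =>
    (QuotientGroup.eq_one_iff e).1 (φ.map_eq_one_iff.1 h)
  exact ⟨⟨π, φ.surjective.comp (QuotientGroup.mk'_surjective E),
    fun e he1 f hf => congrArg Subtype.val (hc.1.comm ⟨e, hker he1⟩ ⟨f, hker hf⟩),
    fun e he1 => by rw [← pow_two]; exact he e (hker he1)⟩⟩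

namespace FiveData

variable (F : FiveData z)

theorem inv_eq {e : cbar z} (he : e ∈ F.π.ker) : e⁻¹ = e := inv_eq_of_mul_eq_one_right (F.exp e he)

theorem conj_mem {e : cbar z} (he : e ∈ F.π.ker) (g : cbar z) : g * e * g⁻¹ ∈ F.π.ker :=
  F.π.normal_ker.conj_mem e he g

/-- Conjugation depends only on the image in `A₅`. -/
theorem conj_congr {g h e : cbar z} (he : e ∈ F.π.ker) (hgh : F.π g = F.π h) : g * e * g⁻¹ = h * e * h⁻¹ := by
  have hm : h⁻¹ * g ∈ F.π.ker := by rw [MonoidHom.mem_ker, map_mul, map_inv, hgh, inv_mul_cancel]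
  calc g * e * g⁻¹ = h * ((h⁻¹ * g) * e * (h⁻¹ * g)⁻¹) * h⁻¹ := by group
    _ = h * e * h⁻¹ := by rw [(F.comm _ hm _ he).eq, mul_inv_cancel_right]

variable {F}

/-- An element of order three of `A₅` fixes nothing. -/
theorem fix_three (H : Hyp G z w) {h e : cbar z} (h3 : F.π h ^ 3 = 1) (h1 : F.π h ≠ 1) (he : e ∈ F.π.ker)
    (hc : Commute h e) : e = 1 := by
  set a := proj z ⟨w, H.w_cen⟩
  have ha3 : a ^ 3 = 1 := H.orderOf_wbar ▸ pow_orderOf_eq_one a
  have ha : F.π a ≠ 1 := fun hh => by
    have h2 := F.exp a hh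
    rw [pow_three, h2, mul_one] at ha3
    have := H.orderOf_wbar
    change orderOf a = 3 at this
    rw [ha3, orderOf_one] at this
    omega
  obtain ⟨c, hc'⟩ := Five.three_conj _ h3 h1
  obtain ⟨d, hd⟩ := Five.three_conj (F.π a) (by rw [← map_pow, ha3, map_one]) ha
  obtain ⟨l, hl⟩ := F.surj (d⁻¹ * c)
  set h' := l * h * l⁻¹
  set e' := l * e * l⁻¹
  have he' : e' ∈ F.π.ker := F.conj_mem he l
  have hce : Commute h' e' := hc.map (MulAut.conj l).toMonoidHom
  have himg : F.π h' = F.π a ∨ F.π h' = F.π (a * a) := by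
    have e1 : F.π h' = d⁻¹ * (c * F.π h * c⁻¹) * d := by
      rw [map_mul, map_mul, map_inv, hl]; group
    have k3 : Five.k0 * Five.k0 * (Five.k0 * Five.k0) = Five.k0 := by decide +kernel
    rcases hc' with x | x <;> rcases hd with y | y
    · exact Or.inl (by rw [e1, x, ← y]; group)
    · refine Or.inr ?_
      rw [e1, x, map_mul, ← k3, ← y]; group
    · refine Or.inr ?_
      rw [e1, x, map_mul, ← y]; group
    · exact Or.inl (by rw [e1, x, ← y]; group)
  have hfin : Commute a e' := by
    rcases himg with hh | hh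
    · have := F.conj_congr he' hh
      rw [hce.eq, mul_inv_cancel_right] at this
      exact mul_inv_eq_iff_eq_mul.1 this.symm
    · have := F.conj_congr he' hh
      rw [hce.eq, mul_inv_cancel_right] at this
      have h2 : Commute (a * a) e' := mul_inv_eq_iff_eq_mul.1 this.symm
      have e4 : a * a * (a * a) = a := by rw [mul_assoc, ← pow_three, ha3, mul_one]
      exact e4 ▸ h2.mul_left h2
  obtain ⟨i, hi⟩ := Subgroup.mem_zpowers_iff.1 (H.wbar_self e' hfin.symm)
  have he3 : e' ^ 3 = 1 := by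
    rw [← hi, ← zpow_natCast, ← zpow_mul, mul_comm, zpow_mul, zpow_natCast, ha3, one_zpow]
  rw [pow_three, F.exp e' he', mul_one] at he3
  exact conj_eq_one_iff.1 he3

theorem orbit_three (H : Hyp G z w) {h e : cbar z} (h3 : F.π h ^ 3 = 1) (h1 : F.π h ≠ 1) (he : e ∈ F.π.ker) :
    e * (h * e * h⁻¹) = h * h * e * (h * h)⁻¹ := by
  set f := h * e * h⁻¹
  set f' := h * h * e * (h * h)⁻¹
  have hf : f ∈ F.π.ker := F.conj_mem he h
  have hf' : f' ∈ F.π.ker := F.conj_mem he (h * h)
  have e3 : h * f' * h⁻¹ = e := by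
    have := F.conj_congr he (g := h * (h * h)) (h := 1) (by rw [map_one, map_mul, map_mul, ← pow_three, h3])
    calc h * f' * h⁻¹ = h * (h * h) * e * (h * (h * h))⁻¹ := by simp only [f']; group
      _ = e := by rw [this]; group
  have hP : e * f * f' ∈ F.π.ker := mul_mem (mul_mem he hf) hf'
  have hcomm : Commute h (e * f * f') := by
    refine mul_inv_eq_iff_eq_mul.1 ?_
    calc h * (e * f * f') * h⁻¹ = f * f' * (h * f' * h⁻¹) := by simp only [f, f']; group
      _ = e * f * f' := by
        rw [e3]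
        exact ((F.comm _ he _ hf).mul_right (F.comm _ he _ hf')).eq.symm.trans (mul_assoc _ _ _).symm
  have := fix_three H h3 h1 hP hcomm
  rw [mul_eq_one_iff_eq_inv, F.inv_eq hf'] at this
  exact this

/-- A non-trivial invariant subgroup has an element fixed by the four-group. -/
theorem exists_fixed (F : FiveData z) {R : Subgroup (cbar z)} (hR : R ≤ F.π.ker) (hn : R.Normal) (hne : R ≠ ⊥) :
    ∃ v ∈ R, v ≠ 1 ∧ ∀ g, Five.inW (F.π g) → g * v * g⁻¹ = v := by
  obtain ⟨A, hA⟩ := F.surj Five.a0
  obtain ⟨B, hB⟩ := F.surj Five.b0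
  obtain ⟨⟨e, he⟩, he1'⟩ := R.ne_bot_iff_exists_ne_one.1 hne
  have he1 : e ≠ 1 := fun h => he1' (Subtype.ext h)
  have step : ∀ (X : cbar z), F.π (X * X) = 1 → ∀ e ∈ R, e ≠ 1 → ∃ v ∈ R, v ≠ 1 ∧ X * v * X⁻¹ = v ∧
      (∀ Y, F.π (Y * X) = F.π (X * Y) → Y * e * Y⁻¹ = e → Y * v * Y⁻¹ = v) := by
    intro X hX e he he1
    by_cases hfix : X * e * X⁻¹ = e
    · exact ⟨e, he, he1, hfix, fun Y _ hY => hY⟩
    refine ⟨e * (X * e * X⁻¹), mul_mem he (hn.conj_mem e he X), fun hh => hfix ?_, ?_, fun Y hY hYe => ?_⟩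
    · have := eq_inv_of_mul_eq_one_right hh
      rwa [F.inv_eq (hR he)] at this
    · have h2 := F.conj_congr (hR he) (g := X * X) (h := 1) (by rw [hX, map_one])
      calc X * (e * (X * e * X⁻¹)) * X⁻¹ = (X * e * X⁻¹) * (X * X * e * (X * X)⁻¹) := by group
        _ = (X * e * X⁻¹) * e := by rw [h2]; group
        _ = _ := (F.comm _ (F.conj_mem (hR he) X) _ (hR he)).eq
    · have h2 := F.conj_congr (hR he) hY
      calc Y * (e * (X * e * X⁻¹)) * Y⁻¹ = (Y * e * Y⁻¹) * (Y * X * e * (Y * X)⁻¹) := by group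
        _ = e * (X * Y * e * (X * Y)⁻¹) := by rw [hYe, h2]
        _ = e * (X * (Y * e * Y⁻¹) * X⁻¹) := by group
        _ = _ := by rw [hYe]
  obtain ⟨e1, he1R, he11, hA1, -⟩ := step A (by rw [map_mul, hA]; decide +kernel) e he he1
  obtain ⟨v, hvR, hv1, hBv, hkeep⟩ := step B (by rw [map_mul, hB]; decide +kernel) e1 he1R he11
  have hAv := hkeep A (by rw [map_mul, map_mul, hA, hB]; decide +kernel) hA1
  refine ⟨v, hvR, hv1, fun g hg => ?_⟩
  rcases hg with h | h | h | h
  · rw [F.conj_congr (hR hvR) (h.trans (map_one F.π).symm)]; group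
  · rw [F.conj_congr (hR hvR) (h.trans hA.symm), hAv]
  · rw [F.conj_congr (hR hvR) (h.trans hB.symm), hBv]
  · rw [F.conj_congr (hR hvR) (show F.π g = F.π (A * B) by rw [h, map_mul, hA, hB]),
      show A * B * v * (A * B)⁻¹ = A * (B * v * B⁻¹) * A⁻¹ by group, hBv, hAv]

/-- The centraliser to `A₅`. -/
def top (F : FiveData z) : cen z →* Five.A5 := F.π.comp (proj z)

theorem top_surj : Function.Surjective F.top := F.surj.comp (QuotientGroup.mk'_surjective _)

theorem mem_kerTop {x : cen z} : x ∈ F.top.ker ↔ proj z x ∈ F.π.ker := Iff.rfl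

theorem sq_kerTop (H : Hyp G z w) {x : cen z} (hx : x ∈ F.top.ker) : (x : G) * x = 1 ∨ (x : G) * x = z := by
  have h : proj z (x * x) = 1 := by rw [map_mul]; exact F.exp _ hx
  simpa using (proj_one H.hz).1 h

end FiveData

namespace Hyp

variable (H : Hyp G z w) [Finite G]
include H

theorem five_sylow (F : FiveData z) :
    ∃ S : Sylow 2 G, ∃ P : Subgroup (cen z), (S : Subgroup G) = P.map (cen z).subtype ∧
      (∀ x, x ∈ P ↔ Five.inW (F.top x)) ∧ Nat.card (S : Subgroup G) = 4 * Nat.card F.top.ker := by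
  haveI : Fact (Nat.Prime 2) := ⟨Nat.prime_two⟩
  set P := Five.W.comap F.top with hP
  have hP2 : IsPGroup 2 P := fun x => ⟨3, Subtype.ext (Subtype.ext (by
    have h1 : (x : cen z) * x ∈ F.top.ker := by
      show F.top ((x : cen z) * x) = 1
      rw [map_mul]
      have := Five.inW_inv _ x.2
      nth_rewrite 1 [← this]
      exact inv_mul_cancel _
    simp only [Subgroup.coe_pow, OneMemClass.coe_one]
    show ((x : cen z) : G) ^ 2 ^ 3 = 1
    rw [show (2 : ℕ) ^ 3 = 2 * 2 * 2 from rfl, pow_mul, pow_mul, pow_two ((x : cen z) : G), pow_two (_ * _)]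
    rcases FiveData.sq_kerTop H h1 with e | e <;> simp only [Subgroup.coe_mul] at e
    · rw [e, one_pow]
    · rw [e, pow_two, mul_self_of_two H.hz]))⟩
  have hidx : P.index = 15 := by
    rw [hP, Subgroup.index_comap_of_surjective _ FiveData.top_surj]
    have := Five.W.card_mul_index
    rw [Five.card_W, Five.card_A5] at this
    omega
  obtain ⟨S, hS⟩ := H.sylow_cen (hP2.toSylow (by rw [hidx]; norm_num))
  refine ⟨S, P, hS, fun x => Iff.rfl, ?_⟩
  rw [hS, Subgroup.card_map_of_injective (cen z).subtype_injective]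
  show Nat.card P = _
  have h1 := P.card_mul_index
  rw [hidx, ← Subgroup.card_mul_index F.top.ker, Subgroup.index_ker,
    MonoidHom.range_eq_top.2 FiveData.top_surj, Subgroup.card_top, Five.card_A5] at h1
  omega

theorem five_small [IsSimpleGroup G] (hG : ¬ IsMulCommutative G) (F : FiveData z) (hE : F.π.ker = ⊥) :
    ∃ S : Sylow 2 G, Nat.card (S : Subgroup G) = 8 ∧ ∀ s ∈ (S : Subgroup G), s * s = 1 := by
  obtain ⟨S, P, hS, hP, hcard⟩ := H.five_sylow F
  have hker : F.top.ker = Subgroup.zpowers (zin z) := by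
    ext x
    rw [FiveData.mem_kerTop, hE, Subgroup.mem_bot]
    exact QuotientGroup.eq_one_iff x
  refine ⟨S, by rw [hcard, hker, Nat.card_zpowers, Subgroup.orderOf_mk, H.hz], ?_⟩
  rw [hS]
  rintro _ ⟨s, hs, rfl⟩
  obtain ⟨x, hxC, hx2, hxz⟩ := H.exists_other hG
  have hW := Five.inW_inv _ ((hP s).1 hs)
  have hss : proj z (s * s) = 1 := by
    have : F.top (s * s) = 1 := by rw [map_mul]; nth_rewrite 1 [← hW]; exact inv_mul_cancel _
    exact Subgroup.mem_bot.1 (hE ▸ this)
  by_cases hs1 : proj z s = 1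
  · rcases (proj_one H.hz).1 hs1 with e | e <;> show (s : G) * s = 1 <;> rw [e]
    · exact one_mul 1
    · exact mul_self_of_two H.hz
  have hinj : Function.Injective F.π := (MonoidHom.ker_eq_bot_iff _).1 hE
  set xb := proj z ⟨x, hxC⟩
  have hxb : xb * xb = 1 := by
    rw [← map_mul, show (⟨x, hxC⟩ : cen z) * ⟨x, hxC⟩ = 1 from Subtype.ext (mul_self_of_two hx2), map_one]
  have hxb1 : xb ≠ 1 := fun h => by
    rcases (proj_one H.hz).1 h with e | e
    · exact ne_one_of_two hx2 e
    · exact hxz e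
  obtain ⟨c, hc⟩ := Five.invol_conj (F.π xb) (by rw [← map_mul, hxb, map_one]) fun h =>
    hxb1 (hinj (h.trans (map_one _).symm))
  obtain ⟨c', hc'⟩ := Five.invol_conj (F.π (proj z s)) (by rw [← map_mul, ← map_mul, hss, map_one]) fun h =>
    hs1 (hinj (h.trans (map_one _).symm))
  obtain ⟨d, hd⟩ := FiveData.top_surj (F := F) (c' * c⁻¹)
  have h1 : proj z (d * ⟨x, hxC⟩ * d⁻¹) = proj z s := hinj (by
    rw [map_mul, map_mul, map_inv, map_mul, map_mul, map_inv, show F.π (proj z d) = c' * c⁻¹ from hd, ← hc, ← hc']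
    group)
  have hcz : Commute ((d : G) * x * (d : G)⁻¹) z := mem_cen.1 (d * ⟨x, hxC⟩ * d⁻¹).2
  have h2 : ((d : G) * x * (d : G)⁻¹) * ((d : G) * x * (d : G)⁻¹) = 1 := by
    rw [show (d : G) * x * (d : G)⁻¹ * ((d : G) * x * (d : G)⁻¹) = (d : G) * (x * x) * (d : G)⁻¹ by group,
      mul_self_of_two hx2, mul_one, mul_inv_cancel]
  show (s : G) * s = 1
  rcases proj_eq H.hz h1 with h | h <;> simp only [Subgroup.coe_mul, InvMemClass.coe_inv] at h
  · rw [h, h2]
  · rw [h, hcz.symm.mul_mul_mul_comm, h2, mul_self_of_two H.hz, one_mul]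

theorem five_not_big (F : FiveData z) : F.π.ker = ⊥ := by
  classical
  by_contra hE
  haveI : Fact (Nat.Prime 2) := ⟨Nat.prime_two⟩
  haveI hQn : F.top.ker.Normal := inferInstance
  set Q := F.top.ker with hQ
  set CQ := Q ⊓ Subgroup.centralizer (Q : Set (cen z)) with hCQ
  haveI : CQ.Normal := inferInstance
  set R0 := CQ.map (proj z) with hR0
  have hR0n : R0.Normal := Subgroup.Normal.map inferInstance _ (QuotientGroup.mk'_surjective _)
  have hR0le : R0 ≤ F.π.ker := by rintro _ ⟨x, hx, rfl⟩; exact hx.1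
  obtain ⟨R, hR, hRn, hRne, hRalt⟩ : ∃ R : Subgroup (cbar z), R ≤ F.π.ker ∧ R.Normal ∧ R ≠ ⊥ ∧
      (R0 = ⊥ ∨ R = R0) := by
    by_cases h : R0 = ⊥
    · exact ⟨_, le_rfl, inferInstance, hE, Or.inl h⟩
    · exact ⟨R0, hR0le, hR0n, h, Or.inr rfl⟩
  obtain ⟨v, hvR, hv1, hvW⟩ := F.exists_fixed hR hRn hRne
  have hv := hR hvR
  have hline : ∀ k : cbar z, ¬ Five.inW (F.π k) → ∃ h : cbar z, F.π h ^ 3 = 1 ∧ F.π h ≠ 1 ∧
      k * v * k⁻¹ = h * v * h⁻¹ := by
    intro k hk
    rcases Five.coset_three (F.π k) with h | ⟨c, hc, h3, h1⟩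
    · exact absurd h hk
    obtain ⟨cl, hcl⟩ := F.surj c
    refine ⟨k * cl, by rwa [map_mul, hcl], by rwa [map_mul, hcl], ?_⟩
    rw [show k * cl * v * (k * cl)⁻¹ = k * (cl * v * cl⁻¹) * k⁻¹ by group, hvW cl (by rwa [hcl])]
  have hstab : ∀ k : cbar z, k * v * k⁻¹ = v → Five.inW (F.π k) := by
    intro k hk
    by_contra hn
    obtain ⟨h, h3, h1, e⟩ := hline k hn
    exact hv1 (FiveData.fix_three H h3 h1 hv (mul_inv_eq_iff_eq_mul.1 (e.symm.trans hk)))
  let U : Subgroup (cbar z) :=
    { carrier := {e | e = 1 ∨ ∃ g, e = g * v * g⁻¹}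
      one_mem' := Or.inl rfl
      mul_mem' := by
        rintro x y (rfl | ⟨g, rfl⟩) hy
        · rwa [one_mul]
        rcases hy with rfl | ⟨g', rfl⟩
        · rw [mul_one]; exact Or.inr ⟨g, rfl⟩
        have e : g * v * g⁻¹ * (g' * v * g'⁻¹) = g * (v * ((g⁻¹ * g') * v * (g⁻¹ * g')⁻¹)) * g⁻¹ := by group
        rw [e]
        by_cases hk : Five.inW (F.π (g⁻¹ * g'))
        · rw [hvW _ hk, F.exp v hv]
          exact Or.inl (by group)
        · obtain ⟨h, h3, h1, eh⟩ := hline _ hk
          rw [eh, FiveData.orbit_three H h3 h1 hv]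
          exact Or.inr ⟨g * (h * h), by group⟩
      inv_mem' := by
        rintro x (rfl | ⟨g, rfl⟩)
        · exact Or.inl inv_one
        · rw [F.inv_eq (F.conj_mem hv g)]; exact Or.inr ⟨g, rfl⟩ }
  have hUR : ∀ e ∈ U, e ∈ R := by
    rintro e (rfl | ⟨g, rfl⟩)
    · exact one_mem _
    · exact hRn.conj_mem v hvR g
  have hUE : ∀ e ∈ U, e ∈ F.π.ker := fun e he => hR (hUR e he)
  have hUn : ∀ e ∈ U, ∀ g, g * e * g⁻¹ ∈ U := by
    rintro e (rfl | ⟨g', rfl⟩) g
    · exact Or.inl (by group)
    · exact Or.inr ⟨g * g', by group⟩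
  have hUcard : 15 ≤ Nat.card U := by
    choose σ hσ using F.surj
    let f : Five.A5 → U := fun x => ⟨σ x * v * (σ x)⁻¹, Or.inr ⟨_, rfl⟩⟩
    let r : U → Five.A5 := fun e => if h : ∃ x, f x = e then h.choose else 1
    have hr : ∀ x, f (r (f x)) = f x := fun x => by
      have h : ∃ y, f y = f x := ⟨x, rfl⟩
      show f (dite _ _ _) = _
      rw [dif_pos h]
      exact h.choose_spec
    let g : Five.A5 → U × Five.W := fun x => (f x, ⟨(r (f x))⁻¹ * x, by
      have h : σ (r (f x)) * v * (σ (r (f x)))⁻¹ = σ x * v * (σ x)⁻¹ := congrArg Subtype.val (hr x)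
      have h2 := hstab ((σ (r (f x)))⁻¹ * σ x) (by
        calc (σ (r (f x)))⁻¹ * σ x * v * ((σ (r (f x)))⁻¹ * σ x)⁻¹
            = (σ (r (f x)))⁻¹ * (σ x * v * (σ x)⁻¹) * σ (r (f x)) := by group
          _ = v := by rw [← h]; group)
      rw [map_mul, map_inv, hσ, hσ] at h2
      exact h2⟩)
    have hg : Function.Injective g := fun x y hxy => by
      have h1 : f x = f y := congrArg Prod.fst hxy
      have h2 := congrArg (fun p => (p.2 : Five.A5)) hxy
      simp only [g, h1] at h2
      exact mul_left_cancel h2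
    have := Nat.card_le_card_of_injective g hg
    rw [Nat.card_prod, Five.card_W, Five.card_A5] at this
    omega
  -- all lifts of elements of the orbit are involutions
  obtain ⟨m, hm⟩ := QuotientGroup.mk'_surjective _ v
  have hzc : ∀ x : cen z, Commute (x : G) z := fun x => mem_cen.1 x.2
  have horb : ∀ x : cen z, proj z x ∈ U → proj z x ≠ 1 → (x : G) * x = (m : G) * m := by
    intro x hx hx1
    obtain ⟨g, hg⟩ := hx.resolve_left hx1
    obtain ⟨d, rfl⟩ := QuotientGroup.mk'_surjective _ g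
    have h1 : proj z (d * m * d⁻¹) = proj z x := by rw [map_mul, map_mul, map_inv, hg, show proj z m = v from hm]
    have hconj : ((d : G) * m * (d : G)⁻¹) * ((d : G) * m * (d : G)⁻¹) = (m : G) * m := by
      have hmm : (d : G) * (m * m) = m * m * d := by
        rcases FiveData.sq_kerTop H (F := F) (show m ∈ F.top.ker by
          rw [FiveData.mem_kerTop, show proj z m = v from hm]; exact hv) with e | e <;> rw [e]
        · rw [mul_one, one_mul]
        · exact (hzc d).eq
      rw [show (d : G) * m * (d : G)⁻¹ * ((d : G) * m * (d : G)⁻¹) = (d : G) * (m * m) * (d : G)⁻¹ by group, hmm,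
        mul_inv_cancel_right]
    rcases proj_eq H.hz h1 with h | h <;> simp only [Subgroup.coe_mul, InvMemClass.coe_inv] at h
    · rw [h, hconj]
    · have hc2 : Commute ((d : G) * m * (d : G)⁻¹) z := hzc (d * m * d⁻¹)
      rw [h, hc2.symm.mul_mul_mul_comm, hconj, mul_self_of_two H.hz, mul_one]
  have hmm : (m : G) * m = 1 := by
    rcases FiveData.sq_kerTop H (F := F) (show m ∈ F.top.ker by
      rw [FiveData.mem_kerTop, show proj z m = v from hm]; exact hv) with e | e
    · exact e
    exfalso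
    have hswap : ∀ x y : cen z, proj z x ∈ U → proj z y ∈ U → proj z x ≠ 1 → proj z y ≠ 1 →
        proj z x * proj z y ≠ 1 → (y : G) * x = x * y * z := by
      intro x y hx hy hx1 hy1 hxy
      have a1 := (horb x hx hx1).trans e
      have a2 := (horb y hy hy1).trans e
      have a3 := (horb (x * y) (by rw [map_mul]; exact mul_mem hx hy) (by rw [map_mul]; exact hxy)).trans e
      simp only [Subgroup.coe_mul] at a3
      have ix : (x : G)⁻¹ = x * z := inv_eq_of_mul_eq_one_right (by rw [← mul_assoc, a1, mul_self_of_two H.hz])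
      have iy : (y : G)⁻¹ = y * z := inv_eq_of_mul_eq_one_right (by rw [← mul_assoc, a2, mul_self_of_two H.hz])
      calc (y : G) * x = (x : G)⁻¹ * ((x : G) * y * (x * y)) * (y : G)⁻¹ := by group
        _ = x * z * z * (y * z) := by rw [a3, ix, iy]
        _ = x * y * z := by rw [mul_assoc (x : G) z z, mul_self_of_two H.hz, mul_one, mul_assoc]
    have hpick : ∀ s : Finset (cbar z), s.card ≤ 4 → ∃ f ∈ U, f ∉ s := by
      intro s hs
      by_contra hcon
      push Not at hcon
      have := Nat.card_le_card_of_injective (fun f : U => (⟨f, hcon f f.2⟩ : s))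
        fun a b h => Subtype.ext (by have := congrArg Subtype.val h; exact this)
      rw [Nat.card_eq_fintype_card (α := s), Fintype.card_coe] at this
      omega
    obtain ⟨f, hf, hf'⟩ := hpick {1, v} ((Finset.card_le_two).trans (by norm_num))
    obtain ⟨f2, hf2, hf2'⟩ := hpick {1, v, f, v * f} Finset.card_le_four
    simp only [Finset.mem_insert, Finset.mem_singleton, not_or] at hf' hf2'
    obtain ⟨y, rfl⟩ := QuotientGroup.mk'_surjective _ f
    obtain ⟨y', rfl⟩ := QuotientGroup.mk'_surjective _ f2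
    have hvU : v ∈ U := Or.inr ⟨1, by group⟩
    have hne : ∀ a b : cbar z, a ∈ F.π.ker → b ≠ a → a * b ≠ 1 := fun a b ha hab h =>
      hab ((eq_inv_of_mul_eq_one_right h).trans (F.inv_eq ha))
    have b1 := hswap m y (by rwa [show proj z m = v from hm]) hf (by rwa [show proj z m = v from hm]) hf'.1
      (by rw [show proj z m = v from hm]; exact hne _ _ hv hf'.2)
    have b2 := hswap m y' (by rwa [show proj z m = v from hm]) hf2 (by rwa [show proj z m = v from hm]) hf2'.1
      (by rw [show proj z m = v from hm]; exact hne _ _ hv hf2'.2.1)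
    have b3 := hswap m (y * y') (by rwa [show proj z m = v from hm]) (by rw [map_mul]; exact mul_mem hf hf2)
      (by rwa [show proj z m = v from hm]) (by rw [map_mul]; exact hne _ _ (hUE _ hf) hf2'.2.2.1)
      (by
        rw [show proj z m = v from hm, map_mul]
        refine hne _ _ hv fun h => hf2'.2.2.2 ?_
        rw [← h, (F.comm _ (hUE _ hf) _ (hUE _ hf2)).eq, mul_assoc, F.exp _ (hUE _ hf), mul_one])
    simp only [Subgroup.coe_mul] at b3
    refine ne_one_of_two H.hz ?_
    have b4 : (y : G) * y' * m = m * (y * y') := by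
      calc (y : G) * y' * m = y * (m * y' * z) := by rw [mul_assoc, b2]
        _ = m * y * z * (y' * z) := by rw [← b1]; group
        _ = m * y * y' * (z * z) := by rw [mul_assoc _ z, ← mul_assoc z, ← (hzc y').eq]; group
        _ = m * (y * y') := by rw [mul_self_of_two H.hz]; group
    rw [b4] at b3
    exact mul_eq_left.1 b3.symm
  have hlift : ∀ x : cen z, proj z x ∈ U → (x : G) * x = 1 := by
    intro x hx
    by_cases h1 : proj z x = 1
    · rcases (proj_one H.hz).1 h1 with e | e <;> rw [e]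
      · exact one_mul 1
      · exact mul_self_of_two H.hz
    · exact (horb x hx h1).trans hmm
  have hUcomm : ∀ x y : cen z, proj z x ∈ U → proj z y ∈ U → Commute (x : G) y := by
    intro x y hx hy
    have h := hlift (x * y) (by rw [map_mul]; exact mul_mem hx hy)
    simp only [Subgroup.coe_mul] at h
    show (x : G) * y = y * x
    calc (x : G) * y = ((x : G) * y)⁻¹ := eq_inv_of_mul_eq_one_left h
      _ = y * x := by
        rw [mul_inv_rev, inv_eq_of_mul_eq_one_right (hlift x hx), inv_eq_of_mul_eq_one_right (hlift y hy)]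
  have hQU : 30 ≤ Nat.card (U.comap (proj z)) := by
    have h1 := (U.comap (proj z)).card_mul_index
    rw [Subgroup.index_comap_of_surjective _ (QuotientGroup.mk'_surjective _),
      Subgroup.card_eq_card_quotient_mul_card_subgroup (Subgroup.zpowers (zin z)), ← U.card_mul_index,
      Nat.card_zpowers, Subgroup.orderOf_mk, H.hz, mul_right_comm] at h1
    have := Nat.eq_of_mul_eq_mul_right (Nat.pos_of_ne_zero Subgroup.FiniteIndex.index_ne_zero) h1
    omega
  have hQUQ : U.comap (proj z) ≤ Q := fun x hx => hUE _ hx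
  have hQbig : 30 ≤ Nat.card Q := hQU.trans (Subgroup.card_le_of_le hQUQ)
  rcases hRalt with hR0b | rfl
  · -- nondegenerate: `Q` has centre `⟨z⟩`
    have hzQ : zin z ∈ Q := by
      rw [hQ, FiveData.mem_kerTop, show proj z (zin z) = 1 from (proj_one H.hz).2 (Or.inr rfl)]
      exact one_mem _
    let zq : Q := ⟨zin z, hzQ⟩
    have hext : ExtraTwo.Ext2 Q zq := by
      refine ⟨fun h => ne_one_of_two H.hz (congrArg (fun x : Q => ((x : cen z) : G)) h), fun g => ⟨fun hg => ?_, ?_⟩,
        fun g => ?_⟩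
      · have : proj z (g : cen z) ∈ R0 := ⟨_, ⟨g.2, Subgroup.mem_centralizer_iff.2 fun q hq =>
          congrArg Subtype.val (Subgroup.mem_center_iff.1 hg ⟨q, hq⟩)⟩, rfl⟩
        rw [hR0b, Subgroup.mem_bot] at this
        rcases (proj_one H.hz).1 this with e | e
        · exact Or.inl (Subtype.ext (Subtype.ext e))
        · exact Or.inr (Subtype.ext (Subtype.ext e))
      · rintro (rfl | rfl)
        · exact one_mem _
        · exact Subgroup.mem_center_iff.2 fun q => Subtype.ext (zin_central z (q : cen z)).eq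
      · rcases FiveData.sq_kerTop H g.2 with e | e
        · exact Or.inl (Subtype.ext (Subtype.ext e))
        · exact Or.inr (Subtype.ext (Subtype.ext e))
    have hab : ∀ A : Subgroup Q, zq ∈ A → (∀ a ∈ A, ∀ b ∈ A, a * b = b * a) →
        Nat.card A * Nat.card A ≤ Nat.card Q * 2 := fun A hzA hA => by
      rw [← hext.card_mul_card_centralizer hzA]
      exact Nat.mul_le_mul_left _ (Subgroup.card_le_of_le fun a ha =>
        Subgroup.mem_centralizer_iff.2 fun b hb => hA b hb a ha)
    have hUA : Nat.card (U.comap (proj z)) * Nat.card (U.comap (proj z)) ≤ Nat.card Q * 2 := by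
      have h := hab ((U.comap (proj z)).subgroupOf Q) (by
        show proj z (zin z) ∈ U
        rw [(proj_one H.hz).2 (Or.inr rfl)]; exact Or.inl rfl)
        fun a ha b hb => Subtype.ext (Subtype.ext (hUcomm a b ha hb).eq)
      rwa [Nat.card_congr (Subgroup.subgroupOfEquivOfLe hQUQ).toEquiv] at h
    -- an involution of `Q` and the conjugate of `Q` around it
    have hm2 : orderOf (m : G) = 2 := orderOf_two hmm fun e => hv1 (by
      rw [← hm, show m = 1 from Subtype.ext e, map_one])
    obtain ⟨g, hg⟩ := H.exists_conj hm2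
    let K : Subgroup Q := Subgroup.centralizer {(⟨m, by rw [hQ, FiveData.mem_kerTop, show proj z m = v from hm]; exact hv⟩ : Q)}
    have hKmem : ∀ q : Q, q ∈ K ↔ Commute ((q : cen z) : G) m := fun q => by
      rw [Subgroup.mem_centralizer_singleton_iff]
      exact ⟨fun h => congrArg (fun x : Q => ((x : cen z) : G)) h, fun h => Subtype.ext (Subtype.ext h.eq)⟩
    have hKidx : Nat.card Q ≤ 2 * Nat.card K := by
      have hbool : ∀ q q' : Q, q ∉ K → q' ∉ K → q⁻¹ * q' ∈ K := by
        intro q q' hq hq'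
        have key : ∀ q : Q, q ∉ K → ((q : cen z) : G) * m * ((q : cen z) : G)⁻¹ = m * z := by
          intro q hq
          have hp : proj z ((q : cen z) * m * (q : cen z)⁻¹) = proj z m := by
            rw [map_mul, map_mul, map_inv, show proj z m = v from hm, (F.comm _ q.2 _ hv).eq, mul_inv_cancel_right]
          rcases proj_eq H.hz hp with h | h <;> simp only [Subgroup.coe_mul, InvMemClass.coe_inv] at h
          · exact absurd ((hKmem q).2 (mul_inv_eq_iff_eq_mul.1 h.symm)) hq
          · calc ((q : cen z) : G) * m * ((q : cen z) : G)⁻¹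
                = ((q : cen z) : G) * m * ((q : cen z) : G)⁻¹ * z * z := by
                  rw [mul_assoc _ z z, mul_self_of_two H.hz, mul_one]
              _ = m * z := by rw [← h]
        refine (hKmem _).2 (mul_inv_eq_iff_eq_mul.1 ?_)
        simp only [Subgroup.coe_mul, InvMemClass.coe_inv]
        calc ((q : cen z) : G)⁻¹ * (q' : cen z) * m * (((q : cen z) : G)⁻¹ * (q' : cen z))⁻¹
            = ((q : cen z) : G)⁻¹ * (((q' : cen z) : G) * m * ((q' : cen z) : G)⁻¹) * (q : cen z) := by group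
          _ = m := by rw [key q' hq', ← key q hq]; group
      have := Subgroup.card_mul_index K
      have hi : K.index ≤ 2 := by
        by_contra hcon
        push Not at hcon
        haveI := Fintype.ofFinite (Q ⧸ K)
        rw [Subgroup.index_eq_card, Nat.card_eq_fintype_card] at hcon
        obtain ⟨a, b, c, hab', hac, hbc⟩ := Fintype.two_lt_card_iff.1 hcon
        induction a using QuotientGroup.induction_on with | _ a => ?_
        induction b using QuotientGroup.induction_on with | _ b => ?_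
        induction c using QuotientGroup.induction_on with | _ c => ?_
        have eq_of : ∀ p q : Q, (p : Q ⧸ K) ≠ (q : Q ⧸ K) → p ∈ K ∨ q ∈ K := fun p q hpq => by
          by_contra hh
          push Not at hh
          exact hpq (QuotientGroup.eq.2 (hbool p q hh.1 hh.2))
        have eq_of' : ∀ p q : Q, p ∈ K → q ∈ K → (p : Q ⧸ K) = (q : Q ⧸ K) := fun p q hp hq =>
          QuotientGroup.eq.2 (mul_mem (inv_mem hp) hq)
        rcases eq_of a b hab' with h | h <;> rcases eq_of a c hac with h' | h' <;>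
          rcases eq_of b c hbc with h'' | h'' <;>
          first
          | exact hab' (eq_of' _ _ ‹a ∈ K› ‹b ∈ K›)
          | exact hac (eq_of' _ _ ‹a ∈ K› ‹c ∈ K›)
          | exact hbc (eq_of' _ _ ‹b ∈ K› ‹c ∈ K›)
      calc Nat.card Q = Nat.card K * K.index := this.symm
        _ ≤ Nat.card K * 2 := Nat.mul_le_mul_left _ hi
        _ = _ := mul_comm _ _
    have hin : ∀ k : K, g * (((k : Q) : cen z) : G) * g⁻¹ ∈ cen z := fun k =>
      mem_cen.2 (by have := commute_conj g ((hKmem k).1 k.2); rwa [hg] at this)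
    let φ : K →* Five.A5 := F.top.comp
      { toFun := fun k => ⟨_, hin k⟩
        map_one' := Subtype.ext (by simp)
        map_mul' := fun a b => Subtype.ext (by simp [mul_assoc]) }
    have hrange : Nat.card φ.range ≤ 4 := by
      have hQ2 : IsPGroup 2 K := fun k => ⟨2, Subtype.ext (hext.pow_four (k : Q))⟩
      obtain ⟨n, hn⟩ := (hQ2.of_surjective φ.rangeRestrict φ.rangeRestrict_surjective).exists_card_eq
      have hdvd := Subgroup.card_subgroup_dvd_card φ.range
      rw [hn, Five.card_A5] at hdvd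
      rw [hn]
      by_contra hcon
      push Not at hcon
      have : 3 ≤ n := by
        by_contra h3
        interval_cases n <;> norm_num at hcon
      exact absurd ((pow_dvd_pow 2 this).trans hdvd) (by norm_num)
    have hMel : ∀ k : K, k ∈ φ.ker → ((k : Q) : Q) * k = 1 := by
      intro k hk
      rcases hext.sq (k : Q) with e | e
      · exact e
      exfalso
      have he : (((k : Q) : cen z) : G) * ((k : Q) : cen z) = z := congrArg (fun x : Q => ((x : cen z) : G)) e
      have h2 := FiveData.sq_kerTop H (F := F) (x := ⟨_, hin k⟩) hk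
      have e5 : g * (((k : Q) : cen z) : G) * g⁻¹ * (g * ((k : Q) : cen z) * g⁻¹) = g * z * g⁻¹ := by
        calc _ = g * ((((k : Q) : cen z) : G) * ((k : Q) : cen z)) * g⁻¹ := by group
          _ = _ := by rw [he]
      simp only [e5] at h2
      rcases h2 with h | h
      · exact ne_one_of_two H.hz (conj_eq_one_iff.1 h)
      · have hmz : (m : G) = z := mul_left_cancel (mul_right_cancel (hg.trans h.symm))
        exact hv1 (by rw [← hm]; exact (proj_one H.hz).2 (Or.inr hmz))
    have hMcard : Nat.card Q ≤ 8 * Nat.card (φ.ker.map K.subtype) := by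
      rw [Subgroup.card_map_of_injective K.subtype_injective]
      have h1 := φ.ker.card_mul_index
      rw [Subgroup.index_ker] at h1
      calc Nat.card Q ≤ 2 * Nat.card K := hKidx
        _ = 2 * (Nat.card φ.ker * Nat.card φ.range) := by rw [h1]
        _ ≤ 2 * (Nat.card φ.ker * 4) := by gcongr
        _ = _ := by ring
    set M := φ.ker.map K.subtype
    have hM : ∀ a ∈ M, a * a = 1 := by rintro _ ⟨k, hk, rfl⟩; exact hMel k hk
    have hMz : Nat.card M * Nat.card M ≤ Nat.card Q * 2 := by
      have hcomm : ∀ a ∈ M, ∀ b ∈ M, a * b = b * a := fun a ha b hb => by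
        calc a * b = (a * b)⁻¹ := eq_inv_of_mul_eq_one_left (hM _ (mul_mem ha hb))
          _ = b * a := by
            rw [mul_inv_rev, inv_eq_of_mul_eq_one_right (hM a ha), inv_eq_of_mul_eq_one_right (hM b hb)]
      let A := Subgroup.closure ((M : Set Q) ∪ {zq})
      have hMA : M ≤ A := fun a ha => Subgroup.subset_closure (Or.inl ha)
      refine (Nat.mul_le_mul (Subgroup.card_le_of_le hMA) (Subgroup.card_le_of_le hMA)).trans
        (hab A (Subgroup.subset_closure (Or.inr rfl)) fun a ha b hb => ?_)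
      haveI : IsMulCommutative A := Subgroup.isMulCommutative_closure fun a ha b hb => by
        rcases ha with ha | rfl <;> rcases hb with hb | rfl
        · exact hcomm a ha b hb
        · exact hext.z_comm a
        · exact (hext.z_comm b).symm
        · rfl
      exact congrArg Subtype.val (mul_comm' (⟨a, ha⟩ : A) ⟨b, hb⟩)
    have h128 : Nat.card Q ≤ 128 := by
      have h2 : Nat.card Q * Nat.card Q ≤ 128 * Nat.card Q :=
        calc Nat.card Q * Nat.card Q ≤ (8 * Nat.card M) * (8 * Nat.card M) := Nat.mul_le_mul hMcard hMcard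
          _ = 64 * (Nat.card M * Nat.card M) := by ring
          _ ≤ 64 * (Nat.card Q * 2) := Nat.mul_le_mul_left _ hMz
          _ = 128 * Nat.card Q := by ring
      exact Nat.le_of_mul_le_mul_right h2 (by omega)
    have := (Nat.mul_le_mul hQU hQU).trans hUA
    omega
  · -- `U` lies in the radical
    have hcentral : ∀ x : cen z, proj z x ∈ U → ∀ q ∈ Q, Commute (x : G) q := by
      intro x hx q hq
      obtain ⟨c, hc, hce⟩ := hUR _ hx
      have hcq : Commute (c : G) q := congrArg Subtype.val (Subgroup.mem_centralizer_iff.1 hc.2 q hq).symm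
      rcases proj_eq H.hz hce with e | e <;> rw [e]
      · exact hcq
      · exact hcq.mul_left (hzc q).symm
    obtain ⟨S, P, hS, hP, hcard⟩ := H.five_sylow F
    have hmU : proj z m ∈ U := by rw [show proj z m = v from hm]; exact Or.inr ⟨1, by group⟩
    have hcentS : ∀ s : cen z, Five.inW (F.top s) → Commute (m : G) s := by
      intro s hs
      by_cases hs1 : F.top s = 1
      · exact hcentral m hmU s hs1
      obtain ⟨gg, c, hc, h3, h1, hW⟩ := Five.line_of _ hs hs1
      obtain ⟨g', hg'⟩ := F.surj gg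
      obtain ⟨c', hc'⟩ := F.surj c
      set sb := proj z s with hsb
      have hh : F.π (g' * c') ^ 3 = 1 ∧ F.π (g' * c') ≠ 1 := by rw [map_mul, hg', hc']; exact ⟨h3, h1⟩
      set h := g' * c'
      have hgv : h * v * h⁻¹ = g' * v * g'⁻¹ := by
        rw [show h * v * h⁻¹ = g' * (c' * v * c'⁻¹) * g'⁻¹ by simp only [h]; group, hvW c' (by rwa [hc'])]
      have key : g' * v * g'⁻¹ * (sb * g' * v * (sb * g')⁻¹) = v := by
        have e1 : sb * g' * v * (sb * g')⁻¹ = h * h * v * (h * h)⁻¹ := by
          have hm2 : Five.inW (F.π (h * sb * g')) := by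
            rw [map_mul, map_mul, map_mul, hg', hc']; exact hW
          have e2 : (h * sb * g') * v * (h * sb * g')⁻¹ = v := hvW _ hm2
          have e3 : h⁻¹ * v * h⁻¹⁻¹ = h * h * v * (h * h)⁻¹ :=
            F.conj_congr hv (by rw [map_inv, map_mul F.π h h]; exact inv_eq_of_mul_eq_one_right (by rw [← pow_three, hh.1]))
          rw [← e3]
          conv_rhs => rw [← e2]
          group
        rw [← hgv, e1, ← FiveData.orbit_three H hh.1 hh.2 hv, ← mul_assoc,
          (F.comm _ (F.conj_mem hv h) _ hv).eq, mul_assoc, F.exp _ (F.conj_mem hv h), mul_one]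
      obtain ⟨y, hy⟩ := QuotientGroup.mk'_surjective _ (g' * v * g'⁻¹)
      have hyU : proj z y ∈ U := hy ▸ Or.inr ⟨g', rfl⟩
      have hsyU : proj z (s * y * s⁻¹) ∈ U := by rw [map_mul, map_mul, map_inv]; exact hUn _ hyU _
      have hss : F.top (s * s) = 1 := by
        rw [map_mul]; nth_rewrite 1 [← Five.inW_inv _ hs]; exact inv_mul_cancel _
      have h2 : Commute (y : G) ((s : G) * s) := hcentral y hyU (s * s) hss
      set m1 := y * (s * y * s⁻¹)
      have hm1 : proj z m1 = proj z m := by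
        rw [map_mul, map_mul, map_mul, map_inv, show proj z y = g' * v * g'⁻¹ from hy, show proj z m = v from hm]
        conv_rhs => rw [← key]
        rw [← hsb]; group
      have hfix : Commute (s : G) (m1 : G) := by
        refine mul_inv_eq_iff_eq_mul.1 ?_
        simp only [m1, Subgroup.coe_mul, InvMemClass.coe_inv]
        calc (s : G) * (y * (s * y * (s : G)⁻¹)) * (s : G)⁻¹
            = ((s : G) * y * (s : G)⁻¹) * (((s : G) * s) * y * ((s : G) * s)⁻¹) := by group
          _ = ((s : G) * y * (s : G)⁻¹) * y := by rw [← h2.eq, mul_inv_cancel_right]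
          _ = _ := (hUcomm (s * y * s⁻¹) y hsyU hyU).eq
      rcases proj_eq H.hz hm1 with e | e <;> rw [e]
      · exact hfix.symm
      · exact hfix.symm.mul_left (hzc s).symm
    obtain ⟨cc, hcc⟩ := Five.three_conj (F.top ⟨w, H.w_cen⟩) (by
      rw [← map_pow, show (⟨w, H.w_cen⟩ : cen z) ^ 3 = 1 from Subtype.ext (H.hw ▸ pow_orderOf_eq_one w), map_one])
      (fun h => by
        have h2 := F.exp _ h
        have h3 : proj z ⟨w, H.w_cen⟩ ^ 3 = 1 := H.orderOf_wbar ▸ pow_orderOf_eq_one _
        rw [pow_three, h2, mul_one] at h3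
        have := H.orderOf_wbar
        rw [h3, orderOf_one] at this
        omega)
    obtain ⟨d, hd⟩ := FiveData.top_surj (F := F) cc
    set wc : cen z := d * ⟨w, H.w_cen⟩ * d⁻¹ with hwc
    have H' : Hyp G z (wc : G) := H.conj (hzc d)
    have hwimg : F.top wc = Five.k0 ∨ F.top wc = Five.k0 * Five.k0 := by
      rw [hwc, map_mul, map_mul, map_inv, hd]; exact hcc
    have hnW : ∀ k : Five.A5, Five.inW (k * Five.a0 * k⁻¹) → Five.inW (k * Five.b0 * k⁻¹) → ∀ x, Five.inW x →
        Five.inW (k * x * k⁻¹) := by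
      intro k ha hb x hx
      rcases hx with rfl | rfl | rfl | rfl
      · rw [mul_one, mul_inv_cancel]; exact Or.inl rfl
      · exact ha
      · exact hb
      · rw [show k * (Five.a0 * Five.b0) * k⁻¹ = (k * Five.a0 * k⁻¹) * (k * Five.b0 * k⁻¹) by group]
        exact Five.inW_mul _ _ ha hb
    obtain ⟨k0c, k0n, k0a, k0b, k0a', k0b'⟩ := Five.k0_norm
    have hwnorm : (wc : G) ∈ Subgroup.normalizer (S : Set G) := by
      refine Subgroup.mem_normalizer_iff.2 fun x => ?_
      have hconj : ∀ n : cen z, Five.inW (F.top n * Five.a0 * (F.top n)⁻¹) →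
          Five.inW (F.top n * Five.b0 * (F.top n)⁻¹) → ∀ x ∈ (S : Subgroup G), (n : G) * x * (n : G)⁻¹ ∈ (S : Subgroup G) := by
        intro n h1 h2 x hx
        rw [hS] at hx ⊢
        obtain ⟨p, hp, rfl⟩ := hx
        refine ⟨n * p * n⁻¹, (hP _).2 ?_, rfl⟩
        rw [map_mul, map_mul, map_inv]
        exact hnW _ h1 h2 _ ((hP p).1 hp)
      have hk3 : ∀ k : Five.A5, k = Five.k0 ∨ k = Five.k0 * Five.k0 →
          (Five.inW (k * Five.a0 * k⁻¹) ∧ Five.inW (k * Five.b0 * k⁻¹)) ∧
          (Five.inW (k⁻¹ * Five.a0 * k⁻¹⁻¹) ∧ Five.inW (k⁻¹ * Five.b0 * k⁻¹⁻¹)) := by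
        rintro k (rfl | rfl) <;> decide +kernel
      obtain ⟨⟨p1, p2⟩, q1, q2⟩ := hk3 _ hwimg
      refine ⟨fun hx => hconj wc p1 p2 x hx, fun hx => ?_⟩
      have := hconj wc⁻¹ (by rwa [map_inv]) (by rwa [map_inv]) _ hx
      simp only [InvMemClass.coe_inv] at this
      rwa [show (wc : G)⁻¹ * ((wc : G) * x * (wc : G)⁻¹) * (wc : G)⁻¹⁻¹ = x by group] at this
    have hm2 : orderOf (m : G) = 2 := orderOf_two hmm fun e => hv1 (by
      rw [← hm, show m = 1 from Subtype.ext e, map_one])
    have hmS : (m : G) ∈ (S : Subgroup G) := hS ▸ ⟨m, (hP m).2 (Or.inl (by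
      show F.π (proj z m) = 1
      rw [show proj z m = v from hm]; exact hv)), rfl⟩
    obtain ⟨h8, -⟩ := H'.ns S (hS ▸ Subgroup.map_subtype_le _) hwnorm hmS hm2
      (fun e => hv1 (by rw [← hm]; exact (proj_one H.hz).2 (Or.inr e)))
      (fun s hs => by
        rw [hS] at hs
        obtain ⟨p, hp, rfl⟩ := hs
        exact hcentS p ((hP p).1 hp))
    rw [← hQ] at hcard
    omega

/-- The `A₅` case gives elementary abelian Sylow subgroups of order eight. -/
theorem five [IsSimpleGroup G] (hG : ¬ IsMulCommutative G) (h : FiveCase z) :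
    ∃ S : Sylow 2 G, Nat.card (S : Subgroup G) = 8 ∧ ∀ s ∈ (S : Subgroup G), s * s = 1 := by
  obtain ⟨F⟩ := h.data
  exact H.five_small hG F (H.five_not_big F)

end Hyp

end CfsgLib.SelfSix
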