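import Cfsg.Agent.Lib.SelfSix.NilBasic

/-!
An involution outside `T` centralises a third element of `T` when `T` has a second involution.
-/

set_option autoImplicit false
set_option linter.unusedSectionVars false
set_option linter.style.haveILetI false

namespace CfsgLib.SelfSix

open Cfsg

universe u

variable {G : Type u} [Group G] [Finite G] {z w : G} {T D : Subgroup G}

theorem Nil.exists_cent (N : Nil G z w T D) {a : G} (ha : a ∈ T) (ha2 : orderOf a = 2) (haz : a ≠ z)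
    {s x : G} (hs : Inverts z w s) (hx : x * x = 1) (hxs : x * s⁻¹ ∈ T) (hxT : x ∉ T) :
    ∃ b ∈ T, b ≠ 1 ∧ b ≠ z ∧ Commute b x := by
  classical
  by_contra hcon
  push Not at hcon
  have H := N.base
  haveI : Fact (Nat.Prime 2) := ⟨Nat.prime_two⟩
  have hxC : x ∈ cen z := by
    rw [← inv_mul_cancel_right x s]
    exact mul_mem (N.hTC hxs) (mem_cen.2 hs.1)
  have hxi : x⁻¹ = x := inv_eq_of_mul_eq_one_right hx
  set xb := proj z ⟨x, hxC⟩
  set wb := proj z ⟨w, H.w_cen⟩
  set V : Subgroup (cbar z) := (T.subgroupOf (cen z)).map (proj z)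
  have hxb : xb * xb = 1 := by
    rw [← map_mul, show (⟨x, hxC⟩ : cen z) * ⟨x, hxC⟩ = 1 from Subtype.ext hx, map_one]
  have hxbi : xb⁻¹ = xb := inv_eq_of_mul_eq_one_right hxb
  have hV2 : IsPGroup 2 V := (N.hT.of_equiv (Subgroup.subgroupOfEquivOfLe N.hTC).symm).map _
  have hVn : ∀ c : cen z, ∀ v ∈ V, proj z c * v * (proj z c)⁻¹ ∈ V := by
    rintro c _ ⟨y, hy, rfl⟩
    exact ⟨c * y * c⁻¹, N.normT c c.2 y hy, by rw [map_mul, map_mul, map_inv]⟩
  have hfix : ∀ v ∈ V, Commute v wb → v = 1 := by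
    intro v hv hc
    rcases (Nat.dvd_prime Nat.prime_three).1 (H.orderOf_wbar ▸ orderOf_dvd_of_mem_zpowers (H.wbar_self v hc)) with e | e
    · exact orderOf_eq_one_iff.1 e
    · obtain ⟨k, hk⟩ := hV2 ⟨v, hv⟩
      have h := orderOf_dvd_of_pow_eq_one (congrArg Subtype.val hk : v ^ 2 ^ k = 1)
      rw [e] at h
      have := Nat.prime_three.dvd_of_dvd_pow h
      norm_num at this
  have hlift : ∀ v ∈ V, v ≠ 1 → ∀ y : cen z, proj z y = v → xb * v * xb = v →
      (y : G) ∈ T ∧ x * y * x = (y : G) * z := by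
    intro v hv hv1 y hy hf
    obtain ⟨y', hy', e⟩ := hv
    have hyT : (y : G) ∈ T := by
      rcases proj_eq H.hz (e.trans hy.symm) with h | h <;> rw [h]
      · exact hy'
      · exact mul_mem hy' N.zT
    refine ⟨hyT, ?_⟩
    have h1 : proj z y = proj z (⟨x, hxC⟩ * y * ⟨x, hxC⟩) := by rw [map_mul, map_mul, hy, hf]
    rcases proj_eq H.hz h1 with h | h <;> simp only [Subgroup.coe_mul] at h
    · exfalso
      refine hcon (y : G) hyT (fun e1 => hv1 ?_) (fun e1 => hv1 ?_) ?_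
      · rw [← hy]; exact (proj_one H.hz).2 (Or.inl e1)
      · rw [← hy]; exact (proj_one H.hz).2 (Or.inr e1)
      · show (y : G) * x = x * y
        conv_lhs => rw [← h]
        rw [mul_assoc, hx, mul_one]
    · exact h
  have huniq : ∀ v ∈ V, ∀ v' ∈ V, v ≠ 1 → v' ≠ 1 → xb * v * xb = v → xb * v' * xb = v' → v = v' := by
    intro v hv v' hv' h1 h1' hf hf'
    obtain ⟨y, rfl⟩ := QuotientGroup.mk'_surjective _ v
    obtain ⟨y', rfl⟩ := QuotientGroup.mk'_surjective _ v'
    obtain ⟨hy, ey⟩ := hlift _ hv h1 y rfl hf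
    obtain ⟨hy', ey'⟩ := hlift _ hv' h1' y' rfl hf'
    by_contra hne
    refine hcon ((y : G)⁻¹ * y') (mul_mem (inv_mem hy) hy') (fun e => hne ?_) (fun e => hne ?_) ?_
    · rw [show y' = y from Subtype.ext (inv_mul_eq_one.1 e).symm]
    · rw [show y' = y * zin z from Subtype.ext (inv_mul_eq_iff_eq_mul.1 e), map_mul,
        show proj z (zin z) = 1 from (proj_one H.hz).2 (Or.inr rfl), mul_one]
    · have hxy : x * (y : G)⁻¹ * x = ((y : G) * z)⁻¹ := by rw [← ey, mul_inv_rev, mul_inv_rev, hxi, mul_assoc]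
      have e : x * ((y : G)⁻¹ * y') * x = (y : G)⁻¹ * y' := by
        calc x * ((y : G)⁻¹ * y') * x = (x * (y : G)⁻¹ * x) * (x * y' * x) := by
              rw [show x * (y : G)⁻¹ * x * (x * y' * x) = x * (y : G)⁻¹ * (x * x) * y' * x by group, hx, mul_one]
              group
          _ = (z⁻¹ * (y : G)⁻¹) * ((y' : G) * z) := by rw [hxy, ey', mul_inv_rev]
          _ = z⁻¹ * ((y : G)⁻¹ * y') * z := by group
          _ = _ := by
            have hc : Commute ((y : G)⁻¹ * y') z := mem_cen.1 (N.hTC (mul_mem (inv_mem hy) hy'))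
            rw [mul_assoc, hc.eq, inv_mul_cancel_left]
      show (y : G)⁻¹ * y' * x = x * ((y : G)⁻¹ * y')
      conv_lhs => rw [← e]
      rw [mul_assoc _ x x, hx, mul_one]
  -- the central involutions of `V`
  let Z1 : Subgroup (cbar z) :=
    { carrier := {v | v ∈ V ∧ v * v = 1 ∧ ∀ t ∈ V, Commute v t}
      one_mem' := ⟨one_mem _, one_mul 1, fun t _ => Commute.one_left t⟩
      mul_mem' := fun {p q} hp hq => ⟨mul_mem hp.1 hq.1, by
        rw [(hq.2.2 p hp.1).mul_mul_mul_comm, hp.2.1, hq.2.1, one_mul],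
        fun t ht => (hp.2.2 t ht).mul_left (hq.2.2 t ht)⟩
      inv_mem' := fun {p} hp => by rw [show p⁻¹ = p from inv_eq_of_mul_eq_one_right hp.2.1]; exact hp }
  have hZn : ∀ c : cen z, ∀ v ∈ Z1, proj z c * v * (proj z c)⁻¹ ∈ Z1 := by
    rintro c v ⟨hv, hvv, hvc⟩
    refine ⟨hVn c v hv, ?_, fun t ht => ?_⟩
    · rw [show proj z c * v * (proj z c)⁻¹ * (proj z c * v * (proj z c)⁻¹) = proj z c * (v * v) * (proj z c)⁻¹ by group,
        hvv, mul_one, mul_inv_cancel]
    · have h := (hvc _ (hVn c⁻¹ t ht)).map (MulAut.conj (proj z c)).toMonoidHom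
      simp only [MulEquiv.coe_toMonoidHom, MulAut.conj_apply, map_inv, inv_inv] at h
      rwa [show proj z c * ((proj z c)⁻¹ * t * proj z c) * (proj z c)⁻¹ = t by group] at h
  have hZx : ∀ v ∈ Z1, xb * v * xb ∈ Z1 := fun v hv => by
    have := hZn ⟨x, hxC⟩ v hv
    change xb * v * xb⁻¹ ∈ Z1 at this
    rwa [hxbi] at this
  have hZfix : ∀ v ∈ Z1, xb * (v * (xb * v * xb)) * xb = v * (xb * v * xb) := by
    intro v hv
    calc xb * (v * (xb * v * xb)) * xb = xb * v * xb * (v * (xb * xb)) := by group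
      _ = xb * v * xb * v := by rw [hxb, mul_one]
      _ = _ := ((hv.2.2 _ (hZx v hv).1).eq).symm
  obtain ⟨v0, hv0, hv01⟩ : ∃ v ∈ Z1, v ≠ 1 := by
    haveI : Nontrivial V := by
      refine ⟨⟨⟨proj z ⟨a, N.hTC ha⟩, ⟨⟨a, N.hTC ha⟩, ha, rfl⟩⟩, 1, fun e => ?_⟩⟩
      rcases (proj_one H.hz).1 (congrArg Subtype.val e : proj z (⟨a, N.hTC ha⟩ : cen z) = 1) with h | h
      · exact ne_one_of_two ha2 h
      · exact haz h
    haveI := hV2.center_nontrivial
    obtain ⟨y, hy⟩ := exists_prime_orderOf_dvd_card' (G := Subgroup.center V) 2 (by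
      obtain ⟨n, hn, hc⟩ := (hV2.to_subgroup (Subgroup.center V)).nontrivial_iff_card.1 this
      exact hc ▸ dvd_pow_self 2 hn.ne')
    have hy2 : orderOf ((y : V) : cbar z) = 2 := by rw [Subgroup.orderOf_coe, Subgroup.orderOf_coe, hy]
    exact ⟨_, ⟨(y : V).2, mul_self_of_two hy2, fun t ht =>
      (congrArg Subtype.val (Subgroup.mem_center_iff.1 y.2 ⟨t, ht⟩)).symm⟩, ne_one_of_two hy2⟩
  obtain ⟨f, hf, hf1, hff⟩ : ∃ f ∈ Z1, f ≠ 1 ∧ xb * f * xb = f := by
    by_cases h : v0 * (xb * v0 * xb) = 1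
    · refine ⟨v0, hv0, hv01, ?_⟩
      have := eq_inv_of_mul_eq_one_right h
      rwa [inv_eq_of_mul_eq_one_right hv0.2.1] at this
    · exact ⟨_, mul_mem hv0 (hZx v0 hv0), h, hZfix v0 hv0⟩
  set f1 := wb * f * wb⁻¹
  have hf1Z : f1 ∈ Z1 := hZn ⟨w, H.w_cen⟩ f hf
  have hf1ne : f1 ≠ f := fun e => hf1 (hfix f hf.1 (mul_inv_eq_iff_eq_mul.1 e).symm)
  have hf11 : f1 ≠ 1 := fun e => hf1 (conj_eq_one_iff.1 e)
  have hf1move : f1 * (xb * f1 * xb) = f := by
    by_cases h : f1 * (xb * f1 * xb) = 1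
    · refine absurd (huniq f1 hf1Z.1 f hf.1 hf11 hf1 ?_ hff) hf1ne
      have := eq_inv_of_mul_eq_one_right h
      rwa [inv_eq_of_mul_eq_one_right hf1Z.2.1] at this
    · exact huniq _ (mul_mem hf1Z.1 (hZx f1 hf1Z).1) f hf.1 h hf1 (hZfix f1 hf1Z) hff
  have hZ4 : ∀ v ∈ Z1, v = 1 ∨ v = f ∨ v = f1 ∨ v = f1 * f := by
    intro v hv
    by_cases h1 : v = 1
    · exact Or.inl h1
    by_cases h : v * (xb * v * xb) = 1
    · refine Or.inr (Or.inl (huniq v hv.1 f hf.1 h1 hf1 ?_ hff))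
      have := eq_inv_of_mul_eq_one_right h
      rwa [inv_eq_of_mul_eq_one_right hv.2.1] at this
    have hvf := huniq _ (mul_mem hv.1 (hZx v hv).1) f hf.1 h hf1 (hZfix v hv) hff
    set v' := f1 * v with hv'def
    have hv' : v' ∈ Z1 := mul_mem hf1Z hv
    have hfixv : xb * v' * xb = v' := by
      have e1 : xb * f1 * xb = f1 * f := by
        calc xb * f1 * xb = f1 * f1 * (xb * f1 * xb) := by rw [hf1Z.2.1, one_mul]
          _ = f1 * f := by rw [mul_assoc f1 f1, hf1move]
      have e2 : xb * v * xb = v * f := by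
        calc xb * v * xb = v * v * (xb * v * xb) := by rw [hv.2.1, one_mul]
          _ = v * f := by rw [mul_assoc v v, hvf]
      calc xb * v' * xb = (xb * f1 * xb) * (xb * v * xb) := by
            rw [show xb * f1 * xb * (xb * v * xb) = xb * f1 * (xb * xb) * v * xb by group, hxb, mul_one, hv'def]
            group
        _ = f1 * v * (f * f) := by
          rw [e1, e2, (show Commute f v from hf.2.2 v hv.1).mul_mul_mul_comm]
        _ = v' := by rw [hf.2.1, mul_one]
    by_cases h' : v' = 1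
    · refine Or.inr (Or.inr (Or.inl ?_))
      rw [← inv_eq_of_mul_eq_one_right h', inv_eq_of_mul_eq_one_right hf1Z.2.1]
    · have := huniq v' hv'.1 f hf.1 h' hf1 hfixv hff
      refine Or.inr (Or.inr (Or.inr ?_))
      rw [← this, hv'def, ← mul_assoc, hf1Z.2.1, one_mul]
  have hVZ : ∀ v ∈ V, v ∈ Z1 := by
    by_contra hne
    push Not at hne
    obtain ⟨c0, hc0, hc0Z⟩ := hne
    set ZV : Subgroup V := Z1.subgroupOf V
    haveI : ZV.Normal := ⟨fun n hn g => by
      show (g : cbar z) * n * (g : cbar z)⁻¹ ∈ Z1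
      rw [← ((show (n : cbar z) ∈ Z1 from hn).2.2 g g.2).eq, mul_inv_cancel_right]
      exact hn⟩
    have hxV : ∀ v ∈ V, xb * v * xb ∈ V := fun v hv => by
      have := hVn ⟨x, hxC⟩ v hv
      change xb * v * xb⁻¹ ∈ V at this
      rwa [hxbi] at this
    let θ : V →* V :=
      { toFun := fun v => ⟨xb * v * xb, hxV v v.2⟩
        map_one' := Subtype.ext (by simp [hxb])
        map_mul' := fun p q => Subtype.ext (by
          show xb * (p * q : cbar z) * xb = xb * p * xb * (xb * q * xb)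
          rw [show xb * (p : cbar z) * xb * (xb * q * xb) = xb * p * (xb * xb) * q * xb by group, hxb, mul_one]
          group) }
    let σ := QuotientGroup.map ZV ZV θ fun v hv => hZx v hv
    have hσ : ∀ y, σ (σ y) = y := fun y => QuotientGroup.induction_on y fun v => by
      show ((θ (θ v) : V) : V ⧸ ZV) = (v : V ⧸ ZV)
      congr 1
      refine Subtype.ext ?_
      show xb * (xb * v * xb) * xb = v
      rw [show xb * (xb * v * xb) * xb = (xb * xb) * v * (xb * xb) by group, hxb, one_mul, mul_one]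
    haveI : Fintype (V ⧸ ZV) := Fintype.ofFinite _
    obtain ⟨n, hn, hcard⟩ : ∃ n, 0 < n ∧ Nat.card (V ⧸ ZV) = 2 ^ n := by
      haveI : Nontrivial (V ⧸ ZV) := ⟨⟨(⟨c0, hc0⟩ : V), 1, fun e => hc0Z ((QuotientGroup.eq_one_iff (⟨c0, hc0⟩ : V)).1 e)⟩⟩
      exact (hV2.to_quotient ZV).nontrivial_iff_card.1 this
    let e : Equiv.Perm (V ⧸ ZV) := ⟨σ, σ, hσ, hσ⟩
    obtain ⟨y, hy, hy1⟩ := Equiv.Perm.exists_fixed_point_of_prime' (p := 2) (n := 1)
      (by rw [← Nat.card_eq_fintype_card, hcard]; exact dvd_pow_self 2 hn.ne') (σ := e)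
      (Equiv.ext fun y => by simp only [pow_one, pow_two]; exact hσ y) (a := 1) (map_one σ)
    induction y using QuotientGroup.induction_on with | _ c => ?_
    have he : (c : cbar z)⁻¹ * (xb * c * xb) ∈ Z1 := by
      have h : ((θ c : V) : V ⧸ ZV) = (c : V ⧸ ZV) := hy
      have h2 := QuotientGroup.eq.1 h.symm
      exact h2
    have hcZ : (c : cbar z) ∉ Z1 := fun h => hy1 ((QuotientGroup.eq_one_iff c).2 h)
    set e' := (c : cbar z)⁻¹ * (xb * c * xb)
    have hc1 : ∀ v ∈ V, xb * v * xb = v → v ∈ Z1 := fun v hv h => by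
      by_cases h1 : v = 1
      · exact h1 ▸ one_mem _
      · exact huniq v hv f hf.1 h1 hf1 h hff ▸ hf
    have hee : xb * e' * xb = e' := by
      calc xb * e' * xb = xb * (c : cbar z)⁻¹ * xb * c * (xb * xb) := by simp only [e']; group
        _ = (xb * c * xb)⁻¹ * c := by
          rw [hxb, mul_one, mul_inv_rev, mul_inv_rev, hxbi, mul_assoc (xb * _) xb]
          group
        _ = e'⁻¹ := by simp only [e']; group
        _ = e' := inv_eq_of_mul_eq_one_right he.2.1
    have hxc : xb * c * xb = c * e' := by simp only [e']; group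
    by_cases he1 : e' = 1
    · exact hcZ (hc1 c c.2 (by rw [hxc, he1, mul_one]))
    have hef : e' = f := huniq _ he.1 f hf.1 he1 hf1 hee hff
    have hc' : xb * ((c : cbar z) * f1) * xb = c * f1 := by
      calc xb * ((c : cbar z) * f1) * xb = (xb * c * xb) * (xb * f1 * xb) := by
            rw [show xb * (c : cbar z) * xb * (xb * f1 * xb) = xb * c * (xb * xb) * f1 * xb by group, hxb, mul_one]
            group
        _ = c * (f * (xb * f1 * xb)) := by rw [hxc, hef, mul_assoc]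
        _ = c * f1 := by
          have : xb * f1 * xb = f1 * f := by
            calc xb * f1 * xb = f1 * f1 * (xb * f1 * xb) := by rw [hf1Z.2.1, one_mul]
              _ = f1 * f := by rw [mul_assoc f1 f1, hf1move]
          rw [this, (hf1Z.2.2 f hf.1).eq, ← mul_assoc f, hf.2.1, one_mul]
    have hcZ' := hc1 _ (mul_mem c.2 hf1Z.1) hc'
    have := mul_mem hcZ' (inv_mem hf1Z)
    rw [mul_inv_cancel_right] at this
    exact hcZ this
  -- `T` is elementary abelian
  set ac : cen z := ⟨a, N.hTC ha⟩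
  set wc : cen z := ⟨w, H.w_cen⟩
  set va := proj z ac
  have hva : va ∈ Z1 := hVZ _ ⟨ac, ha, rfl⟩
  have hva1 : va ≠ 1 := fun e => by
    rcases (proj_one H.hz).1 e with h | h
    · exact ne_one_of_two ha2 h
    · exact haz h
  have hel : ∀ y ∈ T, y * y = 1 := by
    intro y hy
    have hyZ : proj z ⟨y, N.hTC hy⟩ ∈ Z1 := hVZ _ ⟨⟨y, N.hTC hy⟩, hy, rfl⟩
    have hcover : ∀ v ∈ Z1, v = 1 ∨ v = va ∨ v = proj z (wc * ac * wc⁻¹) ∨ v = proj z (wc * wc * ac * (wc * wc)⁻¹) := by
      intro v hv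
      set v1 := proj z (wc * ac * wc⁻¹)
      set v2 := proj z (wc * wc * ac * (wc * wc)⁻¹)
      have e1 : v1 = wb * va * wb⁻¹ := by simp only [v1, va, map_mul, map_inv]; rfl
      have e2 : v2 = wb * v1 * wb⁻¹ := by simp only [v1, v2, wb, wc, map_mul, map_inv]; group
      have hv1Z : v1 ∈ Z1 := e1 ▸ hZn ⟨w, H.w_cen⟩ _ hva
      have hv2Z : v2 ∈ Z1 := e2 ▸ hZn ⟨w, H.w_cen⟩ _ hv1Z
      have h1 : v1 ≠ va := fun e => hva1 (hfix va hva.1 (mul_inv_eq_iff_eq_mul.1 (e1.symm.trans e)).symm)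
      have h11 : v1 ≠ 1 := fun e => hva1 (conj_eq_one_iff.1 (e1.symm.trans e))
      have h21 : v2 ≠ 1 := fun e => h11 (conj_eq_one_iff.1 (e2.symm.trans e))
      have h2 : v2 ≠ v1 := fun e => h11 (hfix v1 hv1Z.1 (mul_inv_eq_iff_eq_mul.1 (e2.symm.trans e)).symm)
      have h2a : v2 ≠ va := by
        intro e
        refine hva1 (hfix va hva.1 ?_)
        have hwb3 : wb ^ 3 = 1 := H.orderOf_wbar ▸ pow_orderOf_eq_one wb
        have hcc : Commute va (wb * wb) := by
          refine (mul_inv_eq_iff_eq_mul.1 ?_).symm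
          calc wb * wb * va * (wb * wb)⁻¹ = wb * (wb * va * wb⁻¹) * wb⁻¹ := by group
            _ = va := by rw [← e1, ← e2, e]
        have h4 := hcc.mul_right hcc
        rwa [show wb * wb * (wb * wb) = wb by rw [mul_assoc, ← pow_three, hwb3, mul_one]] at h4
      rcases hZ4 v hv with h | h | h | h
      · exact Or.inl h
      all_goals
        rcases hZ4 va hva with a0 | a0 | a0 | a0 <;> rcases hZ4 v1 hv1Z with b0 | b0 | b0 | b0 <;>
          rcases hZ4 v2 hv2Z with c0 | c0 | c0 | c0 <;>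
          first
          | exact absurd a0 hva1
          | exact absurd b0 h11
          | exact absurd c0 h21
          | exact absurd (b0.trans a0.symm) h1
          | exact absurd (c0.trans b0.symm) h2
          | exact absurd (c0.trans a0.symm) h2a
          | exact Or.inr (Or.inl (h.trans a0.symm))
          | exact Or.inr (Or.inr (Or.inl (h.trans b0.symm)))
          | exact Or.inr (Or.inr (Or.inr (h.trans c0.symm)))
    have hsq : ∀ c : cen z, (c : G) * c = 1 → proj z c = proj z ⟨y, N.hTC hy⟩ → y * y = 1 := by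
      intro c hcc e
      rcases proj_eq H.hz e with h | h <;> simp only at h
      · rw [h, hcc]
      · rw [h, ((mem_cen.1 c.2).symm).mul_mul_mul_comm, hcc, mul_self_of_two H.hz, one_mul]
    have hconj : ∀ c : G, c * a * c⁻¹ * (c * a * c⁻¹) = 1 := fun c => by
      rw [show c * a * c⁻¹ * (c * a * c⁻¹) = c * (a * a) * c⁻¹ by group, mul_self_of_two ha2]; group
    rcases hcover _ hyZ with h | h | h | h
    · exact hsq 1 (by simp) (by rw [map_one, h])
    · exact hsq ac (mul_self_of_two ha2) h.symm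
    · exact hsq _ (hconj w) h.symm
    · exact hsq _ (hconj (w * w)) h.symm
  have hTab : ∀ p ∈ T, ∀ q ∈ T, Commute p q := fun p hp q hq => by
    show p * q = q * p
    calc p * q = (p * q)⁻¹ := eq_inv_of_mul_eq_one_left (hel _ (mul_mem hp hq))
      _ = q * p := by rw [mul_inv_rev, inv_eq_of_mul_eq_one_right (hel p hp), inv_eq_of_mul_eq_one_right (hel q hq)]
  -- the norm to the fixed points of `w`
  obtain ⟨f0, hf0⟩ := QuotientGroup.mk'_surjective _ f
  obtain ⟨hyT, hy⟩ := hlift f hf.1 hf1 f0 hf0 hff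
  set y := (f0 : G)
  have hwT : ∀ t ∈ T, w * t * w⁻¹ ∈ T := N.wT
  have hwT' : ∀ t ∈ T, w⁻¹ * t * w ∈ T := fun t ht => by
    have := N.normT w⁻¹ (inv_mem H.w_cen) t ht
    rwa [inv_inv] at this
  have hxw : ∀ t ∈ T, w * (x * t * x) * w⁻¹ = x * (w⁻¹ * t * w) * x := by
    intro t ht
    set p := x * s⁻¹
    have hxe : x = p * s := by simp only [p]; group
    have hsw : s⁻¹ * w * s = w⁻¹ := by
      have h : s⁻¹ * (s * w * s⁻¹) * s = s⁻¹ * w⁻¹ * s := by rw [hs.2.1]
      rw [show s⁻¹ * (s * w * s⁻¹) * s = w by group] at h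
      calc s⁻¹ * w * s = (s⁻¹ * w⁻¹ * s)⁻¹ := by group
        _ = w⁻¹ := by rw [← h]
    have hst : s * t * s⁻¹ ∈ T := N.normT s (mem_cen.2 hs.1) t ht
    have e1 : x * t * x = s * t * s⁻¹ := by
      calc x * t * x = x * t * x⁻¹ := by rw [hxi]
        _ = p * (s * t * s⁻¹) * p⁻¹ := by rw [hxe]; group
        _ = _ := by rw [(hTab p hxs _ hst).eq, mul_inv_cancel_right]
    have e2 : x * (w⁻¹ * t * w) * x = s * (w⁻¹ * t * w) * s⁻¹ := by
      calc x * (w⁻¹ * t * w) * x = x * (w⁻¹ * t * w) * x⁻¹ := by rw [hxi]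
        _ = p * (s * (w⁻¹ * t * w) * s⁻¹) * p⁻¹ := by rw [hxe]; group
        _ = _ := by
          rw [(hTab p hxs _ (N.normT s (mem_cen.2 hs.1) _ (hwT' t ht))).eq, mul_inv_cancel_right]
    rw [e1, e2]
    calc w * (s * t * s⁻¹) * w⁻¹ = s * ((s⁻¹ * w * s) * t * (s⁻¹ * w * s)⁻¹) * s⁻¹ := by group
      _ = s * (w⁻¹ * t * w) * s⁻¹ := by rw [hsw, inv_inv]
  have hxT' : ∀ t ∈ T, x * t * x ∈ T := fun t ht => by
    have := N.normT x hxC t ht
    rwa [hxi] at this
  set φ : G → G := fun t => t * (w * t * w⁻¹) * (w⁻¹ * t * w)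
  have hw3 : w * w = w⁻¹ := eq_inv_of_mul_eq_one_left (by
    rw [mul_assoc, ← pow_three]; exact H.hw ▸ pow_orderOf_eq_one w)
  have hφw : Commute (φ y) w := by
    refine (mul_inv_eq_iff_eq_mul.1 ?_).symm
    calc w * φ y * w⁻¹ = (w * y * w⁻¹) * ((w * w) * y * (w * w)⁻¹) * y := by simp only [φ]; group
      _ = y * ((w * y * w⁻¹) * (w⁻¹ * y * w)) := by
        rw [hw3, inv_inv, (hTab _ (mul_mem (hwT y hyT) (hwT' y hyT)) y hyT).eq]
      _ = φ y := by simp only [φ]; group
  have hφT : φ y ∈ T := mul_mem (mul_mem hyT (hwT y hyT)) (hwT' y hyT)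
  have hφx : x * φ y * x = φ y := by
    have hc : Commute (φ y) x := by
      rcases N.T_zero hφT hφw with e | e <;> rw [e]
      · exact Commute.one_left x
      · exact (mem_cen.1 hxC).symm
    rw [← hc.eq, mul_assoc, hx, mul_one]
  have key : φ (x * y * x) = x * φ y * x := by
    have h1 := hxw y hyT
    have h2 : w⁻¹ * (x * y * x) * w = x * (w * y * w⁻¹) * x := by
      have h := hxw (w * y * w⁻¹) (hwT y hyT)
      rw [show w⁻¹ * (w * y * w⁻¹) * w = y by group] at h
      calc w⁻¹ * (x * y * x) * w = w⁻¹ * (w * (x * (w * y * w⁻¹) * x) * w⁻¹) * w := by rw [h]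
        _ = _ := by group
    show x * y * x * (w * (x * y * x) * w⁻¹) * (w⁻¹ * (x * y * x) * w) = _
    rw [h1, h2]
    calc x * y * x * (x * (w⁻¹ * y * w) * x) * (x * (w * y * w⁻¹) * x)
        = x * (y * (x * x) * (w⁻¹ * y * w) * (x * x) * (w * y * w⁻¹)) * x := by group
      _ = x * φ y * x := by
        rw [hx, mul_one, mul_one, mul_assoc y, (hTab _ (hwT' y hyT) _ (hwT y hyT)).eq, ← mul_assoc y]
  rw [hφx, hy] at key
  have hzc : ∀ t ∈ T, Commute z t := fun t ht => (mem_cen.1 (N.hTC ht)).symm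
  have e1 : w * (y * z) * w⁻¹ = w * y * w⁻¹ * z := by
    calc w * (y * z) * w⁻¹ = w * y * (z * w⁻¹) := by group
      _ = _ := by rw [H.hzw.inv_right.eq]; group
  have e2 : w⁻¹ * (y * z) * w = w⁻¹ * y * w * z := by
    calc w⁻¹ * (y * z) * w = w⁻¹ * y * (z * w) := by group
      _ = _ := by rw [H.hzw.eq]; group
  have hfinal : φ (y * z) = φ y * z := by
    show y * z * (w * (y * z) * w⁻¹) * (w⁻¹ * (y * z) * w) = _
    rw [e1, e2]
    have c1 := hzc _ (hwT y hyT)
    have c2 := hzc _ (hwT' y hyT)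
    calc y * z * (w * y * w⁻¹ * z) * (w⁻¹ * y * w * z)
        = y * (z * (w * y * w⁻¹)) * (z * (w⁻¹ * y * w)) * z := by group
      _ = y * (w * y * w⁻¹) * (z * z) * (w⁻¹ * y * w) * z := by rw [c1.eq]; group
      _ = φ y * z := by rw [mul_self_of_two H.hz, mul_one]
  rw [hfinal] at key
  exact ne_one_of_two H.hz (mul_eq_left.1 key)

end CfsgLib.SelfSix
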