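import Cfsg.Agent.Lib.SelfSix.NilBasic
import Cfsg.Agent.Lib.SelfSix.Eight
import Cfsg.Agent.Lib.JTType.PSLTwo
import Cfsg.Agent.Lib.FrobAction.Order
import Cfsg.Agent.Lib.TIHall.Basic
import Cfsg.Agent.S3331

/-!
A local subgroup containing the centraliser properly and having `z` in its 2-core.
-/

set_option autoImplicit false
set_option linter.unusedSectionVars false
set_option linter.style.haveILetI false

namespace CfsgLib.SelfSix

open Cfsg

universe u

variable {G : Type u} [Group G] {z w : G} {T D : Subgroup G}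

theorem five_inverted : ∀ a : alternatingGroup (Fin 5), a ^ 3 = 1 → ∃ c : alternatingGroup (Fin 5), c * a * c⁻¹ = a⁻¹ := by
  decide +kernel

theorem perm_three_inverted : ∀ a : Equiv.Perm (Fin 3), a ^ 3 = 1 → ∃ c : Equiv.Perm (Fin 3), c * a * c⁻¹ = a⁻¹ := by
  decide +kernel

/-- An element of order three in `SL(2,7)`. -/
def sevenA : Matrix.SpecialLinearGroup (Fin 2) (ZMod 7) := ⟨!![2, 0; 0, 4], by decide +kernel⟩

/-- An element of `SL(2,7)` inverting `sevenA`. -/
def sevenB : Matrix.SpecialLinearGroup (Fin 2) (ZMod 7) := ⟨!![0, 1; -1, 0], by decide +kernel⟩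

theorem sevenBA : sevenB * sevenA * sevenB⁻¹ = sevenA⁻¹ := by decide +kernel

theorem sevenA_three : sevenA ^ 3 = 1 := by decide +kernel

theorem sevenA_ne : sevenA.1 ≠ 1 ∧ sevenA.1 ≠ -1 := by decide +kernel

theorem card_psl_seven {K : Type u} [Group K] [Finite K]
    (e : K ≃* Matrix.ProjectiveSpecialLinearGroup (Fin 2) (ZMod 7)) : Nat.card K = 168 := by
  haveI : Fact (Nat.Prime 7) := ⟨by norm_num⟩
  rw [Nat.card_congr e.toEquiv]
  have h := CfsgLib.DicksonFull.card_psl (F := ZMod 7)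
  rw [ZMod.card, show Nat.gcd 2 (7 - 1) = 2 from rfl] at h
  omega

/-- In `PSL(2,7)` elements of order three are inverted. -/
theorem seven_inverted {K : Type u} [Group K] [Finite K]
    (e : K ≃* Matrix.ProjectiveSpecialLinearGroup (Fin 2) (ZMod 7)) {a : K} (ha : orderOf a = 3) :
    ∃ c : K, c * a * c⁻¹ = a⁻¹ := by
  haveI : Fact (Nat.Prime 7) := ⟨by norm_num⟩
  haveI : Fact (Nat.Prime 3) := ⟨Nat.prime_three⟩
  set a0 := e.symm (CfsgLib.PSL2.mk sevenA)
  set c0 := e.symm (CfsgLib.PSL2.mk sevenB)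
  have h0 : c0 * a0 * c0⁻¹ = a0⁻¹ := by
    simp only [a0, c0, ← map_inv, ← map_mul, sevenBA]
  have ha0 : orderOf a0 = 3 := by
    rw [MulEquiv.orderOf_eq]
    refine orderOf_eq_prime (by rw [← map_pow, sevenA_three, map_one]) fun h => ?_
    rw [← map_one (CfsgLib.PSL2.mk (F := ZMod 7))] at h
    rcases CfsgLib.PSL2.mk_eq_mk.1 h with e' | e' <;> rw [Matrix.SpecialLinearGroup.coe_one] at e'
    · exact sevenA_ne.1 e'.symm
    · exact sevenA_ne.2 (by rw [e', neg_neg])
  have hcard := card_psl_seven e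
  have hsyl : ∀ x : K, orderOf x = 3 → ∃ P : Sylow 3 K, (P : Subgroup K) = Subgroup.zpowers x := fun x hx => by
    obtain ⟨P, hP⟩ := (isPGroup_zp hx).exists_le_sylow
    refine ⟨P, (Subgroup.eq_of_le_of_card_ge hP ?_).symm⟩
    obtain ⟨n, hn⟩ := P.2.exists_card_eq
    have hd := Subgroup.card_subgroup_dvd_card (P : Subgroup K)
    rw [hn, hcard] at hd
    rw [hn, Nat.card_zpowers, hx]
    rcases n with _ | _ | n
    · norm_num
    · norm_num
    · exfalso
      have h9 := ((pow_dvd_pow 3 (show 2 ≤ n + 1 + 1 by omega))).trans hd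
      norm_num at h9
  obtain ⟨P, hP⟩ := hsyl a ha
  obtain ⟨Q, hQ⟩ := hsyl a0 ha0
  obtain ⟨k, hk⟩ := MulAction.exists_smul_eq K P Q
  have hm : k * a * k⁻¹ ∈ Subgroup.zpowers a0 := by
    rw [← hQ, ← hk, Sylow.coe_subgroup_smul, Subgroup.mem_pointwise_smul_iff_inv_smul_mem, hP]
    simp [MulAut.smul_def, mul_assoc]
  obtain ⟨i, hi⟩ := Subgroup.mem_zpowers_iff.1 hm
  refine ⟨k⁻¹ * c0 * k, ?_⟩
  calc k⁻¹ * c0 * k * a * (k⁻¹ * c0 * k)⁻¹ = k⁻¹ * (c0 * (k * a * k⁻¹) * c0⁻¹) * k := by group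
    _ = k⁻¹ * (k * a * k⁻¹)⁻¹ * k := by rw [← hi, ← conj_zpow, h0, inv_zpow]
    _ = a⁻¹ := by group

namespace Nil

variable (N : Nil G z w T D) [Finite G]
include N

theorem cop_eq_one (hD : D = ⊥) {x : G} (hx : x ∈ cen z) (h6 : (orderOf x).Coprime 6) : x = 1 :=
  Subgroup.mem_bot.1 (hD ▸ N.mem_D hx h6)

/-- Elements of the centraliser of order prime to three are 2-elements. -/
theorem two_of_not_three (hD : D = ⊥) {x : G} (hx : x ∈ cen z) (h3 : ¬ 3 ∣ orderOf x) :
    ∃ k, x ^ 2 ^ k = 1 := by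
  obtain ⟨e, m, hm, he⟩ := Nat.exists_eq_pow_mul_and_not_dvd (orderOf_pos x).ne' 2 (by norm_num)
  refine ⟨e, N.cop_eq_one hD (pow_mem hx _) ?_⟩
  have ho : orderOf (x ^ 2 ^ e) = m := by
    rw [orderOf_pow_of_dvd (pow_ne_zero _ (by norm_num)) (he ▸ dvd_mul_right _ _), he]
    exact Nat.mul_div_cancel_left _ (by positivity)
  rw [ho, show (6 : ℕ) = 2 * 3 from rfl]
  exact Nat.Coprime.mul_right ((Nat.Prime.coprime_iff_not_dvd Nat.prime_two).2 hm).symm
    ((Nat.Prime.coprime_iff_not_dvd Nat.prime_three).2 fun h => h3 (he ▸ h.mul_left _)).symm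

/-- An element inverting `w` in the centraliser doubles `T`. -/
theorem card_sylow_of_inverting (hD : D = ⊥) {x : G} (hx : x ∈ cen z) (hxw : x * w * x⁻¹ = w⁻¹) :
    ∀ S : Sylow 2 G, Nat.card (S : Subgroup G) = 2 * Nat.card T := by
  haveI : Fact (Nat.Prime 2) := ⟨Nat.prime_two⟩
  intro S'
  rw [Sylow.card_eq_multiplicity]
  rcases N.top with h | ⟨s, hs, hsT, -⟩
  · exfalso
    obtain ⟨t, ht, d, hd, i, e⟩ := h x hx
    rw [hD, Subgroup.mem_bot] at hd
    rw [hd, mul_one] at e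
    have h1 : t * w * t⁻¹ = w⁻¹ := by
      rw [← hxw, e]; group
    have h2 : t * (w * t⁻¹ * w⁻¹) ∈ T := mul_mem ht (N.wT _ (inv_mem ht))
    have h3 : w⁻¹ * w⁻¹ = w := by
      rw [← mul_inv_rev, inv_eq_iff_mul_eq_one, ← pow_three', show w ^ 3 = 1 from N.base.hw ▸ pow_orderOf_eq_one w]
    rw [show t * (w * t⁻¹ * w⁻¹) = (t * w * t⁻¹) * w⁻¹ by group, h1, h3] at h2
    obtain ⟨k, hk⟩ := N.hT ⟨w, h2⟩
    have := orderOf_dvd_of_pow_eq_one (congrArg Subtype.val hk : w ^ 2 ^ k = 1)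
    rw [N.base.hw] at this
    exact absurd (Nat.prime_three.dvd_of_dvd_pow this) (by norm_num)
  · obtain ⟨S, hTS, -, hS⟩ := N.exists_sylow_T
    rw [← Sylow.card_eq_multiplicity S]
    rcases hS with hS | ⟨s', -, hs', hS⟩
    · exfalso
      obtain ⟨P, hP, hP2, -⟩ := N.exists_Ts hs
      obtain ⟨R, hR⟩ := hP2.exists_le_sylow
      have hc : Nat.card P ≤ Nat.card T := by
        refine (Subgroup.card_le_of_le hR).trans (le_of_eq ?_)
        rw [Sylow.card_eq_multiplicity R, ← Sylow.card_eq_multiplicity S,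
          show (S : Subgroup G) = T from Subgroup.ext hS]
      have hTP : T ≤ P := fun g hg => (hP g).2 (Or.inl hg)
      exact hsT ((Subgroup.eq_of_le_of_card_ge hTP hc).symm ▸ (hP s).2 (Or.inr (by rw [mul_inv_cancel]; exact one_mem _)))
    · have hidx : (T.subgroupOf (S : Subgroup G)).index = 2 := by
        have hs'S : s' ∈ (S : Subgroup G) := (hS s').2 (Or.inr (by rw [mul_inv_cancel]; exact one_mem _))
        refine Subgroup.index_eq_two_iff.2 ⟨⟨s', hs'S⟩⁻¹, fun b => ?_⟩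
        rcases (hS b).1 b.2 with hb | hb
        · refine Or.inr ⟨hb, fun h => hs' ?_⟩
          have h2 := mul_mem (inv_mem (show (b : G) * s'⁻¹ ∈ T from h)) hb
          rwa [mul_inv_rev, inv_inv, inv_mul_cancel_right] at h2
        · refine Or.inl ⟨hb, fun h => hs' ?_⟩
          have h2 := mul_mem (inv_mem hb) (show (b : G) ∈ T from h)
          rwa [mul_inv_rev, inv_inv, inv_mul_cancel_right] at h2
      rw [← Subgroup.card_mul_index (T.subgroupOf (S : Subgroup G)), hidx,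
        Nat.card_congr (Subgroup.subgroupOfEquivOfLe hTS).toEquiv, mul_comm]

end Nil

/-- A local subgroup `M` over the centraliser, with 2-core `Q`. -/
structure Local (G : Type u) [Group G] (z w : G) (T D M Q : Subgroup G) : Prop where
  nil : Nil G z w T D
  bot : D = ⊥
  hCM : cen z ≤ M
  hMC : ¬ M ≤ cen z
  hQM : Q ≤ M
  hQT : Q ≤ T
  hzQ : z ∈ Q
  hQn : ∀ g ∈ M, ∀ q ∈ Q, g * q * g⁻¹ ∈ Q
  max : ∀ R : Subgroup M, R.Normal → IsPGroup 2 R → R ≤ Q.subgroupOf M

namespace Local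

variable {M Q : Subgroup G} (L : Local G z w T D M Q) [Finite G]
include L

theorem w_mem : w ∈ M := L.hCM L.nil.base.w_cen

theorem hQC : Q ≤ cen z := L.hQT.trans L.nil.hTC

theorem hQ2 : IsPGroup 2 Q := L.nil.hT.to_le L.hQT

theorem not_three : ¬ 3 ∣ Nat.card Q := fun h => by
  haveI : Fact (Nat.Prime 2) := ⟨Nat.prime_two⟩
  obtain ⟨n, hn⟩ := L.hQ2.exists_card_eq
  rw [hn] at h
  exact absurd (Nat.prime_three.dvd_of_dvd_pow h) (by norm_num)

theorem normal : (Q.subgroupOf M).Normal := ⟨fun q hq g => L.hQn g g.2 q hq⟩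

theorem cen_w {g : G} (hg : g ∈ M) (hc : Commute g w) : g ∈ cen z := by
  have hc' : Commute (g * z * g⁻¹) w := by
    have h := commute_conj g L.nil.base.hzw
    rwa [hc.eq, mul_inv_cancel_right] at h
  rcases L.nil.T_zero (L.hQT (L.hQn g hg z L.hzQ)) hc' with e | e
  · exact absurd (conj_eq_one_iff.1 e) (ne_one_of_two L.nil.base.hz)
  · exact mem_cen.2 (mul_inv_eq_iff_eq_mul.1 e)

theorem lift_cent {g : G} (hg : g ∈ M) (hgw : g * w * g⁻¹ * w⁻¹ ∈ Q) :
    ∃ n ∈ Q, Commute (g * n) w ∧ g * n ∈ cen z ∧ g ∈ cen z := by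
  have hw3 : w ^ 3 = 1 := L.nil.base.hw ▸ pow_orderOf_eq_one w
  have hstab : ∀ n : Q, g⁻¹ * (w * (g * (n : G)) * w⁻¹) ∈ Q := by
    intro n
    have e : g⁻¹ * (w * (g * (n : G)) * w⁻¹) = (g⁻¹ * (g * w * g⁻¹ * w⁻¹)⁻¹ * g⁻¹⁻¹) * (w * n * w⁻¹) := by group
    rw [e]
    exact mul_mem (L.hQn _ (inv_mem hg) _ (inv_mem hgw)) (L.hQn w L.w_mem n n.2)
  obtain ⟨n, hn⟩ := CfsgLib.FpfSymThree.exists_fixed_three
    (fun n : Q => (⟨_, hstab n⟩ : Q)) (fun n => Subtype.ext (by
      show g⁻¹ * (w * (g * (g⁻¹ * (w * (g * (g⁻¹ * (w * (g * (n : G)) * w⁻¹))) * w⁻¹))) * w⁻¹) = n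
      calc _ = g⁻¹ * ((w * w * w) * (g * (n : G)) * (w * w * w)⁻¹) := by group
        _ = n := by rw [← pow_three', hw3]; group)) L.not_three
  have hfix : Commute (g * (n : G)) w := by
    have h : w * (g * (n : G)) * w⁻¹ = g * n := inv_mul_eq_iff_eq_mul.1 (congrArg Subtype.val hn)
    exact (mul_inv_eq_iff_eq_mul.1 h).symm
  have h1 := L.cen_w (mul_mem hg (L.hQM n.2)) hfix
  exact ⟨n, n.2, hfix, h1, (mul_mem_cancel_right (L.hQC n.2)).1 h1⟩

theorem lift_inv {g : G} (hg : g ∈ M) (hgw : g * w * g⁻¹ * w ∈ Q) :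
    g ∈ cen z ∧ ∃ x ∈ cen z, x * w * x⁻¹ = w⁻¹ := by
  have hw3 : w ^ 3 = 1 := L.nil.base.hw ▸ pow_orderOf_eq_one w
  have hstab : ∀ n : Q, g⁻¹ * (w * (g * (n : G)) * w) ∈ Q := by
    intro n
    have e : g⁻¹ * (w * (g * (n : G)) * w) =
        (g⁻¹ * (w * (g * w * g⁻¹ * w) * w⁻¹) * g⁻¹⁻¹) * (w⁻¹ * n * w) := by group
    rw [e]
    refine mul_mem (L.hQn _ (inv_mem hg) _ (L.hQn w L.w_mem _ hgw)) ?_
    have := L.hQn w⁻¹ (inv_mem L.w_mem) n n.2
    rwa [inv_inv] at this
  have hφ : ∀ x : G, w * (w * (w * x * w) * w) * w = x := fun x => by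
    rw [show w * (w * (w * x * w) * w) * w = w * (w * w) * x * (w * (w * w)) by group, ← pow_three, hw3,
      one_mul, mul_one]
  obtain ⟨n, hn⟩ := CfsgLib.FpfSymThree.exists_fixed_three
    (fun n : Q => (⟨_, hstab n⟩ : Q)) (fun n => Subtype.ext (by
      show g⁻¹ * (w * (g * (g⁻¹ * (w * (g * (g⁻¹ * (w * (g * (n : G)) * w))) * w))) * w) = n
      rw [mul_inv_cancel_left, mul_inv_cancel_left, hφ, inv_mul_cancel_left])) L.not_three
  set x := g * (n : G)
  have hfix : w * x * w = x := inv_mul_eq_iff_eq_mul.1 (congrArg Subtype.val hn)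
  have hxw : x * w * x⁻¹ = w⁻¹ := by
    rw [mul_inv_eq_iff_eq_mul]
    calc x * w = w⁻¹ * (w * x * w) := by group
      _ = w⁻¹ * x := by rw [hfix]
  have hxM : x ∈ M := mul_mem hg (L.hQM n.2)
  have hxC : x ∈ cen z := by
    have hc : Commute (x * z * x⁻¹) w := by
      have h := commute_conj x L.nil.base.hzw
      rw [hxw] at h
      simpa using h.inv_right
    rcases L.nil.T_zero (L.hQT (L.hQn x hxM z L.hzQ)) hc with e | e
    · exact absurd (conj_eq_one_iff.1 e) (ne_one_of_two L.nil.base.hz)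
    · exact mem_cen.2 (mul_inv_eq_iff_eq_mul.1 e)
  exact ⟨(mul_mem_cancel_right (L.hQC n.2)).1 hxC, x, hxC, hxw⟩

/-- The core is self-centralising. -/
theorem centralizer_le {g : G} (hg : g ∈ M) (hgQ : ∀ q ∈ Q, Commute g q) : g ∈ Q := by
  haveI : Fact (Nat.Prime 3) := ⟨Nat.prime_three⟩
  have H := L.nil.base
  set X : Subgroup M := (M ⊓ Subgroup.centralizer (Q : Set G)).subgroupOf M with hX
  have hmem : ∀ {x : M}, x ∈ X → ∀ q ∈ Q, Commute (x : G) q := fun hx q hq =>
    (Subgroup.mem_centralizer_iff.1 hx.2 q hq).symm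
  have hXn : X.Normal := ⟨fun x hx g => ⟨(g * x * g⁻¹).2, Subgroup.mem_centralizer_iff.2 fun q hq => by
    have hq' := L.hQn (g : G)⁻¹ (inv_mem g.2) q hq
    rw [inv_inv] at hq'
    have h := commute_conj (g : G) (hmem hx _ hq').symm
    rw [show (g : G) * ((g : G)⁻¹ * q * g) * (g : G)⁻¹ = q by group] at h
    exact h.eq⟩⟩
  have hX3 : ∀ y : M, y ∈ X → orderOf (y : G) ≠ 3 := by
    intro y hy hy3
    refine L.hMC fun g hg => mem_cen.2 (mul_inv_eq_iff_eq_mul.1 ?_)
    have hgz := L.hQn g hg z L.hzQ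
    obtain ⟨k, hk⟩ := L.hQ2 ⟨_, hgz⟩
    rcases H.cent_two' H.hz hy3 ((hmem hy z L.hzQ).symm) (mem_cen.1 (L.hQC hgz))
      ((hmem hy _ hgz).symm) (congrArg Subtype.val hk : (g * z * g⁻¹) ^ 2 ^ k = 1) with e | e
    · exact absurd (conj_eq_one_iff.1 e) (ne_one_of_two H.hz)
    · exact e
  have hX2 : IsPGroup 2 X := by
    intro x
    have hxC : ((x : M) : G) ∈ cen z := mem_cen.2 (hmem x.2 z L.hzQ)
    obtain ⟨k, hk⟩ := L.nil.two_of_not_three L.bot hxC fun h3 => by
      obtain ⟨j, hj⟩ := h3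
      refine hX3 ((x : M) ^ j) (pow_mem x.2 _) ?_
      have hj0 : j ≠ 0 := fun h => (orderOf_pos ((x : M) : G)).ne' (by rw [hj, h, mul_zero])
      rw [SubmonoidClass.coe_pow, orderOf_pow_of_dvd hj0 (hj ▸ dvd_mul_left _ _), hj,
        Nat.mul_div_cancel _ (Nat.pos_of_ne_zero hj0)]
    exact ⟨k, Subtype.ext (Subtype.ext hk)⟩
  exact L.max X hXn hX2 (show (⟨g, hg⟩ : M) ∈ X from
    ⟨hg, Subgroup.mem_centralizer_iff.2 fun q hq => (hgQ q hq).symm.eq⟩)

theorem T_fixed {t : G} (ht : t ∈ T) (h : t * w * t⁻¹ * w⁻¹ ∈ Q) : t ∈ Q := by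
  obtain ⟨n, hn, hc, -, -⟩ := L.lift_cent (L.hCM (L.nil.hTC ht)) h
  refine (mul_mem_cancel_right hn).1 ?_
  rcases L.nil.T_zero (mul_mem ht (L.hQT hn)) hc with e | e <;> rw [e]
  · exact one_mem _
  · exact L.hzQ

/-- An invariant subgroup of order prime to six acts freely on the core. -/
theorem key (U : Subgroup G) (hUM : U ≤ M) (r : ℕ) [Fact r.Prime] (hr : 5 ≤ r) (hU : IsPGroup r U) (hU1 : U ≠ ⊥)
    (hwU : ∀ u ∈ U, w * u * w⁻¹ ∈ U) :
    Nat.card Q = 8 ∧ (∀ q ∈ Q, q * q = 1) ∧ Nat.card U = 7 ∧ r = 7 := by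
  classical
  haveI : Fact (Nat.Prime 2) := ⟨Nat.prime_two⟩
  have H := L.nil.base
  have hrp : r.Prime := Fact.out
  have hw3 : w ^ 3 = 1 := H.hw ▸ pow_orderOf_eq_one w
  obtain ⟨k, hk⟩ := hU.exists_card_eq
  have hcop : ∀ u ∈ U, (orderOf u).Coprime 6 := by
    intro u hu
    refine Nat.Coprime.coprime_dvd_left (Subgroup.orderOf_dvd_natCard U hu) (hk ▸ Nat.Coprime.pow_left k ?_)
    refine (Nat.Prime.coprime_iff_not_dvd hrp).2 fun h => ?_
    have := Nat.le_of_dvd (by norm_num) h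
    interval_cases r <;> first | omega | exact absurd hrp (by norm_num)
  -- no element of `U` centralises an involution
  have hfree : ∀ u ∈ U, ∀ q ∈ Q, Commute u q → u = 1 ∨ q = 1 := by
    intro u hu q hq hc
    by_cases hq1 : q = 1
    · exact Or.inr hq1
    left
    obtain ⟨j, hj⟩ := L.hQ2 ⟨q, hq⟩
    obtain ⟨m, -, hm⟩ := (Nat.dvd_prime_pow Nat.prime_two).1
      (orderOf_dvd_of_pow_eq_one (congrArg Subtype.val hj : q ^ 2 ^ j = 1))
    obtain ⟨n, rfl⟩ : ∃ n, m = n + 1 := ⟨m - 1, by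
      rcases m with _ | m
      · exact absurd (orderOf_eq_one_iff.1 hm) hq1
      · omega⟩
    have ho : orderOf (q ^ 2 ^ n) = 2 := by
      rw [orderOf_pow_of_dvd (pow_ne_zero _ two_ne_zero) (hm ▸ pow_dvd_pow 2 n.le_succ), hm,
        pow_succ, Nat.mul_div_cancel_left _ (by positivity)]
    obtain ⟨g, hg⟩ := H.exists_conj ho
    have hmem : g * u * g⁻¹ ∈ cen z := mem_cen.2 (hg ▸ commute_conj g (hc.pow_right _))
    exact conj_eq_one_iff.1 (L.nil.cop_eq_one L.bot hmem ((orderOf_conj g u).symm ▸ hcop u hu))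
  set E := Subgroup.zpowers w
  haveI : Group.IsNilpotent U := hU.isNilpotent
  haveI hQnil : Group.IsNilpotent Q := L.hQ2.isNilpotent
  have hEU : E ≤ Subgroup.normalizer (U : Set G) := Subgroup.zpowers_le.2 (Subgroup.mem_normalizer_iff.2 fun u =>
    ⟨hwU u, fun h => by
      have := hwU _ (hwU _ h)
      rwa [show w * (w * (w * u * w⁻¹) * w⁻¹) * w⁻¹ = (w * w * w) * u * (w * w * w)⁻¹ by group, ← pow_three', hw3,
        one_mul, inv_one, mul_one] at this⟩)
  have hfw : ∀ u ∈ U, Commute u w → u = 1 := fun u hu hc =>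
    L.nil.cop_eq_one L.bot (L.cen_w (hUM hu) hc) (hcop u hu)
  have hfpf : ∀ e ∈ E, e ≠ 1 → ∀ u ∈ U, e * u = u * e → u = 1 := by
    intro e he he1 u hu hc
    refine hfw u hu ?_
    obtain ⟨i, rfl⟩ := Subgroup.mem_zpowers_iff.1 he
    obtain ⟨a, ha⟩ : ∃ a : ℤ, w = (w ^ i) ^ a := by
      have he3 : orderOf (w ^ i) = 3 := by
        rcases (Nat.dvd_prime Nat.prime_three).1 (H.hw ▸ orderOf_dvd_of_mem_zpowers he) with e | e
        · exact absurd (orderOf_eq_one_iff.1 e) he1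
        · exact e
      have hz : Subgroup.zpowers (w ^ i) = E := Subgroup.eq_of_le_of_card_ge (Subgroup.zpowers_le.2 he)
        (by rw [Nat.card_zpowers, Nat.card_zpowers, he3, H.hw])
      exact (Subgroup.mem_zpowers_iff.1 (hz ▸ Subgroup.mem_zpowers w)).imp fun a h => h.symm
    rw [ha]
    exact (Commute.symm hc).zpow_right a
  have hX : U ⊔ E ≤ Subgroup.normalizer (Q : Set G) := by
    refine le_trans (sup_le hUM (Subgroup.zpowers_le.2 L.w_mem)) fun g hg => Subgroup.mem_normalizer_iff.2 fun q =>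
      ⟨L.hQn g hg q, fun h => ?_⟩
    have := L.hQn g⁻¹ (inv_mem hg) _ h
    rwa [inv_inv, show g⁻¹ * (g * q * g⁻¹) * g = q by group] at this
  have hcopX : (Nat.card ↥(U ⊔ E)).Coprime (Nat.card Q) := by
    obtain ⟨a, ha⟩ := L.hQ2.exists_card_eq
    rw [ha]
    refine Nat.Coprime.pow_right a ?_
    have hd : Nat.card ↥(U ⊔ E) ∣ Nat.card E * Nat.card U :=
      sup_comm E U ▸ CfsgLib.TIHall.card_sup_dvd_of_le_normalizer hEU
    refine Nat.Coprime.coprime_dvd_left hd ?_
    rw [Nat.card_zpowers, H.hw, hk]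
    exact (by norm_num : Nat.Coprime 3 2).mul_left (Nat.Coprime.pow_left k
      ((Nat.coprime_primes hrp Nat.prime_two).2 (by omega)))
  have hCU : Q ⊓ Subgroup.centralizer (U : Set G) = ⊥ := by
    refine (Subgroup.eq_bot_iff_forall _).2 fun q hq => ?_
    obtain ⟨u, hu, hu1⟩ := (Subgroup.ne_bot_iff_exists_ne_one).1 hU1 |> fun ⟨u, h⟩ =>
      (⟨u.1, u.2, fun e => h (Subtype.ext e)⟩ : ∃ u ∈ U, u ≠ 1)
    exact (hfree u hu q hq.1 (Subgroup.mem_centralizer_iff.1 hq.2 u hu)).resolve_left hu1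
  have hCE : Q ⊓ Subgroup.centralizer (E : Set G) = Subgroup.zpowers z := by
    refine le_antisymm (fun q hq => ?_) (Subgroup.zpowers_le.2 ⟨L.hzQ, ?_⟩)
    · exact (mem_zp_two H.hz).2 (L.nil.T_zero (L.hQT hq.1)
        (Commute.symm (Subgroup.mem_centralizer_iff.1 hq.2 w (Subgroup.mem_zpowers w))))
    · refine Subgroup.mem_centralizer_iff.2 fun e he => ?_
      obtain ⟨i, rfl⟩ := Subgroup.mem_zpowers_iff.1 he
      exact (H.hzw.zpow_right i).symm.eq
  have hCX : Q ⊓ Subgroup.centralizer ((U ⊔ E : Subgroup G) : Set G) = ⊥ := by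
    rw [← le_bot_iff, ← hCU]
    exact inf_le_inf_left _ (Subgroup.centralizer_le (SetLike.coe_subset_coe.2 le_sup_left))
  have hQ8 : Nat.card Q = 8 := by
    have h := CfsgLib.FrobAction.order_formula U E hEU hfpf Q hX hcopX inferInstance
    rw [hCX, hCU, hCE, Nat.card_zpowers, Nat.card_zpowers, Subgroup.card_bot, H.hz, H.hw] at h
    omega
  -- orbits
  have hz1 := ne_one_of_two H.hz
  have horb : ∀ q ∈ Q, q ≠ 1 → Function.Injective fun u : U => (u : G) * q * (u : G)⁻¹ := by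
    intro q hq hq1 a b hab
    simp only at hab
    have hc : Commute ((b : G)⁻¹ * a) q := by
      refine mul_inv_eq_iff_eq_mul.1 ?_
      calc (b : G)⁻¹ * a * q * ((b : G)⁻¹ * a)⁻¹ = (b : G)⁻¹ * ((a : G) * q * (a : G)⁻¹) * b := by group
        _ = q := by rw [hab]; group
    rcases hfree _ (mul_mem (inv_mem b.2) a.2) q hq hc with e | e
    · exact Subtype.ext (inv_mul_eq_one.1 e).symm
    · exact absurd e hq1
  let f : U → Q := fun u => ⟨(u : G) * z * (u : G)⁻¹, L.hQn u (hUM u.2) z L.hzQ⟩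
  have hf : Function.Injective f := fun a b h => horb z L.hzQ hz1 (congrArg Subtype.val h)
  have hf1 : ∀ u, f u ≠ 1 := fun u h => hz1 (conj_eq_one_iff.1 (congrArg Subtype.val h))
  have h7 : Nat.card U + 1 ≤ 8 := by
    haveI := Fintype.ofFinite U
    rw [← hQ8, ← Finite.card_option]
    refine Nat.card_le_card_of_injective (fun o => o.elim 1 f) ?_
    rintro (_ | a) (_ | b) h
    · rfl
    · exact absurd h.symm (hf1 b)
    · exact absurd h (hf1 a)
    · exact congrArg some (hf h)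
  have hk1 : k = 1 := by
    rcases k with _ | _ | k
    · exact absurd (Subgroup.eq_bot_of_card_eq U (by rw [hk, pow_zero])) hU1
    · rfl
    · exfalso
      have : r ^ 2 ≤ r ^ (k + 1 + 1) := Nat.pow_le_pow_right hrp.pos (by omega)
      rw [hk] at h7
      nlinarith
  rw [hk1, pow_one] at hk
  by_cases hsur : ∀ q : Q, q ≠ 1 → ∃ u, f u = q
  · have hr7 : r = 7 := by
      have : Nat.card Q ≤ Nat.card U + 1 := by
        rw [← Finite.card_option]
        refine Nat.card_le_card_of_surjective (fun o : Option U => o.elim 1 f) fun q => ?_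
        by_cases hq : q = 1
        · exact ⟨none, hq.symm⟩
        · obtain ⟨u, hu⟩ := hsur q hq
          exact ⟨some u, hu⟩
      omega
    refine ⟨hQ8, fun q hq => ?_, hk.trans hr7, hr7⟩
    by_cases hq1 : q = 1
    · rw [hq1, one_mul]
    obtain ⟨u, hu⟩ := hsur ⟨q, hq⟩ fun e => hq1 (congrArg Subtype.val e)
    rw [← show (u : G) * z * (u : G)⁻¹ = q from congrArg Subtype.val hu,
      show (u : G) * z * (u : G)⁻¹ * ((u : G) * z * (u : G)⁻¹) = (u : G) * (z * z) * (u : G)⁻¹ by group,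
      mul_self_of_two H.hz, mul_one, mul_inv_cancel]
  · exfalso
    push Not at hsur
    obtain ⟨q, hq1, hq⟩ := hsur
    let g : Option (Bool × U) → Q := fun o => o.elim 1 fun p => if p.1 then f p.2 else
      ⟨(p.2 : G) * q * (p.2 : G)⁻¹, L.hQn p.2 (hUM p.2.2) q q.2⟩
    have hqG : (q : G) ≠ 1 := fun e => hq1 (Subtype.ext e)
    have hdis : ∀ a b : U, (a : G) * z * (a : G)⁻¹ ≠ (b : G) * q * (b : G)⁻¹ := fun a b h =>
      hq (b⁻¹ * a) (Subtype.ext (by
        show ((b : G)⁻¹ * a) * z * ((b : G)⁻¹ * a)⁻¹ = q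
        calc ((b : G)⁻¹ * a) * z * ((b : G)⁻¹ * a)⁻¹ = (b : G)⁻¹ * ((a : G) * z * (a : G)⁻¹) * b := by group
          _ = q := by rw [h]; group))
    have hg : Function.Injective g := by
      rintro (_ | ⟨_ | _, a⟩) (_ | ⟨_ | _, b⟩) h <;> simp only [g, Option.elim, if_true, if_false, Bool.false_eq_true] at h
      · rfl
      · exact absurd (conj_eq_one_iff.1 (congrArg Subtype.val h).symm) hqG
      · exact absurd h.symm (hf1 b)
      · exact absurd (conj_eq_one_iff.1 (congrArg Subtype.val h)) hqG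
      · rw [horb q q.2 hqG (congrArg Subtype.val h)]
      · exact absurd (congrArg Subtype.val h).symm (hdis b a)
      · exact absurd h (hf1 a)
      · exact absurd (congrArg Subtype.val h) (hdis a b)
      · rw [hf h]
    have h10 := Nat.card_le_card_of_injective g hg
    rw [Finite.card_option, Nat.card_prod, Nat.card_eq_fintype_card (α := Bool), Fintype.card_bool, hk, hQ8] at h10
    omega

/-- An invariant prime part of the quotient gives such a subgroup. -/
theorem key_quot (K : Subgroup M) (hQK : Q.subgroupOf M ≤ K) (hwK : ∀ x ∈ K, ⟨w, L.w_mem⟩ * x * ⟨w, L.w_mem⟩⁻¹ ∈ K)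
    {n : ℕ} (hn : Nat.card K = Nat.card Q * n) (h3 : ¬ 3 ∣ n) (r : ℕ) [Fact r.Prime] (hr : 5 ≤ r) (hrn : r ∣ n) :
    Nat.card Q = 8 ∧ (∀ q ∈ Q, q * q = 1) ∧ r = 7 ∧ ¬ r ^ 2 ∣ n := by
  have H := L.nil.base
  set K0 := K.map M.subtype with hK0
  have hc : Nat.card K0 = Nat.card Q * n := by rw [hK0, Subgroup.card_map_of_injective M.subtype_injective, hn]
  have hAK : Subgroup.zpowers w ≤ Subgroup.normalizer (K0 : Set G) := by
    refine Subgroup.zpowers_le.2 (Subgroup.mem_normalizer_iff.2 fun x => ⟨?_, ?_⟩)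
    · rintro ⟨y, hy, rfl⟩
      exact ⟨_, hwK y hy, rfl⟩
    · rintro ⟨y, hy, e⟩
      refine ⟨_, hwK _ (hwK y hy), ?_⟩
      change (y : G) = _ at e
      show w * (w * (y : G) * w⁻¹) * w⁻¹ = x
      rw [e, show w * (w * (w * x * w⁻¹) * w⁻¹) * w⁻¹ = (w * w * w) * x * (w * w * w)⁻¹ by group, ← pow_three',
        show w ^ 3 = 1 from H.hw ▸ pow_orderOf_eq_one w]
      group
  have hcop : (Nat.card (Subgroup.zpowers w)).Coprime (Nat.card K0) := by
    rw [Nat.card_zpowers, H.hw, hc, Nat.Prime.coprime_iff_not_dvd Nat.prime_three]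
    exact fun h => ((Nat.Prime.dvd_mul Nat.prime_three).1 h).elim L.not_three h3
  obtain ⟨P, hP⟩ := CfsgLib.coprime_exists_invariant_sylow hAK hcop (Or.inl inferInstance) r
  have hrK : r ∣ Nat.card K0 := hc ▸ hrn.mul_left _
  have hPne : (P : Subgroup K0).map K0.subtype ≠ ⊥ := fun e => by
    have h := (P.dvd_card_of_dvd_card hrK)
    rw [← Subgroup.card_map_of_injective K0.subtype_injective, e, Subgroup.card_bot, Nat.dvd_one] at h
    omega
  obtain ⟨h8, hel, h7, hr7⟩ := L.key _ ((Subgroup.map_subtype_le _).trans (Subgroup.map_subtype_le _)) r hr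
    (P.2.map _) hPne fun u hu => ((Subgroup.mem_normalizer_iff.1 (hP (Subgroup.mem_zpowers w))) u).1 hu
  refine ⟨h8, hel, hr7, fun h2 => ?_⟩
  have hd : r ^ 2 ∣ Nat.card (P : Subgroup K0) := P.pow_dvd_card_of_pow_dvd_card (hc ▸ h2.mul_left _)
  rw [← Subgroup.card_map_of_injective K0.subtype_injective, h7, hr7] at hd
  norm_num at hd

/-- The order of a Sylow 2-subgroup. -/
theorem card_sylow (S : Sylow 2 G) (hS : (S : Subgroup G) ≤ M) {e m : ℕ} (hm : Odd m)
    (hM : Nat.card M = Nat.card Q * (2 ^ e * m)) : Nat.card (S : Subgroup G) = Nat.card Q * 2 ^ e := by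
  haveI : Fact (Nat.Prime 2) := ⟨Nat.prime_two⟩
  obtain ⟨a, ha⟩ := L.hQ2.exists_card_eq
  have h : Nat.card (S : Subgroup G) = 2 ^ (Nat.card M).factorization 2 := by
    rw [← Nat.card_congr (Subgroup.subgroupOfEquivOfLe hS).toEquiv, ← S.coe_subtype hS,
      Sylow.card_eq_multiplicity]
  have hm0 : m ≠ 0 := hm.pos.ne'
  rw [h, hM, ha, ← mul_assoc, ← pow_add, Nat.factorization_mul (by positivity) hm0, Finsupp.add_apply,
    Nat.Prime.factorization_pow Nat.prime_two, Finsupp.single_eq_same,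
    Nat.factorization_eq_zero_of_not_dvd (Nat.two_dvd_ne_zero.2 (Nat.odd_iff.1 hm)), add_zero]

end Local

namespace Nil

variable (N : Nil G z w T D) [Finite G]
include N

theorem exists_local (hD : D = ⊥) (M R : Subgroup G) (hCM : cen z ≤ M) (hMC : ¬ M ≤ cen z) (hR : IsPGroup 2 R)
    (hzR : z ∈ R) (hRM : R ≤ M) (hRn : ∀ g ∈ M, ∀ r ∈ R, g * r * g⁻¹ ∈ R) :
    ∃ Q : Subgroup G, Local G z w T D M Q := by
  haveI : Fact (Nat.Prime 2) := ⟨Nat.prime_two⟩
  have H := N.base
  obtain ⟨S, hTS, hSC, hS⟩ := N.exists_sylow_T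
  set O := Cfsg.pCore 2 M
  haveI hOn : O.Normal := inferInstance
  set Q := O.map M.subtype with hQdef
  have hOQ : Q.subgroupOf M = O := Subgroup.comap_map_eq_self_of_injective M.subtype_injective O
  have hQn : ∀ g ∈ M, ∀ q ∈ Q, g * q * g⁻¹ ∈ Q := by
    rintro g hg _ ⟨q, hq, rfl⟩
    exact ⟨⟨g, hg⟩ * q * ⟨g, hg⟩⁻¹, hOn.conj_mem q hq _, rfl⟩
  have hQS : Q ≤ (S : Subgroup G) := by
    rintro _ ⟨q, hq, rfl⟩
    exact CfsgLib.pCore_le_sylow (S.subtype (hSC.trans hCM)) hq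
  refine ⟨Q, N, hD, hCM, hMC, Subgroup.map_subtype_le _, ?_, ?_, hQn, fun R' hR' hR2 => hOQ ▸ (haveI := hR'; CfsgLib.le_pCore hR2)⟩
  · intro q hq
    rcases hS with hS | ⟨s, hs, hsT, hS⟩
    · exact (hS q).1 (hQS hq)
    rcases (hS q).1 (hQS hq) with h | h
    · exact h
    exfalso
    have h1 : q * w * q⁻¹ * w⁻¹ ∈ (S : Subgroup G) := hQS (by
      rw [show q * w * q⁻¹ * w⁻¹ = q * (w * q⁻¹ * w⁻¹) by group]
      exact mul_mem hq (hQn w (hCM H.w_cen) _ (inv_mem hq)))
    set p := q * s⁻¹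
    have hp' : p * (w⁻¹ * p⁻¹ * w) ∈ T := mul_mem h (by
      have := N.normT w⁻¹ (inv_mem H.w_cen) _ (inv_mem h); rwa [inv_inv] at this)
    have hw3 : w⁻¹ * w⁻¹ = w := by
      rw [← mul_inv_rev, inv_eq_iff_mul_eq_one, ← pow_three', show w ^ 3 = 1 from H.hw ▸ pow_orderOf_eq_one w]
    have hwS : w ∈ (S : Subgroup G) := by
      rw [show q * w * q⁻¹ * w⁻¹ = p * (w⁻¹ * p⁻¹ * w) * (w⁻¹ * w⁻¹) by
        have : q = p * s := by simp only [p]; group
        rw [this, show p * s * w * (p * s)⁻¹ * w⁻¹ = p * (s * w * s⁻¹) * p⁻¹ * w⁻¹ by group, hs.2.1]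
        group, hw3] at h1
      exact (mul_mem_cancel_left (hTS hp')).1 h1
    obtain ⟨k, hk⟩ := S.2 ⟨w, hwS⟩
    have := orderOf_dvd_of_pow_eq_one (congrArg Subtype.val hk : w ^ 2 ^ k = 1)
    rw [H.hw] at this
    exact absurd (Nat.prime_three.dvd_of_dvd_pow this) (by norm_num)
  · haveI : (R.subgroupOf M).Normal := ⟨fun r hr g => hRn g g.2 r hr⟩
    exact ⟨⟨z, hCM H.z_cen⟩, CfsgLib.le_pCore (hR.of_equiv (Subgroup.subgroupOfEquivOfLe hRM).symm)
      (show (⟨z, hCM H.z_cen⟩ : M) ∈ R.subgroupOf M from hzR), rfl⟩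

/-- The local subgroup. -/
theorem loc [IsSimpleGroup G] (hG : ¬ IsMulCommutative G) (hD : D = ⊥) (M R : Subgroup G) (hCM : cen z ≤ M)
    (hMC : ¬ M ≤ cen z) (hR : IsPGroup 2 R) (hzR : z ∈ R) (hRM : R ≤ M)
    (hRn : ∀ g ∈ M, ∀ r ∈ R, g * r * g⁻¹ ∈ R) :
    Cfsg.Spor.IsoJ1 G ∨
      (Nat.card T = 32 ∧ ∀ a ∈ T, a * a = 1 → (∀ t ∈ T, Commute a t) → a = 1 ∨ a = z) := by
  classical
  haveI : Fact (Nat.Prime 2) := ⟨Nat.prime_two⟩
  haveI : Fact (Nat.Prime 3) := ⟨Nat.prime_three⟩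
  have H := N.base
  have hw3 : w ^ 3 = 1 := H.hw ▸ pow_orderOf_eq_one w
  obtain ⟨Q, L⟩ := N.exists_local hD M R hCM hMC hR hzR hRM hRn
  obtain ⟨S, hTS, hSC, -⟩ := N.exists_sylow_T
  have hSM : (S : Subgroup G) ≤ M := hSC.trans hCM
  set O := Q.subgroupOf M with hOdef
  haveI : O.Normal := L.normal
  have hcO : Nat.card O = Nat.card Q := Nat.card_congr (Subgroup.subgroupOfEquivOfLe L.hQM).toEquiv
  have hO2 : IsPGroup 2 O := L.hQ2.of_equiv (Subgroup.subgroupOfEquivOfLe L.hQM).symm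
  set q := QuotientGroup.mk' O
  set w' : M := ⟨w, L.w_mem⟩
  set wb := q w'
  have hq1 : ∀ {x : M}, q x = 1 ↔ (x : G) ∈ Q := fun {x} => QuotientGroup.eq_one_iff x
  have hwb : orderOf wb = 3 := by
    refine orderOf_eq_prime (by rw [← map_pow, show w' ^ 3 = 1 from Subtype.ext hw3, map_one]) fun e => ?_
    exact L.not_three (H.hw ▸ Subgroup.orderOf_dvd_natCard Q (hq1.1 e))
  have hwb3 : wb ^ 3 = 1 := hwb ▸ pow_orderOf_eq_one wb
  have hself : ∀ y : M ⧸ O, Commute y wb → y ∈ Subgroup.zpowers wb := by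
    intro y hy
    obtain ⟨g, rfl⟩ := QuotientGroup.mk'_surjective O y
    obtain ⟨n, hn, hc, hz, -⟩ := L.lift_cent g.2 (hq1.1 (show q (g * w' * g⁻¹ * w'⁻¹) = 1 by
      rw [map_mul, map_mul, map_mul, map_inv, map_inv, hy.eq, mul_inv_cancel_right, mul_inv_cancel]))
    have hgn : q (g * ⟨n, L.hQM hn⟩) = q g := by
      rw [map_mul, (hq1 (x := ⟨n, L.hQM hn⟩)).2 hn, mul_one]
    rcases H.cent_cases (mem_cen.1 hz) hc with h | ⟨v, hv, e⟩
    · obtain ⟨j, hj⟩ := Subgroup.mem_zpowers_iff.1 h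
      exact ⟨j, by rw [← hgn]; show wb ^ j = _; rw [← map_zpow]; exact congrArg q (Subtype.ext hj)⟩
    · obtain ⟨j, rfl⟩ := Subgroup.mem_zpowers_iff.1 hv
      refine ⟨j, ?_⟩
      rw [← hgn, show g * ⟨n, L.hQM hn⟩ = ⟨z, L.hQM L.hzQ⟩ * w' ^ j from Subtype.ext e, map_mul,
        (hq1 (x := ⟨z, L.hQM L.hzQ⟩)).2 L.hzQ, one_mul, map_zpow]
  have hbot : ∀ K : Subgroup (M ⧸ O), K.Normal → IsPGroup 2 K → K = ⊥ := by
    intro K hK hK2
    refine (Subgroup.eq_bot_iff_forall _).2 fun y hy => ?_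
    obtain ⟨g, rfl⟩ := QuotientGroup.mk'_surjective O y
    have := L.max (K.comap q) (hK.comap q) (hK2.comap_of_ker_isPGroup q (by rwa [QuotientGroup.ker_mk'])) hy
    exact hq1.2 this
  have hcM : Nat.card M = Nat.card Q * Nat.card (M ⧸ O) := by
    rw [Subgroup.card_eq_card_quotient_mul_card_subgroup O, hcO, mul_comm]
  have hinvT : (∃ y : M ⧸ O, y * wb * y⁻¹ = wb⁻¹) → Nat.card (S : Subgroup G) = 2 * Nat.card T := by
    rintro ⟨y, hy⟩
    obtain ⟨g, rfl⟩ := QuotientGroup.mk'_surjective O y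
    obtain ⟨-, x, hx, hxw⟩ := L.lift_inv g.2 (hq1.1 (show q (g * w' * g⁻¹ * w') = 1 by
      rw [map_mul, map_mul, map_mul, map_inv, hy, inv_mul_cancel]))
    exact N.card_sylow_of_inverting hD hx hxw S
  have hk : ∀ (K : Subgroup (M ⧸ O)), (∀ y ∈ K, wb * y * wb⁻¹ ∈ K) → ¬ 3 ∣ Nat.card K →
      ∀ r : ℕ, r.Prime → 5 ≤ r → r ∣ Nat.card K →
        Nat.card Q = 8 ∧ (∀ x ∈ Q, x * x = 1) ∧ r = 7 ∧ ¬ r ^ 2 ∣ Nat.card K := by
    intro K hK h3 r hr hr5 hrK
    haveI := Fact.mk hr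
    refine L.key_quot (K.comap q) ?_ (fun x hx => ?_) ?_ h3 r hr5 hrK
    · intro x hx
      show q x ∈ K
      rw [hq1.2 hx]
      exact one_mem _
    · show q (w' * x * w'⁻¹) ∈ K
      rw [map_mul, map_mul, map_inv]
      exact hK _ hx
    · rw [← hcO]
      have h := Subgroup.card_eq_card_quotient_mul_card_subgroup (O.subgroupOf (K.comap q))
      have e2 : Nat.card (O.subgroupOf (K.comap q)) = Nat.card O :=
        Nat.card_congr (Subgroup.subgroupOfEquivOfLe (fun x hx => show q x ∈ K by rw [hq1.2 hx]; exact one_mem _)).toEquiv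
      have e1 : (O.subgroupOf (K.comap q)).index = Nat.card K := by
        have h' := Subgroup.relIndex_comap (⊥ : Subgroup (M ⧸ O)) q (K.comap q)
        simp only [q, MonoidHom.comap_bot, QuotientGroup.ker_mk',
          Subgroup.map_comap_eq_self_of_surjective (QuotientGroup.mk'_surjective O), Subgroup.relIndex_bot_left] at h'
        exact h'
      rw [h, e2, show Nat.card (↥(K.comap q) ⧸ O.subgroupOf (K.comap q)) = Nat.card K from e1, mul_comm]
  have hXc : Nat.card (Subgroup.zpowers wb) = 3 := by rw [Nat.card_zpowers, hwb]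
  have hXC : Subgroup.centralizer (Subgroup.zpowers wb : Set (M ⧸ O)) = Subgroup.zpowers wb := by
    refine le_antisymm (fun y hy => hself y (Subgroup.mem_centralizer_iff.1 hy wb (Subgroup.mem_zpowers wb)).symm) ?_
    intro y hy
    refine Subgroup.mem_centralizer_iff.2 fun x hx => ?_
    obtain ⟨i, rfl⟩ := Subgroup.mem_zpowers_iff.1 hy
    obtain ⟨j, rfl⟩ := Subgroup.mem_zpowers_iff.1 hx
    exact ((Commute.refl wb).zpow_zpow j i).eq
  rcases Cfsg.Agent.S3331.result (Subgroup.zpowers wb) hXc hXC with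
    ⟨K, hK, hKnil, hK3, hidx⟩ | ⟨K, hK, hKab, hKel, ⟨e⟩⟩ | ⟨⟨e⟩⟩
  · left
    haveI := hKnil
    have h3K : ¬ 3 ∣ Nat.card K := (Nat.Prime.coprime_iff_not_dvd Nat.prime_three).1 hK3.symm
    have hKodd : ¬ 2 ∣ Nat.card K := by
      intro h2
      obtain ⟨P⟩ : Nonempty (Sylow 2 K) := inferInstance
      haveI : (P : Subgroup K).Normal :=
        Sylow.normal_of_normalizerCondition Group.normalizerCondition_of_isNilpotent P
      haveI := P.characteristic_of_normal this
      haveI : ((P : Subgroup K).map K.subtype).Normal := ConjAct.normal_of_characteristic_of_normal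
      have hb := hbot _ this (P.2.map _)
      have hd := P.dvd_card_of_dvd_card h2
      rw [← Subgroup.card_map_of_injective K.subtype_injective, hb, Subgroup.card_bot] at hd
      norm_num at hd
    have hcard : Nat.card (M ⧸ O) = Nat.card K * Nat.card ((M ⧸ O) ⧸ K) := by
      rw [Subgroup.card_eq_card_quotient_mul_card_subgroup K, mul_comm]
    have hwK : wb ∉ K := fun h => h3K (hwb ▸ Subgroup.orderOf_dvd_natCard K h)
    set p := QuotientGroup.mk' K
    have hpw : orderOf (p wb) = 3 := orderOf_eq_prime (by rw [← map_pow, hwb3, map_one])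
      fun h => hwK ((QuotientGroup.eq_one_iff _).1 h)
    -- the quotient is not trivial
    obtain ⟨r, hr, hrK⟩ : ∃ r, r.Prime ∧ r ∣ Nat.card K := by
      refine Nat.exists_prime_and_dvd fun h1 => hMC fun g hg => ?_
      have hb : K = ⊥ := Subgroup.eq_bot_of_card_eq K h1
      have h6 : Nat.card (M ⧸ O) ∣ 6 := by
        rw [hcard, h1, one_mul]
        rcases hidx with h | ⟨⟨e⟩⟩
        · exact h.symm ▸ ⟨2, rfl⟩
        · rw [Nat.card_congr e.toEquiv, Nat.card_eq_fintype_card, Fintype.card_perm, Fintype.card_fin]; rfl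
      have hi : (Subgroup.zpowers wb).index ≤ 2 := by
        have h := Subgroup.card_mul_index (Subgroup.zpowers wb)
        rw [hXc] at h
        have := Nat.le_of_dvd (by norm_num) h6
        omega
      haveI : (Subgroup.zpowers wb).Normal := by
        obtain e | e : (Subgroup.zpowers wb).index = 1 ∨ (Subgroup.zpowers wb).index = 2 := by
          have := Subgroup.index_ne_zero_of_finite (H := Subgroup.zpowers wb)
          omega
        · rw [Subgroup.index_eq_one.1 e]; infer_instance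
        · exact Subgroup.normal_of_index_eq_two e
      have hm := ‹(Subgroup.zpowers wb).Normal›.conj_mem wb (Subgroup.mem_zpowers wb) (q ⟨g, hg⟩)
      obtain ⟨i, hi'⟩ := mem_powers_iff_mem_zpowers.2 hm
      simp only at hi'
      rw [← pow_mod_orderOf, hwb] at hi'
      obtain e | e | e : i % 3 = 0 ∨ i % 3 = 1 ∨ i % 3 = 2 := by omega
      · rw [e, pow_zero, eq_comm, conj_eq_one_iff] at hi'
        rw [hi', orderOf_one] at hwb
        omega
      · rw [e, pow_one] at hi'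
        obtain ⟨n, -, -, -, hC⟩ := L.lift_cent hg (hq1.1 (show q (⟨g, hg⟩ * w' * ⟨g, hg⟩⁻¹ * w'⁻¹) = 1 by
          rw [map_mul, map_mul, map_mul, map_inv, map_inv, ← hi', mul_inv_cancel]))
        exact hC
      · rw [e] at hi'
        exact (L.lift_inv hg (hq1.1 (show q (⟨g, hg⟩ * w' * ⟨g, hg⟩⁻¹ * w') = 1 by
          rw [map_mul, map_mul, map_mul, map_inv, ← hi', ← pow_succ, hwb3]))).1
    have hr5 : ∀ r, r.Prime → r ∣ Nat.card K → 5 ≤ r := by
      intro r hr hrK
      by_contra hlt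
      have := hr.two_le
      interval_cases r
      · exact hKodd hrK
      · exact h3K hrK
      · exact absurd hr (by norm_num)
    have hKn : ∀ y ∈ K, wb * y * wb⁻¹ ∈ K := fun y hy => hK.conj_mem y hy wb
    obtain ⟨h8, hel, -, -⟩ := hk K hKn h3K r hr (hr5 r hr hrK) hrK
    have hK7 : Nat.card K = 7 := by
      have hall : ∀ {d : ℕ}, d.Prime → d ∣ Nat.card K → d = 7 := fun {d} hd hdK => (hk K hKn h3K d hd (hr5 d hd hdK) hdK).2.2.1
      have h := Nat.eq_prime_pow_of_unique_prime_dvd Nat.card_pos.ne' hall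
      have hr7 := hall hr hrK
      have hsq := (hk K hKn h3K r hr (hr5 r hr hrK) hrK).2.2.2
      rw [hr7, h] at hsq
      rcases hn : (Nat.card K).primeFactorsList.length with _ | _ | j <;> rw [hn] at h hsq
      · rw [h] at hrK; exact absurd (Nat.dvd_one.1 (by simpa using hrK)) hr.one_lt.ne'
      · simpa using h
      · exact absurd (pow_dvd_pow 7 (by omega)) hsq
    have hq3 : Nat.card ((M ⧸ O) ⧸ K) = 3 := by
      refine hidx.resolve_right fun ⟨e⟩ => ?_
      obtain ⟨c, hc⟩ := perm_three_inverted (e (p wb)) (by rw [← map_pow, ← map_pow, hwb3, map_one, map_one])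
      obtain ⟨y, hy⟩ := QuotientGroup.mk'_surjective K (e.symm c)
      have hym : y * wb * y⁻¹ * wb ∈ K := by
        refine (QuotientGroup.eq_one_iff _).1 (e.injective ?_)
        show e (p (y * wb * y⁻¹ * wb)) = e 1
        have hey : e (p y) = c := by rw [← e.apply_symm_apply c]; exact congrArg e hy
        rw [map_mul, map_mul, map_mul, map_inv, map_mul, map_mul, map_mul, map_inv, hey, hc, map_one,
          inv_mul_cancel]
      haveI : Fact (Nat.Prime 7) := ⟨by norm_num⟩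
      haveI : IsCyclic K := isCyclic_of_prime_card hK7
      obtain ⟨n, hn⟩ := IsCyclic.exists_generator (α := K)
      obtain ⟨a, ha⟩ := Subgroup.mem_zpowers_iff.1 (hn ⟨y⁻¹ * n * y⁻¹⁻¹, hK.conj_mem n n.2 y⁻¹⟩)
      obtain ⟨b, hb⟩ := Subgroup.mem_zpowers_iff.1 (hn ⟨wb * n * wb⁻¹, hK.conj_mem n n.2 wb⟩)
      have ha' : (n : M ⧸ O) ^ a = y⁻¹ * n * y := by
        have := congrArg Subtype.val ha; simpa using this
      have hb' : (n : M ⧸ O) ^ b = wb * n * wb⁻¹ := by
        have := congrArg Subtype.val hb; simpa using this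
      letI := IsCyclic.commGroup (α := K)
      set k : M ⧸ O := y * wb * y⁻¹ * wb
      have hkc : Commute k (wb⁻¹ * (n : M ⧸ O) * wb) := by
        have h := hK.conj_mem n n.2 wb⁻¹
        rw [inv_inv] at h
        exact congrArg Subtype.val (mul_comm (⟨k, hym⟩ : K) ⟨_, h⟩)
      have e1 : wb * (n : M ⧸ O) * wb⁻¹ = wb⁻¹ * n * wb := by
        calc wb * (n : M ⧸ O) * wb⁻¹ = y * (((n : M ⧸ O) ^ a) ^ b) * y⁻¹ := by
              rw [← conj_zpow, ha', show y * (y⁻¹ * (n : M ⧸ O) * y) * y⁻¹ = n by group, hb']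
          _ = y * (((n : M ⧸ O) ^ b) ^ a) * y⁻¹ := by rw [← zpow_mul, ← zpow_mul, mul_comm]
          _ = y * (wb * (y⁻¹ * n * y) * wb⁻¹) * y⁻¹ := by rw [hb', ← ha', conj_zpow]
          _ = k * (wb⁻¹ * n * wb) * k⁻¹ := by simp only [k]; group
          _ = _ := by rw [hkc.eq, mul_inv_cancel_right]
      have e2 : Commute (n : M ⧸ O) wb := by
        have h2 : Commute (wb * wb) (n : M ⧸ O) := by
          calc wb * wb * (n : M ⧸ O) = wb * (wb * n * wb⁻¹) * wb := by group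
            _ = n * (wb * wb) := by rw [e1]; group
        have h4 := h2.mul_left h2
        rw [show wb * wb * (wb * wb) = wb * (wb * wb) * wb by group, ← pow_three, hwb3, one_mul] at h4
        exact h4.symm
      have ho : orderOf (n : M ⧸ O) = 7 := by
        rw [Subgroup.orderOf_coe, orderOf_eq_card_of_forall_mem_zpowers hn, hK7]
      have := ho ▸ hwb ▸ orderOf_dvd_of_mem_zpowers (hself _ e2)
      norm_num at this
    have hS8 := L.card_sylow S hSM (e := 0) (m := 21) (by decide) (by rw [hcM, hcard, hK7, hq3]; norm_num)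
    rw [pow_zero, mul_one] at hS8
    have hQS : Q = (S : Subgroup G) := Subgroup.eq_of_le_of_card_ge (L.hQT.trans hTS) hS8.le
    exact H.isoJ1_of_eight hG S (hS8.trans h8) fun s hs => hel s (hQS ▸ hs)
  · exfalso
    obtain rfl : K = ⊥ := hbot K hK fun x => ⟨1, Subtype.ext (by
      show (x : M ⧸ O) ^ 2 ^ 1 = 1
      rw [pow_one]
      exact hKel x x.2)⟩
    let e' : M ⧸ O ≃* alternatingGroup (Fin 5) := QuotientGroup.quotientBot.symm.trans e
    obtain ⟨c, hc⟩ := five_inverted (e' wb) (by rw [← map_pow, hwb3, map_one])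
    have hS2 := hinvT ⟨e'.symm c, e'.injective (by simp [hc])⟩
    have h60 : Nat.card (M ⧸ O) = 60 := by
      rw [Nat.card_congr e'.toEquiv, nat_card_alternatingGroup, Nat.card_eq_fintype_card, Fintype.card_fin]
      rfl
    have hS4 := L.card_sylow S hSM (e := 2) (m := 15) (by decide) (by rw [hcM, h60]; norm_num)
    have hTQ : Nat.card T = 2 * Nat.card Q := by omega
    have hidx : (Q.subgroupOf T).index = 2 := by
      have h := Subgroup.card_mul_index (Q.subgroupOf T)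
      rw [Nat.card_congr (Subgroup.subgroupOfEquivOfLe L.hQT).toEquiv, hTQ] at h
      have := Nat.card_pos (α := Q)
      nlinarith
    obtain ⟨t, ht⟩ : ∃ t : T, (t : G) ∉ Q := by
      by_contra hcon
      push Not at hcon
      rw [Subgroup.subgroupOf_eq_top.2 fun x hx => hcon ⟨x, hx⟩, Subgroup.index_top] at hidx
      omega
    refine ht (L.T_fixed t.2 ?_)
    have h := (Subgroup.mul_mem_iff_of_index_two hidx (a := t) (b := ⟨w * (t : G)⁻¹ * w⁻¹, N.wT _ (inv_mem t.2)⟩)).2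
      ⟨fun h => absurd h ht, fun h => absurd ((?_ : (t : G) ∈ Q)) ht⟩
    · rw [show (t : G) * w * (t : G)⁻¹ * w⁻¹ = (t : G) * (w * (t : G)⁻¹ * w⁻¹) by group]
      exact h
    · have h' := L.hQn w⁻¹ (inv_mem L.w_mem) _ (show w * (t : G)⁻¹ * w⁻¹ ∈ Q from h)
      rw [inv_inv, show w⁻¹ * (w * (t : G)⁻¹ * w⁻¹) * w = (t : G)⁻¹ by group] at h'
      exact inv_mem_iff.1 h'
  · right
    haveI : Fact (Nat.Prime 7) := ⟨by norm_num⟩
    have h168 := card_psl_seven e
    have hS2 := hinvT (seven_inverted e hwb)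
    have hS8 := L.card_sylow S hSM (e := 3) (m := 21) (by decide) (by rw [hcM, h168]; norm_num)
    -- a subgroup of order seven invariant under the element of order three
    obtain ⟨P, hP⟩ : ∃ P : Sylow 7 (M ⧸ O), wb • P = P := by
      refine CfsgLib.FpfSymThree.exists_fixed_three (fun P => wb • P) (fun P => ?_) fun h => ?_
      · rw [← mul_smul, ← mul_smul, mul_assoc, ← pow_three, hwb3, one_smul]
      · obtain ⟨P0⟩ : Nonempty (Sylow 7 (M ⧸ O)) := inferInstance
        have hmod := card_sylow_modEq_one 7 (M ⧸ O)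
        have hd := P0.card_dvd_index
        have hP0 : (P0 : Subgroup (M ⧸ O)).index ∣ 24 := by
          have := P0.card_eq_multiplicity
          have h2 := Subgroup.card_mul_index (P0 : Subgroup (M ⧸ O))
          have h7 : 7 ∣ Nat.card (P0 : Subgroup (M ⧸ O)) := P0.dvd_card_of_dvd_card (by rw [h168]; norm_num)
          rw [h168] at h2
          obtain ⟨j, hj⟩ := h7
          exact ⟨j, by rw [hj] at h2; linarith⟩
        have hle := Nat.le_of_dvd (by norm_num) (hd.trans hP0)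
        obtain ⟨j, hj⟩ := h
        rw [Nat.ModEq, hj] at hmod
        rw [hj] at hle hd
        have hdd := hd.trans hP0
        have : j ≤ 8 := by omega
        interval_cases j <;> first | omega | norm_num at hdd
    have h7 : 7 ∣ Nat.card (P : Subgroup (M ⧸ O)) := P.dvd_card_of_dvd_card (by rw [h168]; norm_num)
    have h3P : ¬ 3 ∣ Nat.card (P : Subgroup (M ⧸ O)) := fun h => by
      obtain ⟨j, hj⟩ := P.2.exists_card_eq
      rw [hj] at h
      exact absurd (Nat.prime_three.dvd_of_dvd_pow h) (by norm_num)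
    have hPw : ∀ y ∈ (P : Subgroup (M ⧸ O)), wb * y * wb⁻¹ ∈ (P : Subgroup (M ⧸ O)) := fun y hy => by
      have h := congrArg (fun S : Sylow 7 (M ⧸ O) => (S : Subgroup (M ⧸ O))) hP
      rw [← h, Sylow.coe_subgroup_smul]
      exact ⟨y, hy, rfl⟩
    obtain ⟨hQ8, hel, -, -⟩ := hk _ hPw h3P 7 (by norm_num) (by norm_num) h7
    refine ⟨by omega, fun a ha ha2 hac => ?_⟩
    have haQ : a ∈ Q := L.centralizer_le (hCM (N.hTC ha)) fun x hx => hac x (L.hQT hx)
    by_contra hne
    push Not at hne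
    let A : Subgroup G := Q ⊓ Subgroup.centralizer (T : Set G)
    have hA : ∀ {x}, x ∈ A ↔ x ∈ Q ∧ ∀ t ∈ T, Commute x t := fun {x} =>
      ⟨fun h => ⟨h.1, fun t ht => (Subgroup.mem_centralizer_iff.1 h.2 t ht).symm⟩,
        fun h => ⟨h.1, Subgroup.mem_centralizer_iff.2 fun t ht => (h.2 t ht).symm.eq⟩⟩
    have haA : a ∈ A := hA.2 ⟨haQ, hac⟩
    have hzA : z ∈ A := hA.2 ⟨L.hzQ, fun t ht => (mem_cen.1 (N.hTC ht)).symm⟩
    set b := w * a * w⁻¹
    have hbA : b ∈ A := hA.2 ⟨L.hQn w L.w_mem a haQ, fun t ht => by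
      have ht' := N.normT w⁻¹ (inv_mem H.w_cen) t ht
      rw [inv_inv] at ht'
      have := commute_conj w (hac _ ht')
      rwa [show w * (w⁻¹ * t * w) * w⁻¹ = t by group] at this⟩
    have hAle : Nat.card A = 8 := by
      have hd : Nat.card A ∣ 8 := hQ8 ▸ Subgroup.card_dvd_of_le inf_le_left
      have hle : 5 ≤ Nat.card A := by
        haveI := Fintype.ofFinite A
        let s : Finset A := {1, ⟨z, hzA⟩, ⟨a, haA⟩, ⟨z * a, mul_mem hzA haA⟩, ⟨b, hbA⟩}
        have hwne : ∀ c, Commute c w → b = c → a = c := fun c hc e => by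
          calc a = w⁻¹ * b * w := by simp only [b]; group
            _ = c := by rw [e, mul_assoc, hc.eq]; group
        have hza : b ≠ z * a := fun e => by
          have e2 : ∀ c : G, Commute c w → w * (c * a) * w⁻¹ = c * b := fun c hc => by
            simp only [b]; rw [← mul_assoc w, ← hc.eq]; group
          have e3 : w * (w * (w * a * w⁻¹) * w⁻¹) * w⁻¹ = z * a := by
            rw [show w * a * w⁻¹ = z * a from e, e2 z H.hzw, e,
              show z * (z * a) = a by rw [← mul_assoc, mul_self_of_two H.hz, one_mul]]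
            exact e
          rw [show w * (w * (w * a * w⁻¹) * w⁻¹) * w⁻¹ = (w * w * w) * a * (w * w * w)⁻¹ by group, ← pow_three',
            hw3, one_mul, inv_one, mul_one] at e3
          exact ne_one_of_two H.hz (mul_eq_right.1 e3.symm)
        have hs : s.card = 5 := by
          have h1 : z ≠ 1 := ne_one_of_two H.hz
          have h2 : z * a ≠ 1 := fun e => hne.2 (by
            rw [eq_inv_of_mul_eq_one_right e, inv_of_two H.hz])
          have h3 : a ≠ z * a := fun e => h1 (mul_eq_right.1 e.symm)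
          have h4 : z * a ≠ z := fun e => hne.1 (mul_eq_left.1 e)
          have h5 : b ≠ 1 := fun e => hne.1 (conj_eq_one_iff.1 e)
          have h6 : b ≠ z := fun e => hne.2 (hwne z H.hzw e)
          have h7 : b ≠ a := fun e => by
            rcases N.T_zero ha (mul_inv_eq_iff_eq_mul.1 e).symm with e | e
            · exact hne.1 e
            · exact hne.2 e
          simp [s, Finset.card_insert_of_notMem, Subtype.ext_iff, h1.symm, hne.1.symm, h2.symm, hne.2.symm, h3,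
            h4.symm, h5.symm, h6.symm, h7.symm, hza.symm]
        rw [Nat.card_eq_fintype_card, ← hs]
        exact Finset.card_le_univ _
      have := Nat.le_of_dvd (by norm_num) hd
      interval_cases (Nat.card A) <;> first | rfl | norm_num at hd
    have hAQ : A = Q := Subgroup.eq_of_le_of_card_ge inf_le_left (by omega)
    have hTQ : T ≤ Q := fun t ht => L.centralizer_le (hCM (N.hTC ht)) fun x hx =>
      ((hA.1 (hAQ.symm ▸ hx)).2 t ht).symm
    have := Subgroup.card_le_of_le hTQ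
    omega

end Nil

end CfsgLib.SelfSix
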