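import Cfsg.Agent.Lib.SuborbitGroups.SDChar
import Cfsg.Agent.Lib.SelfSix.Basic

/-!
A character of degree at most fifteen in the principal block kills the odd part of the centraliser, with a
semidihedral Sylow subgroup of order sixteen and an element of order three acting freely on that odd part.
-/

set_option autoImplicit false
set_option linter.style.haveILetI false
set_option linter.unusedSectionVars false
set_option linter.unusedVariables false

namespace CfsgLib.SelfSix.SDBlock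

open Cfsg CfsgLib.CharTheory CfsgLib.Blocks CfsgLib.Blocks.AbelianFree
open CfsgLib.SuborbitGroups.SD (odd_of_mem normal_subgroupOf not_dvd_subgroupOf core_const column_le natCast_int_ext
  eight_values Eqn small_degree classInner_natCard)
open CfsgSimpleM11 (irr_of_isConj)
open scoped ComplexConjugate

universe u

/-- The local data. -/
structure Local (G : Type u) [Group G] (z w s : G) (O Q : Subgroup G) : Prop where
  hz : orderOf z = 2
  hs : orderOf s = 8
  hsz : s ^ 4 = z
  hs3 : IsConj s (s ^ 3)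
  hreal : ¬ IsConj s s⁻¹
  hOC : O ≤ Subgroup.centralizer ({z} : Set G)
  hOodd : Odd (Nat.card O)
  hOnorm : ∀ c ∈ Subgroup.centralizer ({z} : Set G), ∀ u ∈ O, c * u * c⁻¹ ∈ O
  hOidx : O.relIndex (Subgroup.centralizer ({z} : Set G)) = 48
  hOsidx : O.relIndex (Subgroup.centralizer ({s} : Set G)) = 8
  hOe : O ≤ Subgroup.centralizer ({s ^ 2} : Set G)
  hOeidx : O.relIndex (Subgroup.centralizer ({s ^ 2} : Set G)) = 8
  hQcard : Nat.card Q = 8
  hQO : ∀ q ∈ Q, ∀ u ∈ O, q * u = u * q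
  hQ : ∀ q ∈ Q, q = 1 ∨ q = z ∨ ∃ c ∈ Subgroup.centralizer ({z} : Set G), c * q * c⁻¹ = s ^ 2
  hw : w ∈ Subgroup.centralizer ({z} : Set G)
  hwfree : ∀ u ∈ O, w * u * w⁻¹ = u → u = 1

variable {G : Type u} [Group G] [Fintype G] {z w s : G} {O Q : Subgroup G} {M : Ideal AlgInt}

theorem cz (L : Local G z w s O Q) :
    Subgroup.centralizer ({s} : Set G) ≤ Subgroup.centralizer ({z} : Set G) := fun x hx => by
  rw [Subgroup.mem_centralizer_singleton_iff] at hx ⊢
  rw [← L.hsz]
  exact ((show Commute x s from hx).pow_right 4).eq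

/-- Orthogonality on the section of `s` passes to the principal block. -/
theorem restrict_block (hM : IsPModular 2 M) (L : Local G z w s O Q) (F : IrrCharacter G → ℂ)
    (h : ∀ v ∈ regC 2 s, ∑ χ : IrrCharacter G, (χ : G → ℂ) (s * v) * F χ = 0) :
    ∑ χ ∈ bset (principalBlock M G), (χ : G → ℂ) s * F χ = 0 := by
  classical
  set C := Subgroup.centralizer ({s} : Set G)
  haveI : (O.subgroupOf C).Normal := ⟨fun u hu c => L.hOnorm c (cz L c.2) u hu⟩
  have hK : ¬ 2 ∣ Nat.card (O.subgroupOf C) := fun h2 => (Nat.not_even_iff_odd.2 L.hOodd) (even_iff_two_dvd.2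
    (h2.trans (Subgroup.card_comap_dvd_of_injective O C.subtype C.subtype_injective)))
  have hk := fun χ => Blocks.Dihedral.section_key hM (y := s) ⟨3, L.hs⟩ (O.subgroupOf C) hK (k := 3) L.hOsidx χ
    (one_mem_regC hM.1 s)
  have h1 : ∑ χ : IrrCharacter G, ((regC 2 s).card : ℂ) *
      (if χ ∈ bset (principalBlock M G) then (χ : G → ℂ) s * F χ else 0) = 0 := by
    have e : ∀ χ : IrrCharacter G, ((regC 2 s).card : ℂ) *
        (if χ ∈ bset (principalBlock M G) then (χ : G → ℂ) s * F χ else 0) =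
        ∑ v ∈ regC 2 s, (χ : G → ℂ) (s * v) * F χ := by
      intro χ
      rw [← Finset.sum_mul, ← hk χ, mul_one]
      by_cases hc : χ ∈ principalBlock M G
      · rw [ind_of_mem hc, if_pos (mem_bset.2 hc)]; ring
      · rw [ind_of_notMem hc, if_neg (fun h' => hc (mem_bset.1 h'))]; ring
    rw [Finset.sum_congr rfl fun χ _ => e χ, Finset.sum_comm]
    exact Finset.sum_eq_zero h
  rw [← Finset.mul_sum, ← Finset.sum_filter] at h1
  refine Eq.trans (Finset.sum_congr (by ext; simp) fun _ _ => rfl)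
    ((mul_eq_zero.1 h1).resolve_left (Blocks.Dihedral.card_regC_ne hM.1 s))

/-- A principal block character of degree at most fifteen. -/
theorem exists_small (hM : IsPModular 2 M) (L : Local G z w s O Q) :
    ∃ χ ∈ principalBlock M G, χ ≠ oneIrr G ∧ ∃ f : ℤ, (χ : G → ℂ) 1 = f ∧ f ≤ 15 := by
  classical
  haveI : Fact (Nat.Prime 2) := ⟨Nat.prime_two⟩
  choose a b f A hfa hAa hre him hf hA using eight_values L.hs L.hs3 (G := G)
  have hf' : ∀ χ : IrrCharacter G, 0 < f χ := fun χ => by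
    obtain ⟨d, hd, hd1⟩ := irr_degree_pos χ.2
    have : f χ = (d : ℤ) := natCast_int_ext ((hf χ).symm.trans (by rw [hd1]; push_cast; rfl))
    omega
  set B := bset (principalBlock M G)
  have hord : ∀ v ∈ regC 2 s, orderOf (s * v) = 8 * orderOf v := fun v hv => by
    obtain ⟨hc, hr⟩ := mem_regC.1 hv
    rw [(show Commute s v from hc.symm).orderOf_mul_eq_mul_orderOf_of_coprime, L.hs]
    rw [L.hs, show (8 : ℕ) = 2 ^ 3 from rfl]
    exact (((Nat.Prime.coprime_iff_not_dvd Nat.prime_two).2 hr)).pow_left 3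
  have hns : ∀ g : G, ¬ 8 ∣ orderOf g → ∀ v ∈ regC 2 s, ¬ IsConj (s * v) g := fun g hg v hv hc => by
    obtain ⟨c, rfl⟩ := isConj_iff.1 hc
    exact hg (by rw [Blocks.conj_orderOf, hord v hv]; exact dvd_mul_right 8 _)
  have hinvert : ∀ v ∈ regC 2 s, ∀ c : G, ∀ v' : G, Commute s⁻¹ v' → ¬ 2 ∣ orderOf v' →
      c * (s * v) * c⁻¹ = s⁻¹ * v' → False := by
    intro v hv c v' hc' hr' e
    obtain ⟨hc, hr⟩ := mem_regC.1 hv
    refine L.hreal (isConj_iff.2 ⟨c, ?_⟩)
    refine (pPart_unique hM.1 ((Commute.conj_iff c).2 (show Commute s v from hc.symm)) hc'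
      ⟨3, by rw [Blocks.conj_orderOf]; exact L.hs⟩ ⟨3, by rw [orderOf_inv]; exact L.hs⟩
      (by rwa [Blocks.conj_orderOf]) hr' ?_).1
    rw [← e]; group
  -- the column of `s`
  have hss : ∑ χ ∈ B, (χ : G → ℂ) s * (χ : G → ℂ) s⁻¹ = 8 := by
    have hn : ∀ c ∈ Subgroup.centralizer ({s} : Set G), ∀ u ∈ O, c * u * c⁻¹ ∈ O := fun c hc => L.hOnorm c (cz L hc)
    haveI := normal_subgroupOf hn
    have h := Blocks.Dihedral.section_norm hM (y := s) ⟨3, L.hs⟩ (O.subgroupOf _) (fun h2 =>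
      (Nat.not_even_iff_odd.2 L.hOodd) (even_iff_two_dvd.2 (h2.trans
        (Subgroup.card_comap_dvd_of_injective O (Subgroup.centralizer ({s} : Set G)).subtype
          (Subgroup.subtype_injective _))))) (k := 3) L.hOsidx
    rw [show (O.subgroupOf (Subgroup.centralizer ({s} : Set G))).index = 8 from L.hOsidx] at h
    push_cast at h
    rw [← h]
    exact Finset.sum_congr rfl fun χ _ => by rw [irr_inv]
  have hsq : ∑ χ ∈ B, (χ : G → ℂ) s * (χ : G → ℂ) s = 0 := by
    refine restrict_block hM L _ fun v hv => ?_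
    have h := sum_irr_mul_conj (s * v) s⁻¹
    rw [if_neg fun hc => by
      obtain ⟨c, hc⟩ := isConj_iff.1 hc
      exact hinvert v hv c 1 (Commute.one_right _) (by simp) (by rw [hc, mul_one])] at h
    rw [← h]
    exact Finset.sum_congr rfl fun χ _ => by rw [← irr_inv, inv_inv]
  have hsq' : ∑ χ ∈ B, (χ : G → ℂ) s⁻¹ * (χ : G → ℂ) s⁻¹ = 0 := by
    have h := congrArg conj hsq
    rw [map_sum, map_zero] at h
    rw [← h]
    exact Finset.sum_congr rfl fun χ _ => by rw [map_mul, irr_inv]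
  have ha4 : ∑ χ ∈ B, a χ * a χ = 4 := by
    apply natCast_int_ext
    push_cast
    rw [show (4 : ℂ) = (1 / 4) * (0 + 2 * 8 + 0) by norm_num]
    nth_rewrite 1 [← hsq]
    rw [← hsq', ← hss, Finset.mul_sum, ← Finset.sum_add_distrib, ← Finset.sum_add_distrib, Finset.mul_sum]
    refine Finset.sum_congr rfl fun χ _ => ?_
    linear_combination (-(1 / 4) : ℂ) * ((χ : G → ℂ) s + (χ : G → ℂ) s⁻¹ + 2 * (a χ : ℂ)) * hre χ
  have hconjsum : ∀ F : IrrCharacter G → ℤ,
      ∑ χ ∈ B, (χ : G → ℂ) s * (F χ : ℂ) = 0 → ∑ χ ∈ B, a χ * F χ = 0 := by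
    intro F hF
    apply natCast_int_ext
    have h := congrArg conj hF
    rw [map_sum, map_zero] at h
    push_cast
    rw [show (0 : ℂ) = (1 / 2) * (0 + 0) by norm_num]
    nth_rewrite 1 [← hF]
    rw [← h, ← Finset.sum_add_distrib, Finset.mul_sum]
    refine Finset.sum_congr rfl fun χ _ => ?_
    rw [map_mul, map_intCast, ← irr_inv]
    linear_combination (-(1 / 2) : ℂ) * (F χ : ℂ) * hre χ
  have hcol : ∀ g : G, ¬ 8 ∣ orderOf g → ∀ F : IrrCharacter G → ℤ, (∀ χ : IrrCharacter G, (χ : G → ℂ) g = F χ) →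
      ∑ χ ∈ B, a χ * F χ = 0 := fun g hg F hF => by
    refine hconjsum F (restrict_block hM L _ fun v hv => ?_)
    have h := sum_irr_mul_conj (s * v) g
    rw [if_neg (hns g hg v hv)] at h
    rw [← h]
    exact Finset.sum_congr rfl fun χ _ => by rw [hF χ, map_intCast]
  have haf : ∑ χ ∈ B, a χ * f χ = 0 := hcol 1 (by simp) f hf
  have haA : ∑ χ ∈ B, a χ * A χ = 0 := hcol z (by rw [L.hz]; norm_num) A fun χ => by rw [← L.hsz]; exact hA χ
  -- no product of two conjugates of `z` has two-part `s`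
  have hpairs : ∑ χ ∈ B, (χ : G → ℂ) s * (((A χ * A χ : ℤ) : ℂ) / (f χ : ℂ)) = 0 := by
    refine restrict_block hM L _ fun v hv => ?_
    set K : Finset G := Finset.univ.filter fun x => IsConj z x with hK
    have hKx : ∀ x ∈ K, x * x = 1 := fun x hx => by
      obtain ⟨c, rfl⟩ := isConj_iff.1 (Finset.mem_filter.1 hx).2
      have : z * z = 1 := by rw [← sq, ← L.hz]; exact pow_orderOf_eq_one z
      rw [show c * z * c⁻¹ * (c * z * c⁻¹) = c * (z * z) * c⁻¹ by group, this]; group
    have hKconj : ∀ x ∈ K, ∀ g : G, g * x * g⁻¹ ∈ K := fun x hx g =>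
      Finset.mem_filter.2 ⟨Finset.mem_univ _, (Finset.mem_filter.1 hx).2.trans (isConj_iff.2 ⟨g, rfl⟩)⟩
    have hnone : (K.filter fun x => x⁻¹ * (s * v)⁻¹ ∈ K) = ∅ := by
      refine Finset.filter_eq_empty_iff.2 fun x hx hy => ?_
      obtain ⟨hc, hr⟩ := mem_regC.1 hv
      have hsv : Commute s v := hc.symm
      have h1 := hKx x hx
      have hxi : x⁻¹ = x := inv_eq_of_mul_eq_one_left h1
      have h2 := hKx _ hy
      rw [hxi] at h2
      refine hinvert v hv x v⁻¹ hsv.inv_inv (by rwa [orderOf_inv]) ?_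
      have h3 : x * (s * v)⁻¹ * x = s * v := by
        calc x * (s * v)⁻¹ * x = x * (s * v)⁻¹ * (x * (s * v)⁻¹) * (s * v) := by group
          _ = s * v := by rw [h2, one_mul]
      calc x * (s * v) * x⁻¹ = x * (x * (s * v)⁻¹ * x) * x := by rw [h3, hxi]
        _ = (x * x) * (s * v)⁻¹ * (x * x) := by group
        _ = s⁻¹ * v⁻¹ := by rw [h1, mul_inv_rev, hsv.inv_inv.eq]; group
    have hz1 : (K.card : ℂ) ≠ 0 :=
      Nat.cast_ne_zero.2 (Finset.card_pos.2 ⟨z, Finset.mem_filter.2 ⟨Finset.mem_univ _, IsConj.refl z⟩⟩).ne'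
    have h := CfsgLib.BSW.card_pairs K hKconj (s * v)⁻¹
    rw [hnone, Finset.card_empty, Nat.cast_zero, mul_zero] at h
    have hzA : ∀ χ : IrrCharacter G, (χ : G → ℂ) z = (A χ : ℂ) := fun χ => by rw [← L.hsz]; exact hA χ
    have hterm : ∀ χ : IrrCharacter G, (∑ x ∈ K, (χ : G → ℂ) x) ^ 2 * conj ((χ : G → ℂ) (s * v)⁻¹) / (χ : G → ℂ) 1 =
        (K.card : ℂ) ^ 2 * ((χ : G → ℂ) (s * v) * (((A χ * A χ : ℤ) : ℂ) / (f χ : ℂ))) := fun χ => by
      rw [Finset.sum_congr rfl fun x hx => (irr_of_isConj χ (Finset.mem_filter.1 hx).2).symm,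
        Finset.sum_const, nsmul_eq_mul, hzA χ, ← irr_inv, inv_inv, hf χ]
      push_cast
      ring
    rw [Finset.sum_congr rfl fun χ _ => hterm χ, ← Finset.mul_sum] at h
    exact (mul_eq_zero.1 h.symm).resolve_left (pow_ne_zero 2 hz1)
  have haAA : ∑ χ ∈ B, (a χ : ℂ) * ((A χ * A χ : ℤ) : ℂ) / (f χ : ℂ) = 0 := by
    have h := congrArg conj hpairs
    rw [map_sum, map_zero] at h
    rw [show (0 : ℂ) = (1 / 2) * (0 + 0) by norm_num]
    nth_rewrite 1 [← hpairs]
    rw [← h, ← Finset.sum_add_distrib, Finset.mul_sum]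
    refine Finset.sum_congr rfl fun χ _ => ?_
    rw [map_mul, map_div₀, map_intCast, map_intCast, ← irr_inv]
    linear_combination (-(1 / 2) : ℂ) * ((A χ * A χ : ℤ) : ℂ) / (f χ : ℂ) * hre χ
  -- exactly four of them are nonzero
  set one := oneIrr G with hone
  have hone1 : a one = 1 ∧ f one = 1 ∧ A one = 1 := by
    refine ⟨natCast_int_ext ?_, natCast_int_ext ?_, natCast_int_ext ?_⟩
    · have h := hre one
      have h1 : ∀ g : G, ((one : IrrCharacter G) : G → ℂ) g = 1 := fun _ => rfl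
      rw [h1, h1] at h
      push_cast
      linear_combination (-(1 / 2) : ℂ) * h
    · rw [← hf one]; push_cast; rfl
    · rw [← hA one]; push_cast; rfl
  set N : Finset (IrrCharacter G) := (B.filter fun χ => a χ ≠ 0).erase one with hN
  have hsplit : ∀ F : IrrCharacter G → ℤ, (∀ χ, a χ = 0 → F χ = 0) →
      ∑ χ ∈ B, F χ = F one + ∑ χ ∈ N, F χ := by
    intro F hF
    have hmem : one ∈ B.filter fun χ => a χ ≠ 0 := Finset.mem_filter.2 ⟨mem_bset.2 (oneIrr_mem hM), by simp [hone1.1]⟩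
    rw [hN, Finset.add_sum_erase _ _ hmem, Finset.sum_filter_of_ne]
    intro χ _ hne e
    exact hne (hF χ e)
  have hN3 : ∑ χ ∈ N, a χ * a χ = 3 := by
    have h := hsplit (fun χ => a χ * a χ) (fun χ e => by simp [e])
    rw [ha4, hone1.1] at h
    linarith
  have ha1 : ∀ χ ∈ N, a χ = 1 ∨ a χ = -1 := by
    intro χ hχ
    have hle := Finset.single_le_sum (f := fun χ => a χ * a χ) (fun i _ => mul_self_nonneg _) hχ
    rw [hN3] at hle
    have hne : a χ ≠ 0 := (Finset.mem_filter.1 (Finset.mem_of_mem_erase hχ)).2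
    have : -1 ≤ a χ := by nlinarith
    have : a χ ≤ 1 := by nlinarith
    omega
  have hcard : N.card = 3 := by
    have h1 : ∑ χ ∈ N, a χ * a χ = ∑ χ ∈ N, (1 : ℤ) :=
      Finset.sum_congr rfl fun χ hχ => by rcases ha1 χ hχ with e | e <;> rw [e] <;> norm_num
    rw [hN3, Finset.sum_const, nsmul_one] at h1
    exact_mod_cast h1.symm
  obtain ⟨x, y, w, hxy, hxw, hyw, hNe⟩ := Finset.card_eq_three.1 hcard
  have hsum3 : ∀ F : IrrCharacter G → ℤ, ∑ χ ∈ N, F χ = F x + F y + F w := fun F => by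
    rw [hNe, Finset.sum_insert (by simp [hxy, hxw]), Finset.sum_pair hyw, add_assoc]
  have hmemN : x ∈ N ∧ y ∈ N ∧ w ∈ N := by rw [hNe]; simp
  have hblock : ∀ χ ∈ N, χ ∈ principalBlock M G := fun χ hχ =>
    mem_bset.1 (Finset.mem_filter.1 (Finset.mem_of_mem_erase hχ)).1
  have hbound : A x * A x + A y * A y + A w * A w ≤ 47 := by
    have hn := L.hOnorm
    have hcol := column_le hM (x := z) ⟨1, L.hz⟩ L.hOC hn L.hOodd
    rw [L.hOidx, Complex.re_sum] at hcol
    have hval : ∀ χ : IrrCharacter G, ((χ : G → ℂ) z * conj ((χ : G → ℂ) z)).re = ((A χ * A χ : ℤ) : ℝ) := fun χ => by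
      rw [← L.hsz, hA χ, map_intCast, ← Int.cast_mul, Complex.intCast_re]
    rw [Finset.sum_congr rfl fun χ _ => hval χ, ← Int.cast_sum] at hcol
    have hcol' : ∑ χ ∈ bset (principalBlock M G), A χ * A χ ≤ 48 := by exact_mod_cast hcol
    have hsub : insert one N ⊆ bset (principalBlock M G) := fun χ hχ => by
      rcases Finset.mem_insert.1 hχ with rfl | h
      · exact mem_bset.2 (oneIrr_mem hM)
      · exact mem_bset.2 (hblock χ h)
    have hle := (Finset.sum_le_sum_of_subset_of_nonneg (f := fun χ => A χ * A χ) hsub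
      fun i _ _ => mul_self_nonneg _).trans hcol'
    rw [Finset.sum_insert (by simp [hN]), hone1.2.2, hsum3] at hle
    linarith
  have hodd : ∀ χ ∈ N, Odd (a χ * f χ) ∧ Odd (a χ * A χ) := fun χ hχ => by
    have h1 := hfa χ
    have h2 := hAa χ
    constructor <;> rw [Int.odd_iff] <;> rcases ha1 χ hχ with e | e <;> rw [e] at h1 h2 ⊢ <;> omega
  have hg : a x * f x + a y * f y + a w * f w = -1 := by
    have h := hsplit (fun χ => a χ * f χ) (fun χ e => by simp [e])
    rw [haf, hone1.1, hone1.2.1, hsum3] at h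
    linarith
  have hh : a x * A x + a y * A y + a w * A w = -1 := by
    have h := hsplit (fun χ => a χ * A χ) (fun χ e => by simp [e])
    rw [haA, hone1.1, hone1.2.2, hsum3] at h
    linarith
  have haaN : ∀ χ ∈ N, a χ * a χ = 1 := fun χ hχ => by rcases ha1 χ hχ with e | e <;> rw [e] <;> norm_num
  have heq : Eqn ((a x * A x) * (a x * A x)) ((a y * A y) * (a y * A y)) ((a w * A w) * (a w * A w))
      (a x * f x) (a y * f y) (a w * f w) := by
    have hmem : one ∈ B.filter fun χ => a χ ≠ 0 := Finset.mem_filter.2 ⟨mem_bset.2 (oneIrr_mem hM), by simp [hone1.1]⟩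
    have h : ∑ χ ∈ insert one N, (a χ : ℂ) * ((A χ * A χ : ℤ) : ℂ) / (f χ : ℂ) = 0 := by
      rw [← haAA, hN, Finset.insert_erase hmem]
      refine Finset.sum_filter_of_ne fun χ _ hne e => hne ?_
      simp [e]
    rw [Finset.sum_insert (by simp [hN]), hone1.1, hone1.2.1, hone1.2.2, hNe,
      Finset.sum_insert (by simp [hxy, hxw]), Finset.sum_pair hyw] at h
    have nx : (f x : ℂ) ≠ 0 := by exact_mod_cast (hf' x).ne'
    have ny : (f y : ℂ) ≠ 0 := by exact_mod_cast (hf' y).ne'
    have nw : (f w : ℂ) ≠ 0 := by exact_mod_cast (hf' w).ne'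
    field_simp at h
    push_cast at h
    have h' : f x * f y * f w + a x * (A x * A x) * (f y * f w) + a y * (A y * A y) * (f x * f w) +
        a w * (A w * A w) * (f x * f y) = 0 := by
      have : ((f x : ℂ) * f y * f w + a x * (A x * A x) * (f y * f w) + a y * (A y * A y) * (f x * f w) +
          a w * (A w * A w) * (f x * f y)) = 0 := by linear_combination h
      exact_mod_cast this
    have ex := haaN x hmemN.1
    have ey := haaN y hmemN.2.1
    have ew := haaN w hmemN.2.2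
    unfold Eqn
    linear_combination a x * a y * a w * h'
  have hres := small_degree (hodd x hmemN.1).1 (hodd y hmemN.2.1).1 (hodd w hmemN.2.2).1
    (hodd x hmemN.1).2 (hodd y hmemN.2.1).2 (hodd w hmemN.2.2).2 hg hh (by
      have e : ∀ χ ∈ N, a χ * A χ * (a χ * A χ) = A χ * A χ := fun χ hχ => by
        linear_combination (A χ * A χ) * haaN χ hχ
      rw [e x hmemN.1, e y hmemN.2.1, e w hmemN.2.2]
      exact hbound) heq
  have hfin : ∀ χ ∈ N, |a χ * f χ| ≤ 15 → ∃ χ ∈ principalBlock M G, χ ≠ oneIrr G ∧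
      ∃ f : ℤ, (χ : G → ℂ) 1 = f ∧ f ≤ 15 := by
    intro χ hχ hle
    refine ⟨χ, hblock χ hχ, Finset.ne_of_mem_erase hχ, f χ, hf χ, ?_⟩
    have h := le_abs_self (f χ)
    rcases ha1 χ hχ with e | e <;> rw [e] at hle <;> simp only [one_mul, neg_mul, abs_neg] at hle <;> linarith
  rcases hres with h | h | h
  exacts [hfin x hmemN.1 h, hfin y hmemN.2.1 h, hfin w hmemN.2.2 h]

/-- A principal block character of degree at most fifteen is trivial on the core. -/
theorem core_in_kernel (hM : IsPModular 2 M) (L : Local G z w s O Q) {χ : IrrCharacter G}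
    (hχ : χ ∈ principalBlock M G) {f : ℤ} (hf : (χ : G → ℂ) 1 = f) (h15 : f ≤ 15) {u : G} (hu : u ∈ O) :
    (χ : G → ℂ) u = (χ : G → ℂ) 1 := by
  classical
  haveI : Fact (Nat.Prime 2) := ⟨Nat.prime_two⟩
  have he : ∀ x ∈ O, (χ : G → ℂ) (s ^ 2 * x) = (χ : G → ℂ) (s ^ 2) := by
    intro x hx
    have hn : ∀ c ∈ Subgroup.centralizer ({s ^ 2} : Set G), ∀ r ∈ O, c * r * c⁻¹ ∈ O := fun c hc r hr =>
      L.hOnorm c (by
        rw [Subgroup.mem_centralizer_singleton_iff] at hc ⊢
        rw [← L.hsz, show s ^ 4 = (s ^ 2) ^ 2 by rw [← pow_mul]]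
        exact ((show Commute c (s ^ 2) from hc).pow_right 2).eq) r hr
    haveI := normal_subgroupOf hn
    refine CfsgLib.Blocks.Dihedral.section_const hM ⟨2, ?_⟩ (O.subgroupOf _) (not_dvd_subgroupOf L.hOe L.hOodd)
      (k := 3) L.hOeidx hχ (mem_regC.2 ⟨?_, odd_of_mem L.hOodd hx⟩)
    · rw [orderOf_pow' s two_ne_zero, L.hs]; rfl
    · exact Subgroup.mem_centralizer_singleton_iff.1 (L.hOe hx)
  have hqu : ∀ q ∈ Q, q ≠ 1 → ∀ x ∈ O, (χ : G → ℂ) (q * x) = (χ : G → ℂ) q := by
    intro q hq hq1 x hx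
    rcases L.hQ q hq with e | rfl | ⟨c, hcz, hc⟩
    · exact absurd e hq1
    · exact core_const hM ⟨1, L.hz⟩ L.hOC L.hOnorm L.hOodd hχ hx
    · have h1 : (χ : G → ℂ) (q * x) = (χ : G → ℂ) (s ^ 2 * (c * x * c⁻¹)) := by
        rw [← hc, show c * q * c⁻¹ * (c * x * c⁻¹) = c * (q * x) * c⁻¹ by group, CfsgSimpleM11.irr_conjInv]
      rw [h1, ← CfsgSimpleM11.irr_conjInv χ q c, hc]
      exact he _ (L.hOnorm c hcz x hx)
  let j : Q × O →* G :=
    { toFun := fun p => (p.1 : G) * p.2
      map_one' := by simp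
      map_mul' := fun p p' => by
        show ((p.1 * p'.1 : Q) : G) * ((p.2 * p'.2 : O) : G) = _
        rw [Subgroup.coe_mul, Subgroup.coe_mul, mul_assoc, ← mul_assoc (p'.1 : G), L.hQO _ p'.1.2 _ p.2.2]
        group }
  haveI := Fintype.ofFinite Q
  haveI := Fintype.ofFinite O
  let ψ : O → ℂ := fun w => (χ : G → ℂ) w
  have hψ : IsCharacter O ψ := isCharacter_comp (isCharacter_of_irr χ.2) O.subtype
  -- multiplicities
  choose m hm using fun φ : IrrCharacter O => classInner_char_nat hψ (isCharacter_of_irr φ.2)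
  choose d hdpos hdeg using fun φ : IrrCharacter O => irr_degree_pos φ.2
  have hexp : ∀ w : O, ψ w = ∑ φ : IrrCharacter O, (m φ : ℂ) * (φ : O → ℂ) w := by
    intro w
    have h := congrFun (eq_sum_irr (isClassFunction_char hψ)) w
    simpa [hm] using h
  have h8 : ∀ φ : IrrCharacter O, φ ≠ oneIrr O → ∃ k : ℕ, m φ = 8 * k := by
    intro φ hφ
    have hφc : IsCharacter (Q × O) (fun p => (φ : O → ℂ) p.2) :=
      isCharacter_comp (isCharacter_of_irr φ.2) (MonoidHom.snd Q O)
    obtain ⟨k, hk⟩ := classInner_char_nat (isCharacter_comp (isCharacter_of_irr χ.2) j) hφc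
    refine ⟨k, ?_⟩
    have horth : ∑ w : O, conj ((φ : O → ℂ) w) = 0 := by
      have h := classInner_irr_ne (oneIrr O).2 φ.2 fun e => hφ (Subtype.ext e.symm)
      rw [classInner_natCard, mul_eq_zero] at h
      refine (h.resolve_left (inv_ne_zero (Nat.cast_ne_zero.2 Nat.card_pos.ne'))).symm.trans ?_ |>.symm
      exact Finset.sum_congr rfl fun w _ => one_mul _
    rw [classInner_natCard, Nat.card_prod, L.hQcard, Fintype.sum_prod_type,
      ← Finset.add_sum_erase _ _ (Finset.mem_univ (1 : Q))] at hk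
    have hzero : ∀ q ∈ (Finset.univ : Finset Q).erase 1, ∑ w : O, (χ : G → ℂ) (j (q, w)) * conj ((φ : O → ℂ) w) = 0 := by
      intro q hq
      have hne : (q : G) ≠ 1 := fun e => Finset.ne_of_mem_erase hq (Subtype.ext e)
      show ∑ w : O, (χ : G → ℂ) ((q : G) * w) * _ = 0
      rw [Finset.sum_congr rfl fun w _ => by rw [hqu q q.2 hne w w.2], ← Finset.mul_sum, horth, mul_zero]
    rw [Finset.sum_eq_zero hzero, add_zero] at hk
    have hmφ := hm φ
    rw [classInner_natCard] at hmφ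
    have e1 : ∀ w : O, j ((1 : Q), w) = (w : G) := fun w => one_mul _
    simp only [e1] at hk
    have hO0 : (Nat.card O : ℂ) ≠ 0 := Nat.cast_ne_zero.2 Nat.card_pos.ne'
    have : (m φ : ℂ) = ((8 * k : ℕ) : ℂ) := by
      rw [← hmφ, Nat.cast_mul, ← hk]
      push_cast
      field_simp
      exact Finset.sum_congr rfl fun _ _ => rfl
    exact_mod_cast this
  -- a constituent and its conjugate under `w`
  have hconj : ∀ φ : IrrCharacter O, ∃ φ' : IrrCharacter O,
      (∀ x : O, (φ' : O → ℂ) x = (φ : O → ℂ) ⟨w * x * w⁻¹, L.hOnorm w L.hw x x.2⟩) ∧ m φ' = m φ := by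
    intro φ
    let τ : O →* O :=
      { toFun := fun x => ⟨w * x * w⁻¹, L.hOnorm w L.hw x x.2⟩
        map_one' := Subtype.ext (by simp)
        map_mul' := fun a b => Subtype.ext (by simp [mul_assoc]) }
    have hτ : Function.Bijective τ := Finite.injective_iff_bijective.1 fun a b h =>
      Subtype.ext (mul_left_cancel (mul_right_cancel (congrArg Subtype.val h :)))
    let φ' : IrrCharacter O := ⟨fun x => (φ : O → ℂ) (τ x), isIrrCharacter_comp_surjective φ.2 τ hτ.2⟩
    refine ⟨φ', fun x => rfl, ?_⟩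
    have : classInner ψ ((φ' : IrrCharacter O) : O → ℂ) = classInner ψ (φ : O → ℂ) := by
      rw [classInner_natCard, classInner_natCard]
      congr 1
      refine Fintype.sum_equiv (Equiv.ofBijective τ hτ) _ _ fun x => ?_
      show (χ : G → ℂ) x * _ = (χ : G → ℂ) (w * (x : G) * w⁻¹) * _
      rw [CfsgSimpleM11.irr_conjInv]
      rfl
    have h2 := (hm φ').symm.trans (this.trans (hm φ))
    exact_mod_cast h2
  -- all multiplicities away from the trivial character vanish
  have hall : ∀ φ : IrrCharacter O, φ ≠ oneIrr O → m φ = 0 := by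
    intro φ hφ
    by_contra h0
    obtain ⟨k, hk⟩ := h8 φ hφ
    have hk0 : k ≠ 0 := fun e => h0 (by rw [hk, e, mul_zero])
    have hsum : (f : ℂ) = ((∑ φ : IrrCharacter O, m φ * d φ : ℕ) : ℂ) := by
      rw [← hf, show (χ : G → ℂ) 1 = ψ 1 from rfl, hexp 1, Nat.cast_sum]
      exact Finset.sum_congr rfl fun φ _ => by rw [hdeg, Nat.cast_mul]
    have hfn : f = ((∑ φ : IrrCharacter O, m φ * d φ : ℕ) : ℤ) := by exact_mod_cast hsum
    by_cases h2 : 2 ≤ d φ
    · have hle : m φ * d φ ≤ ∑ φ : IrrCharacter O, m φ * d φ :=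
        Finset.single_le_sum (f := fun φ => m φ * d φ) (fun i _ => Nat.zero_le _) (Finset.mem_univ φ)
      have : 16 ≤ m φ * d φ := by
        rw [hk]; exact le_trans (by norm_num) (Nat.mul_le_mul (show 8 ≤ 8 * k by omega) h2)
      omega
    have hd1 : d φ = 1 := by have := hdpos φ; omega
    obtain ⟨φ', hφ', hm'⟩ := hconj φ
    obtain ⟨l, hl⟩ := exists_hom_of_degree_one (isCharacter_of_irr φ.2) (by rw [hdeg, hd1, Nat.cast_one])
    have hne : φ' ≠ φ := by
      intro e
      refine hφ (Subtype.ext (funext fun y => ?_))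
      rw [hl]
      show ((l y : ℂˣ) : ℂ) = 1
      let g : O → O := fun x => ⟨w * x * w⁻¹, L.hOnorm w L.hw x x.2⟩ * x⁻¹
      have hg : Function.Injective g := by
        intro a b h
        have h' : w * (a : G) * w⁻¹ * (a : G)⁻¹ = w * (b : G) * w⁻¹ * (b : G)⁻¹ := congrArg Subtype.val h
        have h1 := L.hwfree ((b : G)⁻¹ * a) (mul_mem (inv_mem b.2) a.2) ?_
        · exact Subtype.ext (inv_mul_eq_one.1 h1).symm
        · calc w * ((b : G)⁻¹ * a) * w⁻¹ = (w * (b : G) * w⁻¹ * (b : G)⁻¹ * b)⁻¹ *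
                (w * (a : G) * w⁻¹ * (a : G)⁻¹) * a := by group
            _ = _ := by rw [h']; group
      obtain ⟨x, rfl⟩ := Finite.surjective_of_injective hg y
      have h1 := hφ' x
      rw [e, hl] at h1
      simp only at h1
      rw [map_mul, map_inv, Units.val_mul, ← h1, Units.val_inv_eq_inv_val, mul_inv_cancel₀ (Units.ne_zero _)]
    have hd1' : d φ' = 1 := by
      have h := hφ' 1
      rw [hdeg, hl] at h
      simp only at h
      rw [show (⟨w * ((1 : O) : G) * w⁻¹, L.hOnorm w L.hw _ (1 : O).2⟩ : O) = 1 from Subtype.ext (by simp), map_one,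
        Units.val_one] at h
      exact_mod_cast h
    have hle : m φ' * d φ' + m φ * d φ ≤ ∑ φ : IrrCharacter O, m φ * d φ := by
      rw [← Finset.sum_pair hne (f := fun φ => m φ * d φ)]
      exact Finset.sum_le_sum_of_subset (Finset.subset_univ _)
    rw [hd1, hd1', hm', hk] at hle
    omega
  have hconst : ∀ w : O, ψ w = (m (oneIrr O) : ℂ) := by
    intro w
    rw [hexp w, Finset.sum_eq_single (oneIrr O)]
    · exact mul_one _
    · intro φ _ hφ
      rw [hall φ hφ, Nat.cast_zero, zero_mul]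
    · simp
  exact (hconst ⟨u, hu⟩).trans (hconst 1).symm

/-- In a simple group the core is trivial. -/
theorem core_eq_bot (hsimp : IsSimpleGroup G) (L : Local G z w s O Q) : O = ⊥ := by
  classical
  obtain ⟨M, hM⟩ := exists_isPModular Nat.prime_two
  obtain ⟨χ, hχ, hne, f, hf, h15⟩ := exists_small hM L
  have hN := (inferInstance : (charKernel (χ : G → ℂ) (isCharacter_of_irr χ.2)).Normal)
  rcases hN.eq_bot_or_eq_top with e | e
  · rw [Subgroup.eq_bot_iff_forall]
    intro u hu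
    have h1 := (mem_charKernel (isCharacter_of_irr χ.2) u).2 (core_in_kernel hM L hχ hf h15 hu)
    rwa [e, Subgroup.mem_bot] at h1
  · exfalso
    have hall : ∀ g : G, (χ : G → ℂ) g = (χ : G → ℂ) 1 := fun g =>
      (mem_charKernel (isCharacter_of_irr χ.2) g).1 (e ▸ Subgroup.mem_top g)
    have h1 := classInner_irr_ne χ.2 (oneIrr G).2 fun e => hne (Subtype.ext e)
    rw [classInner_natCard, Finset.sum_congr rfl fun g _ => by rw [hall g]] at h1
    have h2 : ∀ g : G, conj (((oneIrr G : IrrCharacter G) : G → ℂ) g) = 1 := fun g => map_one _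
    simp only [h2, mul_one, Finset.sum_const, nsmul_eq_mul, mul_eq_zero, Finset.card_univ] at h1
    rcases h1 with h1 | h1 | h1
    · exact inv_ne_zero (Nat.cast_ne_zero.2 Nat.card_pos.ne') h1
    · exact Nat.cast_ne_zero.2 Fintype.card_ne_zero h1
    · exact irr_ne_zero χ.2 h1

end CfsgLib.SelfSix.SDBlock
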