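import Cfsg.Agent.Lib.SelfSix.Quat
import Cfsg.Agent.Lib.SelfSix.SDBlock
import Cfsg.Agent.S2916

/-!
`T` with one involution: `G` is `L₃(3)` or `M₁₁`.
-/

set_option autoImplicit false
set_option linter.unusedSectionVars false
set_option linter.style.haveILetI false

namespace CfsgLib.SelfSix

open Cfsg CfsgLib.SuborbitGroups

universe u

variable {G : Type u} [Group G] [Finite G] {z w : G} {T D : Subgroup G}

theorem quat_four : ∀ x : QuaternionGroup 2, x * x * (x * x) = 1 := by decide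

theorem eight_odd_power : ∀ a : GM, a ^ 8 = 1 → a ^ 4 ≠ 1 → (a ^ 4) * (a ^ 4) = 1 ∧ a ^ 2 * a ^ 2 = -1 := by
  decide +kernel

theorem pResidual_two_top [IsSimpleGroup G] {g : G} (hg1 : g ≠ 1) (hg : Nat.Coprime (orderOf g) 2) :
    Cfsg.pResidual 2 G = ⊤ := by
  have hn : (Cfsg.pResidual 2 G).Normal := ⟨fun x hx g => by
    have : (Cfsg.pResidual 2 G).map (MulAut.conj g).toMonoidHom ≤ Cfsg.pResidual 2 G := by
      rw [Cfsg.pResidual, MonoidHom.map_closure]
      refine (Subgroup.closure_le _).mpr ?_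
      rintro _ ⟨y, hy, rfl⟩
      refine Subgroup.subset_closure ?_
      change Nat.Coprime (orderOf (MulAut.conj g y)) 2
      rw [MulEquiv.orderOf_eq]
      exact hy
    exact this ⟨x, hx, rfl⟩⟩
  refine hn.eq_bot_or_eq_top.resolve_left fun e => hg1 (Subgroup.mem_bot.mp ?_)
  rw [← e]
  exact Subgroup.subset_closure hg

namespace Nil

variable (N : Nil G z w T D) [IsSimpleGroup G] (hG : ¬ IsMulCommutative G)
include N hG

/-- `T` with one involution and more than two elements. -/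
theorem quat_case (hU : ∀ x ∈ T, x * x = 1 → x = 1 ∨ x = z) (hbig : ¬ ∀ x ∈ T, x = 1 ∨ x = z) :
    (∃ (F : Type) (_ : Field F) (_ : Fintype F), Fintype.card F = 3 ∧
      Nonempty (G ≃* Matrix.ProjectiveSpecialLinearGroup (Fin 3) F)) ∨ Cfsg.Spor.IsoM11 G := by
  classical
  haveI : Fact (Nat.Prime 2) := ⟨Nat.prime_two⟩
  have H := N.base
  obtain ⟨e⟩ := N.quat_of_unique hU hbig
  obtain ⟨S, Δ, hTS, hSC, hidx, hT8, hdet, hker, hsurj, hΔz, hcard⟩ := N.quat_data hG hU hbig
  have hS16 : Nat.card (S : Subgroup G) = 16 := by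
    rw [← Subgroup.card_mul_index (T.subgroupOf (S : Subgroup G)), hidx,
      Nat.card_congr (Subgroup.subgroupOfEquivOfLe hTS).toEquiv, hT8]
  have hinj : ∀ g (hg : g ∈ (S : Subgroup G)) g' (hg' : g' ∈ (S : Subgroup G)),
      Δ ⟨g, hSC hg⟩ = Δ ⟨g', hSC hg'⟩ → g = g' := by
    intro g hg g' hg' h
    have h1 : Δ (⟨g', hSC hg'⟩⁻¹ * ⟨g, hSC hg⟩) = 1 := by
      rw [map_mul, h, ← map_mul, inv_mul_cancel, map_one]
    obtain ⟨k, hk⟩ := S.2 ⟨g'⁻¹ * g, mul_mem (inv_mem hg') hg⟩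
    exact (inv_mul_eq_one.1 (orderOf_eq_one_iff.1 (Nat.eq_one_of_dvd_coprimes
      ((Nat.coprime_two_left.2 N.hD).pow_left k)
      (orderOf_dvd_of_pow_eq_one (congrArg Subtype.val hk : (g'⁻¹ * g) ^ 2 ^ k = 1))
      (Subgroup.orderOf_dvd_natCard D ((hker _).1 h1))))).symm
  -- an element of order eight
  obtain ⟨h08, h04, h0d⟩ := eightElt_facts
  obtain ⟨c0, hc0⟩ := hsurj eightElt h0d
  set c1 := c0 ^ Nat.card D
  have hc18 : c1 ^ 8 = 1 := by
    have h1 : ((c0 ^ 8 : cen z) : G) ∈ D := (hker _).1 (by rw [map_pow, hc0, h08])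
    refine Subtype.ext ?_
    show ((c1 ^ 8 : cen z) : G) = 1
    rw [← pow_mul, mul_comm, pow_mul, SubmonoidClass.coe_pow]
    exact congrArg Subtype.val (pow_card_eq_one' (x := (⟨_, h1⟩ : D)))
  have hΔc1 : Δ c1 ^ 4 = eightElt ^ 4 := by
    rw [map_pow, hc0, ← pow_mul, mul_comm, pow_mul]
    obtain ⟨m, hm⟩ := N.hD
    rw [hm, pow_succ, pow_mul, pow_two, (eight_odd_power _ h08 h04).1, one_pow, one_mul]
  obtain ⟨g, hg⟩ : ∃ g : cen z, ((g * c1 * g⁻¹ : cen z) : G) ∈ (S : Subgroup G) := by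
    have hp : IsPGroup 2 (Subgroup.zpowers c1) := by
      obtain ⟨j, -, hj⟩ := (Nat.dvd_prime_pow Nat.prime_two).1
        (orderOf_dvd_of_pow_eq_one (show c1 ^ 2 ^ 3 = 1 from hc18))
      exact IsPGroup.of_card (n := j) (by rw [Nat.card_zpowers, hj])
    obtain ⟨P, hP⟩ := hp.exists_le_sylow
    obtain ⟨g, hg⟩ := MulAction.exists_smul_eq (cen z) P (S.subtype hSC)
    refine ⟨g, show g * c1 * g⁻¹ ∈ ((S.subtype hSC : Sylow 2 (cen z)) : Subgroup (cen z)) from ?_⟩
    rw [← hg, Sylow.coe_subgroup_smul, Subgroup.mem_pointwise_smul_iff_inv_smul_mem]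
    have e : (MulAut.conj g)⁻¹ • (g * c1 * g⁻¹) = c1 := by
      simp only [MulAut.smul_def, MulAut.conj_inv_apply]; group
    rw [e]
    exact hP (Subgroup.mem_zpowers c1)
  set sC : cen z := g * c1 * g⁻¹
  set s : G := (sC : G)
  set a := Δ sC
  have hgg : Δ g * Δ g⁻¹ = 1 := by rw [← map_mul, mul_inv_cancel, map_one]
  have hsC8 : sC ^ 8 = 1 := by rw [conj_pow, hc18, mul_one, mul_inv_cancel]
  have ha8 : a ^ 8 = 1 := by rw [← map_pow, hsC8, map_one]
  have ha4 : a ^ 4 ≠ 1 := fun h => h04 (by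
    have e1 : c1 ^ 4 = g⁻¹ * sC ^ 4 * g := by rw [conj_pow]; group
    rw [← hΔc1, ← map_pow, e1, map_mul, map_mul, map_pow, h, mul_one, ← map_mul, inv_mul_cancel, map_one])
  obtain ⟨ha4', hadet, hac1, hac2⟩ := gm_eight a ha8 ha4
  have hsC : s ∈ cen z := sC.2
  have hzS : z ∈ (S : Subgroup G) := hTS N.zT
  have hsz : s ^ 4 = z := hinj _ (pow_mem hg 4) z hzS (by
    rw [show (⟨s ^ 4, hSC (pow_mem hg 4)⟩ : cen z) = sC ^ 4 from Subtype.ext (by simp [s]),
      show (⟨z, hSC hzS⟩ : cen z) = ⟨z, H.z_cen⟩ from rfl, map_pow, hΔz, ha4'])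
  have hs : orderOf s = 8 := by
    refine orderOf_eq_prime_pow (p := 2) (n := 2) (fun h => ?_) (congrArg Subtype.val hsC8 : s ^ 8 = 1)
    exact ne_one_of_two H.hz (hsz ▸ h)
  have hs2T : s ^ 2 ∈ T := Subgroup.sq_mem_of_index_two hidx ⟨s, hg⟩
  have hcle : ∀ {x : G}, ∀ j : ℕ, x ^ j = z → cen x ≤ cen z := fun {x} j hj y hy =>
    mem_cen.2 (hj ▸ (mem_cen.1 hy).pow_right j)
  let Δu : cen z →* GMˣ := Δ.toHomUnits
  have hΔu : ∀ c, ((Δu c : GMˣ) : GM) = Δ c := fun c => rfl
  have hcount : ∀ x : cen z, Δ x = a ∨ Δ x = a ^ 2 →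
      cen (x : G) ≤ cen z → s ∈ cen (x : G) → D.relIndex (cen (x : G)) = 8 := by
    intro x hxa hle hsx
    have hx : Nat.card {c : GM // c.det ≠ 0 ∧ c * Δ x = Δ x * c} = 8 := by
      rw [Nat.card_eq_fintype_card, Fintype.card_subtype]
      rcases hxa with e | e <;> rw [e]
      · convert hac1
      · convert hac2
    set f : cen (x : G) →* GMˣ := Δu.comp (Subgroup.inclusion hle)
    have hk : f.ker = D.subgroupOf (cen (x : G)) := by
      ext c
      rw [MonoidHom.mem_ker, Subgroup.mem_subgroupOf, ← Units.val_eq_one]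
      exact hker _
    show (D.subgroupOf (cen (x : G))).index = 8
    rw [← hk, Subgroup.index_ker]
    refine le_antisymm ?_ ?_
    · rw [← hx]
      refine Nat.card_le_card_of_injective (fun y => ⟨((y : GMˣ) : GM), ?_⟩)
        fun y y' h => Subtype.ext (Units.ext (congrArg Subtype.val h :))
      obtain ⟨c, hc⟩ := y.2
      rw [← hc]
      refine ⟨hdet _, ?_⟩
      show Δ (Subgroup.inclusion hle c) * Δ x = Δ x * Δ (Subgroup.inclusion hle c)
      rw [← map_mul, ← map_mul]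
      exact congrArg Δ (Subtype.ext (mem_cen.1 c.2))
    · have h8 : Nat.card (Subgroup.zpowers s) = 8 := by rw [Nat.card_zpowers, hs]
      rw [← h8]
      refine Nat.card_le_card_of_injective (fun y => ⟨f ⟨y, Subgroup.zpowers_le.2 hsx y.2⟩, ⟨_, rfl⟩⟩)
        fun y y' h => Subtype.ext (hinj _ (Subgroup.zpowers_le.2 hg y.2) _ (Subgroup.zpowers_le.2 hg y'.2) ?_)
      exact congrArg (fun u : GMˣ => (u : GM)) (congrArg Subtype.val h)
  have hs3 : IsConj s (s ^ 3) := by
    obtain ⟨y, hy, hya⟩ : ∃ y, ∃ hy : y ∈ (S : Subgroup G), Δ ⟨y, hSC hy⟩ * a ≠ a * Δ ⟨y, hSC hy⟩ := by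
      by_contra hcon
      push Not at hcon
      have := Nat.card_le_card_of_injective (fun y : (S : Subgroup G) => (⟨Δ ⟨y, hSC y.2⟩,
        Finset.mem_filter.2 ⟨Finset.mem_univ _, hdet _, hcon y y.2⟩⟩ :
          ↥(Finset.univ.filter fun c : GM => c.det ≠ 0 ∧ c * a = a * c)))
        fun y y' h => Subtype.ext (hinj _ y.2 _ y'.2 (congrArg Subtype.val h))
      rw [hS16, Nat.card_eq_fintype_card, Fintype.card_coe, hac1] at this
      omega
    have hidxs : ((Subgroup.zpowers s).subgroupOf (S : Subgroup G)).index = 2 := by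
      have h := Subgroup.card_mul_index ((Subgroup.zpowers s).subgroupOf (S : Subgroup G))
      rw [Nat.card_congr (Subgroup.subgroupOfEquivOfLe (Subgroup.zpowers_le.2 hg)).toEquiv, Nat.card_zpowers, hs,
        hS16] at h
      omega
    haveI := Subgroup.normal_of_index_eq_two hidxs
    have hm : y * s * y⁻¹ ∈ Subgroup.zpowers s := (inferInstance :
      ((Subgroup.zpowers s).subgroupOf (S : Subgroup G)).Normal).conj_mem ⟨s, hg⟩ (Subgroup.mem_zpowers s) ⟨y, hy⟩
    obtain ⟨k, hk⟩ := mem_powers_iff_mem_zpowers.2 hm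
    simp only at hk
    rw [← pow_mod_orderOf, hs] at hk
    have hodd : ¬ 2 ∣ k % 8 := fun h2 => by
      obtain ⟨j, hj⟩ := h2
      have h4 : (y * s * y⁻¹) ^ 4 = 1 := by
        rw [← hk, hj, ← pow_mul, show 2 * j * 4 = 8 * j by ring, pow_mul, show s ^ 8 = 1 from hs ▸ pow_orderOf_eq_one s,
          one_pow]
      rw [conj_pow, conj_eq_one_iff, hsz] at h4
      exact ne_one_of_two H.hz h4
    have key : ∀ j : ℕ, s ^ j = y * s * y⁻¹ → Δ ⟨y, hSC hy⟩ * a = a ^ j * Δ ⟨y, hSC hy⟩ := fun j hj => by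
      rw [← map_pow, ← map_mul, ← map_mul]
      exact congrArg Δ (Subtype.ext (by simp only [Subgroup.coe_mul, SubmonoidClass.coe_pow]; rw [hj]; group; rfl))
    have hlt : k % 8 < 8 := Nat.mod_lt _ (by norm_num)
    interval_cases hj : k % 8
    · exact absurd (dvd_zero 2) hodd
    · exact absurd (by rw [key 1 hk, pow_one]) hya
    · exact absurd (dvd_refl 2) hodd
    · exact isConj_iff.2 ⟨y, hk.symm⟩
    · exact absurd (by norm_num : 2 ∣ 4) hodd
    · exact absurd (key 5 hk) (eight_powers a _ ha8 ha4 (hdet _))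
    · exact absurd (by norm_num : 2 ∣ 6) hodd
    · exact absurd (key 7 hk) (gm_not_real a _ ha8 ha4 (hdet _))
  have hreal : ¬ IsConj s s⁻¹ := by
    intro h
    obtain ⟨y, hy⟩ := isConj_iff.1 h
    have hyC : y ∈ cen z := by
      refine mem_cen.2 (mul_inv_eq_iff_eq_mul.1 ?_)
      rw [← hsz, ← conj_pow, hy, inv_pow, hsz, inv_of_two H.hz]
    refine gm_not_real a (Δ ⟨y, hyC⟩) ha8 ha4 (hdet _) ?_
    rw [← map_pow, ← map_mul, ← map_mul]
    refine congrArg Δ (Subtype.ext ?_)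
    show y * s = s ^ 7 * y
    rw [← mul_inv_eq_iff_eq_mul, hy, inv_eq_iff_mul_eq_one, ← pow_succ', show 7 + 1 = orderOf s by rw [hs],
      pow_orderOf_eq_one]
  haveI := Fintype.ofFinite G
  have hL : SDBlock.Local G z w s D T :=
    { hz := H.hz
      hs := hs
      hsz := hsz
      hs3 := hs3
      hreal := hreal
      hOC := N.hDC
      hOodd := N.hD
      hOnorm := N.normD
      hOidx := by
        have h := Subgroup.card_mul_index (D.subgroupOf (cen z))
        rw [Nat.card_congr (Subgroup.subgroupOfEquivOfLe N.hDC).toEquiv, hcard] at h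
        exact Nat.eq_of_mul_eq_mul_left Nat.card_pos h
      hOsidx := hcount sC (Or.inl rfl) (hcle 4 hsz) (self_cen s)
      hOe := fun u hu => mem_cen.2 (N.comm _ hs2T u hu).symm
      hOeidx := by
        have h2 : ((sC ^ 2 : cen z) : G) = s ^ 2 := SubmonoidClass.coe_pow sC 2
        have h := hcount (sC ^ 2) (Or.inr (map_pow Δ sC 2))
        rw [h2] at h
        exact h (hcle 2 (by rw [← pow_mul]; exact hsz)) (mem_cen.2 (Commute.self_pow s 2))
      hQcard := hT8
      hQO := fun q hq u hu => (N.comm q hq u hu).eq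
      hQ := fun q hq => by
        by_cases h1 : q = 1
        · exact Or.inl h1
        by_cases h2 : q = z
        · exact Or.inr (Or.inl h2)
        refine Or.inr (Or.inr ?_)
        have hqq : q * q = z := by
          have h4 : q * q * (q * q) = 1 :=
            congrArg Subtype.val (e.injective (by rw [map_mul, map_mul, map_one]; exact quat_four _) :
              (⟨q, hq⟩ : T) * ⟨q, hq⟩ * (⟨q, hq⟩ * ⟨q, hq⟩) = 1)
          rcases hU _ (mul_mem hq hq) h4 with h | h
          · exact absurd h fun h => (hU q hq h).elim h1 h2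
          · exact h
        have hqC : q ∈ cen z := N.hTC hq
        have hΔq : Δ ⟨q, hqC⟩ * Δ ⟨q, hqC⟩ = -1 := by
          rw [← map_mul, ← hΔz]
          exact congrArg Δ (Subtype.ext hqq)
        have hb : a ^ 2 * a ^ 2 = -1 := (eight_odd_power a ha8 ha4).2
        obtain ⟨c, hc, hcq⟩ := gm_four_conj _ _ (sq_neg_det _ hΔq) hΔq (sq_neg_det _ hb) hb
        obtain ⟨c, rfl⟩ := hsurj c hc
        refine ⟨c, c.2, ?_⟩
        have hmem : (c : G) * q * (c : G)⁻¹ ∈ T := N.normT c c.2 q hq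
        refine hinj _ (hTS hmem) _ (hTS hs2T) ?_
        calc Δ ⟨(c : G) * q * (c : G)⁻¹, _⟩ = Δ c * Δ ⟨q, hqC⟩ * Δ c⁻¹ := by
              rw [← map_mul, ← map_mul]; exact congrArg Δ (Subtype.ext rfl)
          _ = Δ (sC ^ 2) := by rw [hcq, ← map_pow, mul_assoc, ← map_mul, mul_inv_cancel, map_one, mul_one]
          _ = _ := congrArg Δ (Subtype.ext (by simp [s]))
      hw := H.w_cen
      hwfree := fun u hu h => N.D_zero hu (Commute.symm (mul_inv_eq_iff_eq_mul.1 h)) }
  have hD := SDBlock.core_eq_bot (inferInstance : IsSimpleGroup G) hL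
  have hbij : Function.Bijective Δu := by
    refine ⟨(injective_iff_map_eq_one Δu).2 fun c hc => Subtype.ext ?_, fun m => ?_⟩
    · exact Subgroup.mem_bot.1 (hD ▸ (hker c).1 (congrArg Units.val hc))
    · obtain ⟨c, hc⟩ := hsurj (m : GM) (Matrix.GeneralLinearGroup.det m).ne_zero
      exact ⟨c, Units.ext hc⟩
  exact Cfsg.Agent.S2916.result (pResidual_two_top (g := w) (fun h => by
    have := H.hw; rw [h, orderOf_one] at this; omega) (by rw [H.hw]; norm_num)) z H.hz
    ⟨MulEquiv.ofBijective Δu hbij⟩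

end Nil

end CfsgLib.SelfSix
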