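import Cfsg.Agent.Lib.SelfSix.NilBasic
import Cfsg.Agent.Lib.WalterUse.SimpleCases
import Cfsg.Agent.Lib.GW.Model.Psl

/-!
`T = ⟨z⟩`: the Sylow 2-subgroups are four-groups, so `G` is `L₂(11)` or `L₂(13)`.
-/

set_option autoImplicit false
set_option linter.unusedSectionVars false
set_option linter.style.haveILetI false

namespace CfsgLib.SelfSix

open Cfsg

universe u

variable {G : Type u} [Group G] {z w : G} {T D : Subgroup G}

namespace Nil

variable (N : Nil G z w T D) [Finite G] [IsSimpleGroup G] (hG : ¬ IsMulCommutative G)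
include N hG

theorem psl_of_small (hT : ∀ x ∈ T, x = 1 ∨ x = z) :
    ∃ (F : Type) (_ : Field F) (_ : Fintype F), (Fintype.card F = 11 ∨ Fintype.card F = 13) ∧
      Nonempty (G ≃* Matrix.ProjectiveSpecialLinearGroup (Fin 2) F) := by
  classical
  haveI : Fact (Nat.Prime 2) := ⟨Nat.prime_two⟩
  have H := N.base
  have hw3 : w ^ 3 = 1 := H.hw ▸ pow_orderOf_eq_one w
  obtain ⟨S, hTS, hSC, hS⟩ := N.exists_sylow_T
  have hzS : z ∈ (S : Subgroup G) := hTS N.zT
  obtain ⟨y, hy, hy2, hyz⟩ := Hyp.two_invol hG S hzS H.hz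
  obtain ⟨s, hs, hsT, hS⟩ : ∃ s, Inverts z w s ∧ s ∉ T ∧ ∀ g, g ∈ (S : Subgroup G) ↔ g ∈ T ∨ g * s⁻¹ ∈ T := by
    refine hS.resolve_left fun h => ?_
    rcases hT y ((h y).1 hy) with e | e
    · exact ne_one_of_two hy2 e
    · exact hyz e
  have hsz : Commute s z := hs.1
  have hS4 : ∀ g ∈ (S : Subgroup G), g = 1 ∨ g = z ∨ g = s ∨ g = z * s := by
    intro g hg
    rcases (hS g).1 hg with h | h
    · rcases hT g h with e | e
      · exact Or.inl e
      · exact Or.inr (Or.inl e)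
    · rcases hT _ h with e | e
      · exact Or.inr (Or.inr (Or.inl (mul_inv_eq_one.1 e)))
      · exact Or.inr (Or.inr (Or.inr (mul_inv_eq_iff_eq_mul.1 e)))
  have hss : s * s = 1 := by
    rcases hs.2.2 with e | e
    · exact e
    exfalso
    rcases hS4 y hy with r | r | r | r
    · exact ne_one_of_two hy2 r
    · exact hyz r
    · have h := mul_self_of_two hy2
      rw [r, e] at h
      exact ne_one_of_two H.hz h
    · have h := mul_self_of_two hy2
      rw [r, hsz.mul_mul_mul_comm, mul_self_of_two H.hz, one_mul, e] at h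
      exact ne_one_of_two H.hz h
  have hsq : ∀ g ∈ (S : Subgroup G), g * g = 1 := by
    intro g hg
    rcases hS4 g hg with rfl | rfl | rfl | rfl
    · exact one_mul 1
    · exact mul_self_of_two H.hz
    · exact hss
    · rw [hsz.mul_mul_mul_comm, mul_self_of_two H.hz, hss, one_mul]
  have hsS : s ∈ (S : Subgroup G) := (hS s).2 (Or.inr (by rw [mul_inv_cancel]; exact one_mem _))
  have hs1 : s ≠ 1 := fun e => hsT (e ▸ one_mem _)
  have hsz' : s ≠ z := fun e => hsT (e ▸ N.zT)
  have hc4 : Nat.card (S : Subgroup G) = 4 := by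
    have hz1 := ne_one_of_two H.hz
    refine (Nat.card_congr ?_).trans ((Nat.card_eq_fintype_card (α := Fin 4)).trans (Fintype.card_fin 4))
    refine (Equiv.ofBijective (fun i : Fin 4 => (![⟨1, one_mem _⟩, ⟨z, hzS⟩, ⟨s, hsS⟩, ⟨z * s, mul_mem hzS hsS⟩] :
      Fin 4 → (S : Subgroup G)) i) ⟨?_, ?_⟩).symm
    · have hzs : z * s ≠ 1 := fun e => hsz' (by rw [eq_inv_of_mul_eq_one_right e, inv_of_two H.hz])
      intro i j h
      fin_cases i <;> fin_cases j <;>
        simp_all [Subtype.ext_iff, hz1, hs1, hsz', hzs, hz1.symm, hs1.symm, hsz'.symm, hzs.symm]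
    · rintro ⟨g, hg⟩
      rcases hS4 g hg with rfl | rfl | rfl | rfl
      · exact ⟨0, rfl⟩
      · exact ⟨1, rfl⟩
      · exact ⟨2, rfl⟩
      · exact ⟨3, rfl⟩
  haveI : IsKleinFour (S : Subgroup G) :=
    { card_four := hc4
      exponent_two := by
        refine (Nat.dvd_prime Nat.prime_two).1 (Monoid.exponent_dvd_of_forall_pow_eq_one fun g => Subtype.ext ?_)
          |>.resolve_left fun h => ?_
        · show (g : G) ^ 2 = 1
          rw [pow_two]; exact hsq g g.2
        · rw [Monoid.exp_eq_one_iff] at h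
          exact ne_one_of_two H.hz (congrArg Subtype.val (h.elim (⟨z, hzS⟩ : (S : Subgroup G)) 1)) }
  obtain ⟨e4⟩ := IsKleinFour.nonempty_mulEquiv (G₁ := (S : Subgroup G)) (G₂ := DihedralGroup 2)
  rcases CfsgLib.WalterUse.dihedralKind hG S le_rfl e4 with ⟨F, iF, iFt, hodd, h3, ⟨e⟩⟩ | ⟨⟨e⟩⟩
  · refine ⟨F, iF, iFt, ?_, ⟨e⟩⟩
    set x := e z
    have hx : x * x = 1 := by rw [← map_mul, mul_self_of_two H.hz, map_one]
    have hx1 : x ≠ 1 := fun h => ne_one_of_two H.hz (e.injective (h.trans (map_one e).symm))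
    obtain ⟨hx2, hx1'⟩ := CfsgLib.GW.Model.phi_invol hx hx1
    obtain ⟨U, hUc, -, -, -, -, -, -, -, hout, -⟩ := CfsgLib.GW.Model.invol_cent hodd h3 hx2 hx1'
    have hU : ∀ g ∈ cen z, Odd (orderOf g) → CfsgLib.PSL2Max.phi (e g) ∈ U := by
      intro g hg ho
      by_contra h
      have h2 := (hout _ (Subgroup.mem_centralizer_singleton_iff.2 (by
        rw [← map_mul, ← map_mul, (mem_cen.1 hg).eq, map_mul, map_mul])) h).1
      rw [← map_mul, ← map_mul, ← map_one (CfsgLib.PSL2Max.phi (F := F)), ← map_one e] at h2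
      have hg2 := e.injective (CfsgLib.PSL2Max.phi_injective h2)
      rcases (Nat.dvd_prime Nat.prime_two).1 (orderOf_dvd_of_pow_eq_one (show g ^ 2 = 1 by rw [sq, hg2])) with r | r
      · rw [orderOf_eq_one_iff.1 r, map_one, map_one] at h
        exact h (one_mem _)
      · rw [r] at ho
        exact absurd ho (by decide)
    have hD : ∀ d ∈ D, d = 1 := by
      intro d hd
      refine N.D_zero hd ?_
      haveI := hUc
      haveI : IsMulCommutative U := IsCyclic.isMulCommutative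
      have h := setLike_mul_comm (hU d (N.hDC hd) (N.hD.of_dvd_nat (Subgroup.orderOf_dvd_natCard D hd)))
        (hU w H.w_cen (by rw [H.hw]; decide))
      rw [← map_mul, ← map_mul, ← map_mul, ← map_mul] at h
      exact e.injective (CfsgLib.PSL2Max.phi_injective h)
    have hC : Nat.card (cen z) ≤ 12 := by
      have hsC : s ∈ cen z := mem_cen.2 hsz
      let f : Fin 2 × Fin 3 × Fin 2 → cen z := fun p =>
        ⟨z ^ (p.1 : ℕ) * w ^ (p.2.1 : ℕ) * s ^ (p.2.2 : ℕ),
          mul_mem (mul_mem (pow_mem H.z_cen _) (pow_mem H.w_cen _)) (pow_mem hsC _)⟩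
      refine (Nat.card_le_card_of_surjective f fun c => ?_).trans (le_of_eq (by simp))
      have hz : ∀ t ∈ T, ∃ i : Fin 2, t = z ^ (i : ℕ) := fun t ht => by
        rcases hT t ht with e | e
        · exact ⟨0, by simp [e]⟩
        · exact ⟨1, by simp [e]⟩
      have hw : ∀ i : ℕ, ∃ j : Fin 3, w ^ i = w ^ (j : ℕ) := fun i => ⟨⟨i % 3, Nat.mod_lt _ (by norm_num)⟩, by
        show w ^ i = w ^ (i % 3)
        rw [← H.hw, pow_mod_orderOf]⟩
      rcases N.top with h | ⟨s', hs', hs'T, -⟩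
      · exfalso
        obtain ⟨t, ht, d, hd, i, hsi⟩ := h s hsC
        rw [hD d hd, mul_one] at hsi
        obtain ⟨j, rfl⟩ := hz t ht
        have h := hs.2.1
        rw [hsi, (((H.hzw.pow_left (j : ℕ)).mul_left ((Commute.refl w).pow_left i)).eq), mul_inv_cancel_right] at h
        exact Nat.not_dvd_of_pos_of_lt Nat.two_pos (by norm_num : 2 < 3)
          (H.hw ▸ orderOf_dvd_of_pow_eq_one (show w ^ 2 = 1 by rw [sq]; nth_rw 1 [h]; exact inv_mul_cancel w))
      obtain ⟨t, ht, d, hd, i, hci⟩ : ∃ t ∈ T, ∃ d ∈ D, ∃ i : ℕ, (c : G) = t * d * w ^ i ∨ (c : G) = t * d * w ^ i * s := by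
        rcases N.top with h | ⟨s'', hs'', -, h⟩
        · obtain ⟨t, ht, d, hd, i, e⟩ := h c c.2
          exact ⟨t, ht, d, hd, i, Or.inl e⟩
        obtain ⟨t, ht, d, hd, i, e | e⟩ := h c c.2
        · exact ⟨t, ht, d, hd, i, Or.inl e⟩
        obtain ⟨t', ht', d', hd', i', e'⟩ := h s hsC
        rw [hD d' hd', mul_one] at e'
        obtain ⟨j, rfl⟩ := hz t' ht'
        rcases e' with e' | e'
        · exfalso
          have hh := hs.2.1
          rw [e', (((H.hzw.pow_left (j : ℕ)).mul_left ((Commute.refl w).pow_left i')).eq), mul_inv_cancel_right] at hh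
          exact Nat.not_dvd_of_pos_of_lt Nat.two_pos (by norm_num : 2 < 3)
            (H.hw ▸ orderOf_dvd_of_pow_eq_one (show w ^ 2 = 1 by rw [sq]; nth_rw 1 [hh]; exact inv_mul_cancel w))
        refine ⟨t * (z ^ (j : ℕ))⁻¹, mul_mem ht (inv_mem (pow_mem N.zT _)), d, hd, i + 2 * i', Or.inr ?_⟩
        have hw2 : w ^ (i + 2 * i') = w ^ i * (w ^ i')⁻¹ := by
          rw [eq_mul_inv_iff_mul_eq, ← pow_add, show i + 2 * i' + i' = i + 3 * i' by ring, pow_add, pow_mul, hw3,
            one_pow, mul_one]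
        rw [e, hD d hd, mul_one, mul_one, hw2, e']
        have hzi : Commute ((z ^ (j : ℕ))⁻¹) (w ^ i * (w ^ i')⁻¹) :=
          ((H.hzw.pow_pow _ _).inv_left).mul_right ((H.hzw.pow_pow _ _).inv_inv)
        rw [mul_assoc t ((z ^ (j : ℕ))⁻¹), hzi.eq]
        group
      obtain ⟨a, rfl⟩ := hz t ht
      obtain ⟨b, hb⟩ := hw i
      rw [hD d hd, mul_one] at hci
      rcases hci with e | e
      · exact ⟨(a, b, 0), Subtype.ext (by simp [f, e, hb])⟩
      · exact ⟨(a, b, 1), Subtype.ext (by simp [f, e, hb])⟩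
    have hC12 : Nat.card (cen z) = 12 := by
      have h4 : 4 ∣ Nat.card (cen z) := hc4 ▸ Subgroup.card_dvd_of_le hSC
      have h3' : 3 ∣ Nat.card (cen z) := H.hw ▸ Subgroup.orderOf_dvd_natCard _ H.w_cen
      have := Nat.le_of_dvd Nat.card_pos ((by norm_num : Nat.Coprime 4 3).mul_dvd_of_dvd_of_dvd h4 h3')
      omega
    have heq : Nat.card (Subgroup.centralizer ({x} : Set (Matrix.ProjectiveSpecialLinearGroup (Fin 2) F))) = 12 := by
      rw [← hC12]
      refine (Nat.card_congr (e.toEquiv.subtypeEquiv fun g => ?_)).symm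
      rw [mem_cen, Subgroup.mem_centralizer_singleton_iff]
      show Commute g z ↔ e g * e z = e z * e g
      rw [← map_mul, ← map_mul, e.injective.eq_iff]
      rfl
    obtain ⟨ε, hε, h4⟩ : ∃ ε : ℤ, (ε = 1 ∨ ε = -1) ∧ (4 : ℤ) ∣ (Fintype.card F : ℤ) - ε := by
      obtain ⟨k, hk⟩ := hodd
      rcases Nat.even_or_odd' k with ⟨m, rfl | rfl⟩
      · exact ⟨1, Or.inl rfl, ⟨m, by omega⟩⟩
      · exact ⟨-1, Or.inr rfl, ⟨m + 1, by omega⟩⟩
    have := CfsgLib.GW.Model.psl_card_centralizer hodd h3 hε h4 hx hx1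
    rw [heq] at this
    rcases hε with rfl | rfl <;> omega
  · exfalso
    have h8 : 2 ^ 3 ∣ Nat.card G := by
      rw [Nat.card_congr e.toEquiv, nat_card_alternatingGroup, Nat.card_eq_fintype_card, Fintype.card_fin]
      norm_num [Nat.factorial]
    have := S.pow_dvd_card_of_pow_dvd_card h8
    rw [hc4] at this
    norm_num at this

end Nil

end CfsgLib.SelfSix
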