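import Cfsg.Agent.Lib.SelfSix.Single
import Cfsg.Agent.Lib.SelfSix.Extra
import Cfsg.Agent.Lib.SelfSix.Double
import Cfsg.Agent.Lib.SelfSix.Core
import Cfsg.Agent.Lib.SelfSix.Small
import Cfsg.Agent.Lib.SelfSix.SDFinal
import Cfsg.Agent.Lib.SelfSix.Seven
import Cfsg.Agent.Lib.SelfSix.Five

/-!
Simple groups with one class of involutions and a self-centralising element of order six.
-/

set_option autoImplicit false
set_option linter.unusedSectionVars false
set_option linter.style.haveILetI false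

namespace CfsgLib.SelfSix

open Cfsg
open scoped commutatorElement

universe u

variable {G : Type u} [Group G] [Finite G] {z w : G} {T D : Subgroup G}

namespace Nil

variable (N : Nil G z w T D)
include N

/-- A second involution in `T` forces `J₁`. -/
theorem general [IsSimpleGroup G] (hG : ¬ IsMulCommutative G) {a : G} (ha : a ∈ T) (haa : a * a = 1) (ha1 : a ≠ 1)
    (haz : a ≠ z) : Cfsg.Spor.IsoJ1 G := by
  classical
  have hD := N.D_eq_bot hG ha (orderOf_two haa ha1) haz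
  by_cases hc : ∃ c ∈ T, c * c = 1 ∧ c ≠ 1 ∧ c ≠ z ∧ ∀ t ∈ T, Commute c t
  · obtain ⟨c, h1, h2, h3, h4, h5⟩ := hc
    exact N.central_case hG hD h1 h2 h3 h4 h5
  push Not at hc
  have hZ := N.center_small fun x hx hxx hxc => by
    by_contra h
    push Not at h
    obtain ⟨t, ht, htc⟩ := hc x hx hxx h.1 h.2
    exact htc (hxc t ht)
  rcases N.top_split hD with ⟨S, hS, htop⟩ | ⟨s, S, hs, hsT, hS, htop⟩
  · exfalso
    have hST : (S : Subgroup G) = T := Subgroup.ext hS
    by_cases hcomm : ∀ x ∈ T, ∀ y ∈ T, ⁅x, y⁆ = 1 ∨ ⁅x, y⁆ = z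
    · exact N.sylow_T_false hD S hST htop hZ ⟨ha, hcomm a ha⟩ haa ha1 haz
    · obtain ⟨b, hb, hbb, hb1, hbz⟩ := N.exists_derived_invol hcomm
      exact N.sylow_T_false hD S hST htop hZ (N.derived_mid hb) hbb hb1 hbz
  · by_cases hcomm : ∀ x ∈ T, ∀ y ∈ T, ⁅x, y⁆ = 1 ∨ ⁅x, y⁆ = z
    · exact (N.extra_false hG hD hs hsT htop hZ hcomm ha haa ha1 haz).elim
    · exact N.double_case hG hD hs htop hsT S hS hZ hcomm

end Nil

/-- The classification. -/
theorem classification [IsSimpleGroup G] (hG : ¬ IsMulCommutative G) (H : Hyp G z w) :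
    (∃ (F : Type) (_ : Field F) (_ : Fintype F), (Fintype.card F = 11 ∨ Fintype.card F = 13) ∧
        Nonempty (G ≃* Matrix.ProjectiveSpecialLinearGroup (Fin 2) F)) ∨
      (∃ (F : Type) (_ : Field F) (_ : Fintype F), Fintype.card F = 3 ∧
        Nonempty (G ≃* Matrix.ProjectiveSpecialLinearGroup (Fin 3) F)) ∨
      Cfsg.Spor.IsoM11 G ∨ Cfsg.Spor.IsoJ1 G := by
  classical
  rcases H.shapes with ⟨N₀, h⟩ | h | h
  · obtain ⟨T, D, N⟩ := H.nil_of_case h
    by_cases hsmall : ∀ x ∈ T, x = 1 ∨ x = z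
    · exact Or.inl (N.psl_of_small hG hsmall)
    by_cases hU : ∀ x ∈ T, x * x = 1 → x = 1 ∨ x = z
    · rcases N.quat_case hG hU hsmall with h | h
      · exact Or.inr (Or.inl h)
      · exact Or.inr (Or.inr (Or.inl h))
    push Not at hU
    obtain ⟨a, ha, haa, ha1, haz⟩ := hU
    exact Or.inr (Or.inr (Or.inr (N.general hG ha haa ha1 haz)))
  · obtain ⟨S, h8, hel⟩ := H.five hG h
    exact Or.inr (Or.inr (Or.inr (H.isoJ1_of_eight hG S h8 hel)))
  · exact absurd h (H.not_seven hG)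

end CfsgLib.SelfSix
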