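import Cfsg.Agent.Lib.SelfSix.Shape
import Cfsg.Agent.Lib.FpfSymThree.Basic
import Cfsg.Agent.Lib.NilpotentCommute

/-!
The soluble shape of the centraliser: `T × D` extended by a group of order three or six.
-/

set_option autoImplicit false
set_option linter.unusedSectionVars false
set_option linter.style.haveILetI false

namespace CfsgLib.SelfSix

open Cfsg

universe u

variable {G : Type u} [Group G] {z w : G}

/-- An element inverting `w` in the centraliser, with square in `⟨z⟩`. -/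
def Inverts (z w s : G) : Prop := Commute s z ∧ s * w * s⁻¹ = w⁻¹ ∧ (s * s = 1 ∨ s * s = z)

/-- The centraliser is `T D ⟨w⟩` or `T D ⟨w⟩ ⟨s⟩`. -/
structure Nil (G : Type u) [Group G] (z w : G) (T D : Subgroup G) : Prop where
  base : Hyp G z w
  hTC : T ≤ cen z
  hDC : D ≤ cen z
  zT : z ∈ T
  hT : IsPGroup 2 T
  hD : Odd (Nat.card D)
  hD3 : ¬ 3 ∣ Nat.card D
  normT : ∀ c ∈ cen z, ∀ x ∈ T, c * x * c⁻¹ ∈ T
  normD : ∀ c ∈ cen z, ∀ x ∈ D, c * x * c⁻¹ ∈ D
  comm : ∀ x ∈ T, ∀ d ∈ D, Commute x d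
  top : (∀ g ∈ cen z, ∃ x ∈ T, ∃ d ∈ D, ∃ i : ℕ, g = x * d * w ^ i) ∨
    ∃ s, Inverts z w s ∧ s ∉ T ∧
      ∀ g ∈ cen z, ∃ x ∈ T, ∃ d ∈ D, ∃ i : ℕ, g = x * d * w ^ i ∨ g = x * d * w ^ i * s

namespace Hyp

variable (H : Hyp G z w) [Finite G]
include H

theorem nil_of_case {N : Subgroup G} (h : NilCase z N) : ∃ T D : Subgroup G, Nil G z w T D := by
  classical
  obtain ⟨hNC, hzN, hnorm, hnil, h3, hidx⟩ := h
  haveI := hnil
  haveI : Fact (Nat.Prime 2) := ⟨Nat.prime_two⟩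
  haveI : Fact (Nat.Prime 3) := ⟨Nat.prime_three⟩
  obtain ⟨P⟩ : Nonempty (Sylow 2 N) := inferInstance
  haveI hPn : (P : Subgroup N).Normal := Sylow.normal_of_normalizerCondition Group.normalizerCondition_of_isNilpotent P
  obtain ⟨a, ha⟩ := IsPGroup.exists_card_eq P.2
  obtain ⟨K, hK⟩ := Subgroup.exists_right_complement'_of_coprime (N := (P : Subgroup N))
    (by rw [ha]; exact ((Nat.Prime.coprime_iff_not_dvd Nat.prime_two).2 P.not_dvd_index).pow_left a)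
  have hKodd : Odd (Nat.card K) := by
    have h1 := hK.card_mul
    rw [← Subgroup.card_mul_index (P : Subgroup N)] at h1
    rw [Nat.eq_of_mul_eq_mul_left Nat.card_pos h1]
    exact Nat.not_even_iff_odd.1 fun e => P.not_dvd_index (even_iff_two_dvd.1 e)
  have hPK : ∀ p ∈ (P : Subgroup N), ∀ k ∈ K, Commute p k := by
    intro p hp k hk
    obtain ⟨i, hi⟩ := P.2 ⟨p, hp⟩
    refine CfsgLib.commute_of_nilpotent p k (Nat.Coprime.coprime_dvd_left
      (orderOf_dvd_of_pow_eq_one (congrArg Subtype.val hi : p ^ 2 ^ i = 1)) (Nat.Coprime.pow_left i ?_))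
    exact (Nat.coprime_two_left.2 (hKodd.of_dvd_nat (Subgroup.orderOf_dvd_natCard K hk)))
  have hmemP : ∀ x : N, (∃ i, x ^ 2 ^ i = 1) → x ∈ (P : Subgroup N) := by
    rintro x ⟨i, hi⟩
    obtain ⟨⟨p, k⟩, rfl⟩ := hK.2 x
    simp only at hi ⊢
    rw [(hPK p p.2 k k.2).mul_pow, mul_eq_one_iff_eq_inv] at hi
    have h1 : (k : N) ^ 2 ^ i ∈ (P : Subgroup N) := by
      rw [← inv_inv ((k : N) ^ _), ← hi]
      exact inv_mem (pow_mem p.2 _)
    have h2 : (k : N) ^ 2 ^ i = 1 := Subgroup.disjoint_def.1 hK.disjoint h1 (pow_mem k.2 _)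
    have hk1 : (k : N) = 1 := orderOf_eq_one_iff.1 (Nat.eq_one_of_dvd_coprimes
      ((Nat.coprime_two_left.2 hKodd).pow_left i) (orderOf_dvd_of_pow_eq_one h2)
      (Subgroup.orderOf_dvd_natCard K k.2))
    rw [hk1, mul_one]
    exact p.2
  have hmemK : ∀ x : N, Odd (orderOf x) → x ∈ K := by
    intro x hx
    obtain ⟨⟨p, k⟩, rfl⟩ := hK.2 x
    simp only at hx ⊢
    obtain ⟨i, hi⟩ := P.2 p
    have h1 := pow_orderOf_eq_one ((p : N) * k)
    rw [(hPK p p.2 k k.2).mul_pow] at h1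
    have h2 : (p : N) ^ orderOf ((p : N) * k) = 1 :=
      Subgroup.disjoint_def.1 hK.disjoint (pow_mem p.2 _) (eq_inv_of_mul_eq_one_left h1 ▸ inv_mem (pow_mem k.2 _))
    have hp1 : (p : N) = 1 := orderOf_eq_one_iff.1 (Nat.eq_one_of_dvd_coprimes
      ((Nat.coprime_two_left.2 hx).pow_left i) (orderOf_dvd_of_pow_eq_one (congrArg Subtype.val hi : (p : N) ^ 2 ^ i = 1))
      (orderOf_dvd_of_pow_eq_one h2))
    rw [hp1, one_mul]
    exact k.2
  set T := (P : Subgroup N).map N.subtype with hT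
  set D := K.map N.subtype with hD
  have h2 : ∀ x ∈ T, ∃ i, x ^ 2 ^ i = 1 := by
    rintro _ ⟨p, hp, rfl⟩
    obtain ⟨i, hi⟩ := P.2 ⟨p, hp⟩
    have h : p ^ 2 ^ i = 1 := congrArg Subtype.val hi
    exact ⟨i, by rw [← map_pow, h, map_one]⟩
  have hzT : z ∈ T := ⟨⟨z, hzN⟩, hmemP _ ⟨1, Subtype.ext (by rw [pow_one, pow_two]; exact mul_self_of_two H.hz)⟩, rfl⟩
  have nT : ∀ c ∈ cen z, ∀ x ∈ T, c * x * c⁻¹ ∈ T := by
    intro c hc x hx
    obtain ⟨i, hi⟩ := h2 x hx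
    refine ⟨⟨c * x * c⁻¹, hnorm c hc x (Subgroup.map_subtype_le _ hx)⟩, hmemP _ ⟨i, Subtype.ext ?_⟩, rfl⟩
    show (c * x * c⁻¹) ^ 2 ^ i = 1
    rw [conj_pow, hi, mul_one, mul_inv_cancel]
  have nD : ∀ c ∈ cen z, ∀ x ∈ D, c * x * c⁻¹ ∈ D := by
    rintro c hc _ ⟨k, hk, rfl⟩
    refine ⟨⟨c * k * c⁻¹, hnorm c hc k k.2⟩, hmemK _ ?_, rfl⟩
    rw [← Subgroup.orderOf_coe, Subgroup.coe_mk, orderOf_conj, Subgroup.orderOf_coe]
    exact hKodd.of_dvd_nat (Subgroup.orderOf_dvd_natCard K hk)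
  have hfac : ∀ n ∈ N, ∃ x ∈ T, ∃ d ∈ D, n = x * d := by
    intro n hn
    obtain ⟨⟨p, k⟩, hpk⟩ := hK.2 ⟨n, hn⟩
    exact ⟨((p : N) : G), ⟨p, p.2, rfl⟩, ((k : N) : G), ⟨k, k.2, rfl⟩, (congrArg Subtype.val hpk).symm⟩
  have hcomm : ∀ x ∈ T, ∀ d ∈ D, Commute x d := by
    rintro _ ⟨p, hp, rfl⟩ _ ⟨k, hk, rfl⟩
    exact (hPK p hp k hk).map N.subtype
  -- the quotient
  set NC := N.subgroupOf (cen z) with hNCdef
  haveI : NC.Normal := ⟨fun n hn g => hnorm g g.2 n hn⟩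
  set q := QuotientGroup.mk' NC
  set wq := q ⟨w, H.w_cen⟩ with hwq
  have hq3 : wq ^ 3 = 1 := by
    rw [hwq, ← map_pow, show (⟨w, H.w_cen⟩ : cen z) ^ 3 = 1 from Subtype.ext (H.hw ▸ pow_orderOf_eq_one w), map_one]
  have hmemq : ∀ {c : cen z}, q c = 1 ↔ (c : G) ∈ N := fun {c} => QuotientGroup.eq_one_iff c
  have hord : orderOf wq = 3 := orderOf_eq_prime hq3 fun e => by
    have : w ∈ N := hmemq.1 e
    exact h3 (H.hw ▸ Subgroup.orderOf_dvd_natCard N this)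
  have hcardq : Nat.card (cen z ⧸ NC) = 3 ∨ Nat.card (cen z ⧸ NC) = 6 := hidx
  have hclosed : ∀ g : cen z, q g ∈ Subgroup.zpowers wq → ∃ x ∈ T, ∃ d ∈ D, ∃ i : ℕ, (g : G) = x * d * w ^ i := by
    intro g hg
    obtain ⟨i, hi⟩ := mem_powers_iff_mem_zpowers.2 hg
    have hn : ((g * (⟨w, H.w_cen⟩ ^ i)⁻¹ : cen z) : G) ∈ N := hmemq.1 (by
      rw [map_mul, map_inv, map_pow, ← hwq, show wq ^ i = q g from hi, mul_inv_cancel])
    obtain ⟨x, hx, d, hd, e⟩ := hfac _ hn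
    simp only [Subgroup.coe_mul, InvMemClass.coe_inv, SubmonoidClass.coe_pow] at e
    exact ⟨x, hx, d, hd, i, by rw [← e, inv_mul_cancel_right]⟩
  refine ⟨T, D, H, (Subgroup.map_subtype_le _).trans hNC, (Subgroup.map_subtype_le _).trans hNC, hzT,
    P.2.map _, ?_, ?_, nT, nD, hcomm, ?_⟩
  · rw [hD, Subgroup.card_map_of_injective N.subtype_injective]; exact hKodd
  · exact fun e => h3 (e.trans (Subgroup.card_dvd_of_le (Subgroup.map_subtype_le _)))
  by_cases hall : ∀ g : cen z, q g ∈ Subgroup.zpowers wq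
  · exact Or.inl fun g hg => hclosed ⟨g, hg⟩ (hall _)
  right
  push Not at hall
  obtain ⟨g, hg⟩ := hall
  have h6 : Nat.card (cen z ⧸ NC) = 6 := hcardq.resolve_left fun e => hg (by
    rw [zpowers_eq_top_of_prime_card e (fun h => by rw [h, orderOf_one] at hord; omega)]; trivial)
  set R := Subgroup.zpowers wq
  have hq1 : ∀ n : N, q (⟨n, hNC n.2⟩ : cen z) = 1 := fun n => hmemq.2 n.2
  have hRidx : R.index = 2 := by
    have := R.card_mul_index
    rw [Nat.card_zpowers, hord, h6] at this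
    omega
  haveI hRn : R.Normal := Subgroup.normal_of_index_eq_two hRidx
  have hφ : ∀ x : G, w * (w * (w * x * w) * w) * w = x := fun x => by
    rw [show w * (w * (w * x * w) * w) * w = w * (w * w) * x * (w * (w * w)) by group, ← pow_three,
      show w ^ 3 = 1 from H.hw ▸ pow_orderOf_eq_one w, one_mul, mul_one]
  obtain ⟨i, hi⟩ := mem_powers_iff_mem_zpowers.2 (hRn.conj_mem _ (Subgroup.mem_zpowers wq) (q g))
  have hi' : q g * wq * (q g)⁻¹ = wq ^ (i % 3) := by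
    rw [← hord, pow_mod_orderOf]; exact hi.symm
  have hinv : q g * wq * (q g)⁻¹ = wq⁻¹ := by
    obtain e | e | e : i % 3 = 0 ∨ i % 3 = 1 ∨ i % 3 = 2 := by omega
    · rw [e, pow_zero, conj_eq_one_iff] at hi'
      rw [hi', orderOf_one] at hord
      omega
    · exfalso
      rw [e, pow_one] at hi'
      -- a fixed element of the coset
      have hstab : ∀ n : N, (g : G)⁻¹ * (w * ((g : G) * n) * w⁻¹) ∈ N := by
        intro n
        have hm : ((g⁻¹ * (⟨w, H.w_cen⟩ * (g * ⟨n, hNC n.2⟩) * ⟨w, H.w_cen⟩⁻¹) : cen z) : G) ∈ N := hmemq.1 (by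
          rw [map_mul, map_mul, map_mul, map_mul, map_inv, map_inv, hq1 n, ← hwq, mul_one,
            show wq * q g = q g * wq from (mul_inv_eq_iff_eq_mul.1 hi').symm, mul_inv_cancel_right, inv_mul_cancel])
        exact hm
      obtain ⟨n, hn⟩ := CfsgLib.FpfSymThree.exists_fixed_three
        (fun n : N => (⟨_, hstab n⟩ : N)) (fun n => Subtype.ext (by
          show (g : G)⁻¹ * (w * ((g : G) * ((g : G)⁻¹ * (w * ((g : G) * ((g : G)⁻¹ * (w * ((g : G) * n) * w⁻¹))) * w⁻¹))) * w⁻¹) = n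
          have h3' : w ^ 3 = 1 := H.hw ▸ pow_orderOf_eq_one w
          calc _ = (g : G)⁻¹ * ((w * w * w) * ((g : G) * n) * (w * w * w)⁻¹) := by group
            _ = n := by rw [← pow_three', h3']; group)) h3
      have hfix : w * ((g : G) * n) * w⁻¹ = (g : G) * n := by
        have := congrArg Subtype.val hn
        simp only at this
        exact inv_mul_eq_iff_eq_mul.1 this
      have hgn : Commute ((g : G) * n) z := (mem_cen.1 g.2).mul_left (mem_cen.1 (hNC n.2))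
      have hgq : q (g * ⟨n, hNC n.2⟩) = q g := by rw [map_mul, hq1 n, mul_one]
      rcases H.cent_cases hgn ((mul_inv_eq_iff_eq_mul.1 hfix).symm) with h | ⟨v, hv, e'⟩
      · obtain ⟨j, hj⟩ := Subgroup.mem_zpowers_iff.1 h
        refine hg ⟨j, ?_⟩
        show wq ^ j = q g
        rw [← hgq, hwq, ← map_zpow]
        exact congrArg q (Subtype.ext hj)
      · obtain ⟨j, rfl⟩ := Subgroup.mem_zpowers_iff.1 hv
        refine hg ⟨j, ?_⟩
        show wq ^ j = q g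
        rw [← hgq, hwq, ← map_zpow, show g * ⟨n, hNC n.2⟩ = zin z * (⟨w, H.w_cen⟩ : cen z) ^ j from Subtype.ext e',
          map_mul, hmemq.2 (show ((zin z : cen z) : G) ∈ N from hzN), one_mul]
    · rw [e] at hi'
      rw [hi']
      exact eq_inv_of_mul_eq_one_left (by rw [← pow_succ, hq3])
  have hstab : ∀ n : N, (g : G)⁻¹ * (w * ((g : G) * n) * w) ∈ N := by
    intro n
    have hm : ((g⁻¹ * (⟨w, H.w_cen⟩ * (g * ⟨n, hNC n.2⟩) * ⟨w, H.w_cen⟩) : cen z) : G) ∈ N := hmemq.1 (by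
      rw [map_mul, map_mul, map_mul, map_mul, map_inv, hq1 n, ← hwq, mul_one]
      have e2 : q g * wq = wq⁻¹ * q g := mul_inv_eq_iff_eq_mul.1 hinv
      rw [mul_assoc wq, e2, mul_inv_cancel_left, inv_mul_cancel])
    exact hm
  obtain ⟨n, hn⟩ := CfsgLib.FpfSymThree.exists_fixed_three
    (fun n : N => (⟨_, hstab n⟩ : N)) (fun n => Subtype.ext (by
      show (g : G)⁻¹ * (w * ((g : G) * ((g : G)⁻¹ * (w * ((g : G) * ((g : G)⁻¹ * (w * ((g : G) * n) * w))) * w))) * w) = n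
      rw [mul_inv_cancel_left, mul_inv_cancel_left, hφ, inv_mul_cancel_left])) h3
  set s := (g : G) * n with hs
  have hfix : w * s * w = s := inv_mul_eq_iff_eq_mul.1 (congrArg Subtype.val hn)
  have hsz : Commute s z := (mem_cen.1 g.2).mul_left (mem_cen.1 (hNC n.2))
  have hsw : s * w * s⁻¹ = w⁻¹ := by
    rw [mul_inv_eq_iff_eq_mul]
    calc s * w = w⁻¹ * (w * s * w) := by group
      _ = w⁻¹ * s := by rw [hfix]
  have hgs : q ⟨s, mem_cen.2 hsz⟩ = q g := by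
    rw [show (⟨s, mem_cen.2 hsz⟩ : cen z) = g * ⟨n, hNC n.2⟩ from rfl, map_mul, hq1 n, mul_one]
  have hss : s * s = 1 ∨ s * s = z := by
    have hc : Commute (s * s) w := by
      refine mul_inv_eq_iff_eq_mul.1 ?_
      calc s * s * w * (s * s)⁻¹ = s * (s * w * s⁻¹) * s⁻¹ := by group
        _ = s * w⁻¹ * s⁻¹ := by rw [hsw]
        _ = (s * w * s⁻¹)⁻¹ := by group
        _ = w := by rw [hsw, inv_inv]
    have key : ∀ v ∈ Subgroup.zpowers w, Commute s v → v = 1 := by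
      intro v hv hsv
      obtain ⟨j, rfl⟩ := Subgroup.mem_zpowers_iff.1 hv
      have h1 : s * w ^ j * s⁻¹ = (w ^ j)⁻¹ := by rw [← conj_zpow, hsw, inv_zpow]
      rw [hsv.eq, mul_inv_cancel_right] at h1
      have h2 : (w ^ j) ^ 2 = 1 := by rw [pow_two]; nth_rewrite 2 [h1]; exact mul_inv_cancel _
      have h3' : (w ^ j) ^ 3 = 1 := by
        rw [← zpow_natCast, ← zpow_mul, mul_comm, zpow_mul, zpow_natCast,
          show w ^ 3 = 1 from H.hw ▸ pow_orderOf_eq_one w, one_zpow]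
      rwa [pow_succ, h2, one_mul] at h3'
    rcases H.cent_cases (hsz.mul_left hsz) hc with h | ⟨v, hv, e⟩
    · exact Or.inl (key _ h ((Commute.refl s).mul_right (Commute.refl s)))
    · refine Or.inr ?_
      have hv1 : Commute s v := by
        have h1 : Commute s (z * v) := e ▸ (Commute.refl s).mul_right (Commute.refl s)
        have h2 : Commute s (z⁻¹ * (z * v)) := hsz.inv_right.mul_right h1
        rwa [inv_mul_cancel_left] at h2
      rw [e, key v hv hv1, mul_one]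
  have hsT : s ∉ T := fun h => hg (by
    rw [← hgs, show q ⟨s, mem_cen.2 hsz⟩ = 1 from hmemq.2 (Subgroup.map_subtype_le _ h)]
    exact one_mem R)
  refine ⟨s, ⟨hsz, hsw, hss⟩, hsT, fun y hy => ?_⟩
  by_cases hyR : q ⟨y, hy⟩ ∈ R
  · obtain ⟨x, hx, d, hd, j, e⟩ := hclosed _ hyR
    exact ⟨x, hx, d, hd, j, Or.inl e⟩
  · have hmem : q (⟨y, hy⟩ * ⟨s, mem_cen.2 hsz⟩⁻¹) ∈ R := by
      rw [map_mul, map_inv, hgs, Subgroup.mul_mem_iff_of_index_two hRidx, inv_mem_iff]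
      exact iff_of_false hyR hg
    obtain ⟨x, hx, d, hd, j, e⟩ := hclosed _ hmem
    simp only [Subgroup.coe_mul, InvMemClass.coe_inv] at e
    exact ⟨x, hx, d, hd, j, Or.inr (by rw [← e, inv_mul_cancel_right])⟩

end Hyp

end CfsgLib.SelfSix
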