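import Cfsg.Agent.Lib.SelfSix.Central
import Cfsg.Agent.Lib.SelfSix.Derived

/-!
When `T` is a Sylow subgroup: the parabolic subgroup at a four-group normal in `T`.
-/

set_option autoImplicit false
set_option linter.unusedSectionVars false
set_option linter.style.haveILetI false

namespace CfsgLib.SelfSix

open Cfsg

universe u

variable {G : Type u} [Group G] [Finite G] {z w : G} {T D : Subgroup G}

/-- The parabolic subgroup over `K`. -/
structure Para (P K T : Subgroup G) : Prop where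
  hTP : T ≤ P
  hKT : K ≤ T
  norm : ∀ p ∈ P, ∀ k ∈ K, p * k * p⁻¹ ∈ K
  idx : (K.subgroupOf P).index = 6
  gens : ∃ d ∈ P, ∃ t ∈ P, d ^ 3 ∈ K ∧ d ∉ K ∧ t * d * t⁻¹ * d ∈ K
  fpf : ∀ e ∈ P, e ^ 3 = 1 → e ≠ 1 → ∀ k ∈ K, Commute k e → k = 1

namespace Nil

variable (N : Nil G z w T D)
include N

/-- 2-elements of the centraliser lie in `T`. -/
theorem two_mem (hD : D = ⊥) (htop : ∀ g ∈ cen z, ∃ x ∈ T, ∃ d ∈ D, ∃ i : ℕ, g = x * d * w ^ i) {c : G}
    (hc : c ∈ cen z) {k : ℕ} (hk : c ^ 2 ^ k = 1) : c ∈ T := by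
  obtain ⟨x, hx, d, hd, i, e⟩ := htop c hc
  rw [hD, Subgroup.mem_bot] at hd
  rw [hd, mul_one] at e
  rw [e] at hk
  rw [e, N.twist_trivial hx i hk, mul_one]
  exact hx

theorem exists_para (hD : D = ⊥) (S : Sylow 2 G) (hS : (S : Subgroup G) = T)
    (htop : ∀ g ∈ cen z, ∃ x ∈ T, ∃ d ∈ D, ∃ i : ℕ, g = x * d * w ^ i)
    (hZ : ∀ y ∈ T, (∀ t ∈ T, Commute y t) → y = 1 ∨ y = z)
    {a : G} (ha : Mid z T a) (haa : a * a = 1) (ha1 : a ≠ 1) (haz : a ≠ z) :
    ∃ P : Subgroup G, Para P (T ⊓ cen a) T := by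
  classical
  haveI : Fact (Nat.Prime 2) := ⟨Nat.prime_two⟩
  haveI : Fact (Nat.Prime 3) := ⟨Nat.prime_three⟩
  have H := N.base
  set K := T ⊓ cen a
  have hza : Commute z a := (N.z_comm ha.1).symm
  have hKmem : ∀ {c : G}, c ∈ K ↔ Commute c z ∧ Commute c a := fun {c} =>
    ⟨fun h => ⟨N.z_comm h.1, mem_cen.1 h.2⟩,
      fun h => ⟨N.pair_mem hD htop ha.1 ha1 haz (mem_cen.2 h.1) h.2, mem_cen.2 h.2⟩⟩
  have hzK : z ∈ K := hKmem.2 ⟨Commute.refl z, hza⟩
  obtain ⟨t, ht, hta⟩ : ∃ t ∈ T, ¬ Commute t a := by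
    by_contra h
    push Not at h
    exact (hZ a ha.1 fun t ht => (h t ht).symm).elim ha1 haz
  have hmove : ∀ b ∈ T, ¬ Commute b a → b * a * b⁻¹ = a * z := fun b hb h => N.mid_move ha hb h
  have hKT : K ≤ T := inf_le_left
  have hiT : (K.subgroupOf T).index = 2 := by
    refine Subgroup.index_eq_two_iff.2 ⟨⟨t, ht⟩, fun b => ?_⟩
    by_cases hb : (b : G) ∈ K
    · refine Or.inr ⟨hb, fun h => hta ?_⟩
      have h2 : (b : G) * t ∈ K := h
      have := mul_mem (inv_mem hb) h2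
      rw [inv_mul_cancel_left] at this
      exact (hKmem.1 this).2
    · refine Or.inl ⟨?_, hb⟩
      have hba : ¬ Commute (b : G) a := fun h => hb ⟨b.2, mem_cen.2 h⟩
      refine ⟨mul_mem b.2 ht, mem_cen.2 (mul_inv_eq_iff_eq_mul.1 ?_)⟩
      calc (b : G) * t * a * ((b : G) * t)⁻¹ = (b : G) * (t * a * t⁻¹) * (b : G)⁻¹ := by group
        _ = ((b : G) * a * (b : G)⁻¹) * ((b : G) * z * (b : G)⁻¹) := by rw [hmove t ht hta]; group
        _ = a := by
          rw [hmove b b.2 hba, (N.z_comm b.2).eq, mul_inv_cancel_right, mul_assoc, mul_self_of_two H.hz, mul_one]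
  have hcT : Nat.card T = 2 * Nat.card K := by
    rw [← Subgroup.card_mul_index (K.subgroupOf T), hiT, mul_comm,
      Nat.card_congr (Subgroup.subgroupOfEquivOfLe hKT).toEquiv]
  have hcS : ∀ S' : Sylow 2 G, Nat.card (S' : Subgroup G) = Nat.card T := fun S' => by
    rw [Sylow.card_eq_multiplicity, ← Sylow.card_eq_multiplicity S, hS]
  -- the Sylow subgroup at `a`
  obtain ⟨g₀, hg₀⟩ := H.exists_conj (orderOf_two haa ha1)
  obtain ⟨g, hg⟩ : ∃ g : G, g * z * g⁻¹ = a := ⟨g₀⁻¹, by rw [← hg₀]; group⟩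
  have N' := N.map g
  set T' := T.map (MulAut.conj g).toMonoidHom
  have hD' : D.map (MulAut.conj g).toMonoidHom = ⊥ := by rw [hD, Subgroup.map_bot]
  have hcT' : Nat.card T' = Nat.card T := Subgroup.card_map_of_injective (MulAut.conj g).injective
  obtain ⟨⟨htop'⟩⟩ : Nonempty (PLift (∀ c ∈ cen (g * z * g⁻¹), ∃ x ∈ T', ∃ d ∈ D.map (MulAut.conj g).toMonoidHom,
      ∃ i : ℕ, c = x * d * (g * w * g⁻¹) ^ i)) := by
    rcases N'.top_split hD' with ⟨_, _, h⟩ | ⟨s, S', hs, -, -, -⟩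
    · exact ⟨⟨h⟩⟩
    · exfalso
      have h := N'.card_sylow_of_inverting hD' (mem_cen.2 hs.1) hs.2.1 S'
      rw [hcS, hcT'] at h
      have := Nat.card_pos (α := T)
      omega
  have hKT' : K ≤ T' := fun c hc => by
    obtain ⟨k, hk⟩ := N.hT ⟨c, hc.1⟩
    exact N'.two_mem hD' htop' (c := c) (hg ▸ hc.2) (congrArg Subtype.val hk : c ^ 2 ^ k = 1)
  have hTa : ∀ u ∈ T', Commute u a := fun u hu => hg ▸ mem_cen.1 (N'.hTC hu)
  obtain ⟨t₁, ht₁, ht₁z⟩ : ∃ t₁ ∈ T', ¬ Commute t₁ z := by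
    by_contra h
    push Not at h
    have hle : T' ≤ K := fun u hu => hKmem.2 ⟨h u hu, hTa u hu⟩
    have := Subgroup.card_le_of_le hle
    have := Nat.card_pos (α := K)
    omega
  have hiT' : (K.subgroupOf T').index = 2 := by
    have := Subgroup.card_mul_index (K.subgroupOf T')
    rw [Nat.card_congr (Subgroup.subgroupOfEquivOfLe hKT').toEquiv, hcT', hcT, mul_comm 2] at this
    exact Nat.eq_of_mul_eq_mul_left Nat.card_pos this
  have ht₁K : t₁ ∉ K := fun h => ht₁z (hKmem.1 h).1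
  have ht₁n : ∀ k ∈ K, t₁⁻¹ * k * t₁ ∈ K := fun k hk => by
    haveI : (K.subgroupOf T').Normal := Subgroup.normal_of_index_eq_two hiT'
    have := (inferInstance : (K.subgroupOf T').Normal).conj_mem ⟨k, hKT' hk⟩ hk ⟨t₁, ht₁⟩⁻¹
    simpa [Subgroup.mem_subgroupOf] using this
  have ht₁2 : t₁ * t₁ ∈ K := by
    have := Subgroup.mul_self_mem_of_index_two hiT' (⟨t₁, ht₁⟩ : T')
    exact this
  -- the image of `z` under `t₁`
  set x := t₁ * z * t₁⁻¹ with hx
  have hxK : ∀ k ∈ K, Commute k x := fun k hk => by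
    have h := commute_conj t₁ (hKmem.1 (ht₁n k hk)).1
    rwa [show t₁ * (t₁⁻¹ * k * t₁) * t₁⁻¹ = k by group] at h
  have hxz : x = z * a := by
    have hc : ∀ u ∈ T', Commute (z * x) u := by
      have h1 : Commute (z * x) t₁ := by
        refine (mul_inv_eq_iff_eq_mul.1 ?_).symm
        calc t₁ * (z * x) * t₁⁻¹ = x * (t₁ * t₁ * z * (t₁ * t₁)⁻¹) := by rw [hx]; group
          _ = x * z := by rw [(hKmem.1 ht₁2).1.eq, mul_inv_cancel_right]
          _ = z * x := (hxK z hzK).eq.symm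
      have h2 : ∀ k ∈ K, Commute (z * x) k := fun k hk => ((hKmem.1 hk).1.symm).mul_left (hxK k hk).symm
      intro u hu
      by_cases huK : u ∈ K
      · exact h2 u huK
      · have hm : u * t₁⁻¹ ∈ K := by
          have := (Subgroup.mul_mem_iff_of_index_two hiT' (a := (⟨u, hu⟩ : T')) (b := ⟨t₁, ht₁⟩⁻¹)).2
            (iff_of_false huK (fun h => ht₁K (by simpa [Subgroup.mem_subgroupOf] using h)))
          exact this
        have := (h2 _ hm).mul_right h1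
        rwa [inv_mul_cancel_right] at this
    have hxT : x ∈ T' := mul_mem (mul_mem ht₁ (hKT' hzK)) (inv_mem ht₁)
    obtain ⟨y, hy, hye⟩ : z * x ∈ T' := mul_mem (hKT' hzK) hxT
    have hyc : ∀ u ∈ T, Commute y u := fun u hu => by
      have h := commute_conj g⁻¹ (hc _ ⟨u, hu, rfl⟩)
      rw [← hye] at h
      simpa [MulAut.conj_apply, mul_assoc] using h
    have hye' : g * y * g⁻¹ = z * x := hye
    rcases hZ y hy hyc with e | e <;> rw [e] at hye'
    · exfalso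
      rw [mul_one, mul_inv_cancel] at hye'
      have hxe : x = z := by
        calc x = z⁻¹ * (z * x) := by group
          _ = z := by rw [← hye', mul_one, inv_of_two H.hz]
      exact ht₁z (mul_inv_eq_iff_eq_mul.1 hxe)
    · rw [hg] at hye'
      rw [hye', ← mul_assoc, mul_self_of_two H.hz, one_mul]
  -- the normaliser of the four-group
  set Ω : Set G := {z, a, z * a}
  set P := Subgroup.normalizer Ω
  have hmemΩ : ∀ {v : G}, v ∈ Ω ↔ v = z ∨ v = a ∨ v = z * a := fun {v} => by simp [Ω]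
  have hofimg : ∀ p : G, p * z * p⁻¹ ∈ Ω → p * a * p⁻¹ ∈ Ω → p * (z * a) * p⁻¹ ∈ Ω → p ∈ P :=
    fun p h1 h2 h3 => Subgroup.mem_normalizer_fintype fun n hn => by
      rcases hmemΩ.1 hn with rfl | rfl | rfl
      exacts [h1, h2, h3]
  have hP : ∀ p ∈ P, ∀ v ∈ Ω, p * v * p⁻¹ ∈ Ω := fun p hp v hv => (Subgroup.mem_set_normalizer_iff.1 hp v).1 hv
  have hTfix : ∀ b ∈ T, b * z * b⁻¹ = z := fun b hb => by rw [(N.z_comm hb).eq, mul_inv_cancel_right]
  have hzzaz : z * (a * z) = a := by rw [hza.symm.eq, ← mul_assoc, mul_self_of_two H.hz, one_mul]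
  have hTP : T ≤ P := fun b hb => by
    by_cases hba : Commute b a
    · have e : b * a * b⁻¹ = a := by rw [hba.eq, mul_inv_cancel_right]
      refine hofimg b ?_ ?_ ?_
      · rw [hTfix b hb]; exact hmemΩ.2 (Or.inl rfl)
      · rw [e]; exact hmemΩ.2 (Or.inr (Or.inl rfl))
      · rw [← conj_mul, hTfix b hb, e]; exact hmemΩ.2 (Or.inr (Or.inr rfl))
    · refine hofimg b ?_ ?_ ?_
      · rw [hTfix b hb]; exact hmemΩ.2 (Or.inl rfl)
      · rw [hmove b hb hba, hza.symm.eq]; exact hmemΩ.2 (Or.inr (Or.inr rfl))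
      · rw [← conj_mul, hTfix b hb, hmove b hb hba, hzzaz]; exact hmemΩ.2 (Or.inr (Or.inl rfl))
  have ha' : t₁ * a * t₁⁻¹ = a := by rw [(hTa t₁ ht₁).eq, mul_inv_cancel_right]
  have ht₁P : t₁ ∈ P := by
    refine hofimg t₁ ?_ ?_ ?_
    · rw [← hx, hxz]; exact hmemΩ.2 (Or.inr (Or.inr rfl))
    · rw [ha']; exact hmemΩ.2 (Or.inr (Or.inl rfl))
    · rw [← conj_mul, ← hx, hxz, ha', mul_assoc, haa, mul_one]; exact hmemΩ.2 (Or.inl rfl)
  set d := t * t₁
  have hdz : d * z * d⁻¹ = a := by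
    calc d * z * d⁻¹ = t * x * t⁻¹ := by simp only [hx, d]; group
      _ = (t * z * t⁻¹) * (t * a * t⁻¹) := by rw [hxz]; group
      _ = a := by rw [hTfix t ht, hmove t ht hta, hzzaz]
  have hda : d * a * d⁻¹ = a * z := by
    calc d * a * d⁻¹ = t * (t₁ * a * t₁⁻¹) * t⁻¹ := by simp only [d]; group
      _ = a * z := by rw [ha', hmove t ht hta]
  have hdaz : d * (a * z) * d⁻¹ = z := by
    rw [← conj_mul, hda, hdz, hza.symm.eq, mul_assoc, haa, mul_one]
  have hdP : d ∈ P := mul_mem (hTP ht) ht₁P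
  have hnorm : ∀ p ∈ P, ∀ k ∈ K, p * k * p⁻¹ ∈ K := by
    intro p hp k hk
    have hkΩ : ∀ v ∈ Ω, Commute k v := fun v hv => by
      rcases hmemΩ.1 hv with rfl | rfl | rfl
      exacts [(hKmem.1 hk).1, (hKmem.1 hk).2, (hKmem.1 hk).1.mul_right (hKmem.1 hk).2]
    have key : ∀ v ∈ Ω, Commute (p * k * p⁻¹) v := fun v hv => by
      have h := commute_conj p (hkΩ _ (hP p⁻¹ (inv_mem hp) v hv))
      rwa [show p * (p⁻¹ * v * p⁻¹⁻¹) * p⁻¹ = v by group] at h
    exact hKmem.2 ⟨key z (hmemΩ.2 (Or.inl rfl)), key a (hmemΩ.2 (Or.inr (Or.inl rfl)))⟩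
  haveI hKn : (K.subgroupOf P).Normal := ⟨fun k hk p => hnorm p p.2 k hk⟩
  set q := QuotientGroup.mk' (K.subgroupOf P)
  have hq : ∀ {c : P}, q c = 1 ↔ (c : G) ∈ K := fun {c} => QuotientGroup.eq_one_iff c
  set A := q ⟨d, hdP⟩
  set B := q ⟨t, hTP ht⟩
  have hfix : ∀ {p : G}, p * z * p⁻¹ = z → p * a * p⁻¹ = a → p ∈ K := fun h1 h2 =>
    hKmem.2 ⟨mul_inv_eq_iff_eq_mul.1 h1, mul_inv_eq_iff_eq_mul.1 h2⟩
  have hd3 : d ^ 3 ∈ K := by
    refine hfix ?_ ?_
    · calc d ^ 3 * z * (d ^ 3)⁻¹ = d * (d * (d * z * d⁻¹) * d⁻¹) * d⁻¹ := by rw [pow_three']; group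
        _ = z := by rw [hdz, hda, hdaz]
    · calc d ^ 3 * a * (d ^ 3)⁻¹ = d * (d * (d * a * d⁻¹) * d⁻¹) * d⁻¹ := by rw [pow_three']; group
        _ = a := by rw [hda, hdaz, hdz]
  have hdK : d ∉ K := fun h => haz (by
    have := (hKmem.1 h).1
    rw [this.eq, mul_inv_cancel_right] at hdz
    exact hdz.symm)
  have ht'a : t⁻¹ * a * t = a * z := by
    have h : ¬ Commute t⁻¹ a := fun h => hta (by simpa using h.inv_left)
    have := hmove t⁻¹ (inv_mem ht) h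
    rwa [inv_inv] at this
  have ht'z : t⁻¹ * z * t = z := by
    have := hTfix t⁻¹ (inv_mem ht)
    rwa [inv_inv] at this
  have htd : t * d * t⁻¹ * d ∈ K := by
    refine hfix ?_ ?_
    · calc t * d * t⁻¹ * d * z * (t * d * t⁻¹ * d)⁻¹ = t * (d * (t⁻¹ * (d * z * d⁻¹) * t) * d⁻¹) * t⁻¹ := by group
        _ = z := by rw [hdz, ht'a, hdaz, hTfix t ht]
    · calc t * d * t⁻¹ * d * a * (t * d * t⁻¹ * d)⁻¹ = t * (d * (t⁻¹ * (d * a * d⁻¹) * t) * d⁻¹) * t⁻¹ := by group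
        _ = t * (d * ((t⁻¹ * a * t) * (t⁻¹ * z * t)) * d⁻¹) * t⁻¹ := by rw [hda]; group
        _ = a := by
          rw [ht'a, ht'z, mul_assoc a z z, mul_self_of_two H.hz, mul_one, hda, ← conj_mul, hmove t ht hta,
            hTfix t ht, mul_assoc, mul_self_of_two H.hz, mul_one]
  have hA : orderOf A = 3 := orderOf_eq_prime (by rw [← map_pow]; exact hq.2 hd3) fun e => hdK (hq.1 e)
  have hB : orderOf B = 2 := by
    refine orderOf_eq_prime ?_ fun e => hta (hKmem.1 (hq.1 e)).2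
    rw [pow_two, ← map_mul]
    refine hq.2 ?_
    exact Subgroup.mul_self_mem_of_index_two hiT (⟨t, ht⟩ : T)
  have hinvB : B * A * B⁻¹ = A⁻¹ := by
    refine eq_inv_of_mul_eq_one_left ?_
    rw [← map_inv, ← map_mul, ← map_mul, ← map_mul]
    exact hq.2 htd
  have hidx : (K.subgroupOf P).index = 6 := by
    refine Nat.le_antisymm ?_ (Nat.le_of_dvd (Nat.pos_of_ne_zero Subgroup.FiniteIndex.index_ne_zero)
      (Nat.Coprime.mul_dvd_of_dvd_of_dvd (by norm_num : Nat.Coprime 3 2) (hA ▸ orderOf_dvd_natCard A)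
        (hB ▸ orderOf_dvd_natCard B)))
    let f : Fin 3 × Fin 2 → P ⧸ K.subgroupOf P := fun p => A ^ (p.1 : ℕ) * B ^ (p.2 : ℕ)
    have hf : Function.Surjective f := by
      intro y
      obtain ⟨p, rfl⟩ := QuotientGroup.mk'_surjective _ y
      obtain ⟨i, hi, hiv⟩ : ∃ i : ℕ, i < 3 ∧ d ^ i * z * (d ^ i)⁻¹ = (p : G) * z * (p : G)⁻¹ := by
        rcases hmemΩ.1 (hP p p.2 z (hmemΩ.2 (Or.inl rfl))) with e | e | e
        · exact ⟨0, by norm_num, by rw [e]; group⟩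
        · exact ⟨1, by norm_num, by rw [e, pow_one, hdz]⟩
        · refine ⟨2, by norm_num, ?_⟩
          rw [e, show d ^ 2 * z * (d ^ 2)⁻¹ = d * (d * z * d⁻¹) * d⁻¹ by rw [pow_two]; group, hdz, hda, hza.eq]
      set p' := (d ^ i)⁻¹ * (p : G) with hp'
      have hp'z : p' * z * p'⁻¹ = z := by
        calc p' * z * p'⁻¹ = (d ^ i)⁻¹ * ((p : G) * z * (p : G)⁻¹) * d ^ i := by rw [hp']; group
          _ = z := by rw [← hiv]; group
      have hp'P : p' ∈ P := mul_mem (inv_mem (pow_mem hdP i)) p.2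
      rcases hmemΩ.1 (hP p' hp'P a (hmemΩ.2 (Or.inr (Or.inl rfl)))) with e | e | e
      · exfalso
        exact haz (mul_left_cancel (mul_right_cancel (e.trans hp'z.symm)))
      · refine ⟨(⟨i, hi⟩, 0), ?_⟩
        show A ^ i * B ^ 0 = q p
        rw [pow_zero, mul_one, ← map_pow]
        exact (QuotientGroup.eq).2 (show ((⟨d, hdP⟩ : P) ^ i : P)⁻¹ * p ∈ K.subgroupOf P from hfix hp'z e)
      · refine ⟨(⟨i, hi⟩, 1), ?_⟩
        show A ^ i * B ^ 1 = q p
        rw [pow_one, ← map_pow, ← map_mul]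
        refine (QuotientGroup.eq).2 ?_
        show (d ^ i * t)⁻¹ * (p : G) ∈ K
        rw [mul_inv_rev, mul_assoc, ← hp']
        refine hfix ?_ ?_
        · calc t⁻¹ * p' * z * (t⁻¹ * p')⁻¹ = t⁻¹ * (p' * z * p'⁻¹) * t := by group
            _ = z := by rw [hp'z, ht'z]
        · calc t⁻¹ * p' * a * (t⁻¹ * p')⁻¹ = t⁻¹ * (p' * a * p'⁻¹) * t := by group
            _ = (t⁻¹ * z * t) * (t⁻¹ * a * t) := by rw [e]; group
            _ = a := by rw [ht'z, ht'a, hzzaz]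
    have := Nat.card_le_card_of_surjective f hf
    rwa [Nat.card_prod, Nat.card_fin, Nat.card_fin] at this
  refine ⟨P, hTP, hKT, hnorm, hidx, ⟨d, hdP, t, hTP ht, hd3, hdK, htd⟩, fun e he he3 he1 k hk hke => ?_⟩
  by_contra hk1
  set C := K ⊓ cen e
  have hC2 : IsPGroup 2 C := N.hT.to_le (inf_le_left.trans hKT)
  have hCne : C ≠ ⊥ := fun h => hk1 (Subgroup.mem_bot.1 (h ▸ (⟨hk, mem_cen.2 hke⟩ : k ∈ C)))
  obtain ⟨v, hvC, hv2, hvc⟩ := meets_center hC2 le_rfl (fun s hs m hm => mul_mem (mul_mem hs hm) (inv_mem hs)) hCne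
  have heo : orderOf e = 3 := orderOf_eq_prime he3 he1
  have hCv : ∀ y ∈ C, y = 1 ∨ y = v := fun y hy => by
    obtain ⟨n, hn⟩ := hC2 ⟨y, hy⟩
    exact H.cent_two' hv2 heo (mem_cen.1 hvC.2) (hvc y hy).symm (mem_cen.1 hy.2)
      (congrArg Subtype.val hn : y ^ 2 ^ n = 1)
  -- `t` inverts `e` modulo `K`
  have hE : B⁻¹ * q ⟨e, he⟩ * B = (q ⟨e, he⟩)⁻¹ := by
    set A' := Subgroup.zpowers A
    have hA' : A'.index = 2 := by
      have h := A'.card_mul_index
      rw [Nat.card_zpowers, hA, show Nat.card (P ⧸ K.subgroupOf P) = 6 from hidx] at h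
      omega
    haveI : A'.Normal := Subgroup.normal_of_index_eq_two hA'
    have hm : q ⟨e, he⟩ ∈ A' := by
      rw [← QuotientGroup.eq_one_iff]
      refine orderOf_eq_one_iff.1 (Nat.eq_one_of_dvd_coprimes (by norm_num : Nat.Coprime 3 2) ?_ ?_)
      · refine (orderOf_map_dvd (QuotientGroup.mk' A') _).trans ((orderOf_map_dvd q _).trans ?_)
        rw [Subgroup.orderOf_mk, heo]
      · rw [← hA']; exact orderOf_dvd_natCard _
    obtain ⟨i, hi⟩ := Subgroup.mem_zpowers_iff.1 hm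
    rw [← hi, ← inv_zpow, show B⁻¹ * A ^ i * B = (B⁻¹ * A * B⁻¹⁻¹) ^ i by rw [conj_zpow, inv_inv]]
    congr 1
    have hBB : B⁻¹ = B := inv_eq_of_mul_eq_one_right (mul_self_of_two hB)
    rw [inv_inv, hBB]
    calc B * A * B = B * A * B⁻¹ := by rw [hBB]
      _ = A⁻¹ := hinvB
  have he' : t⁻¹ * e * t * e ∈ K := hq.1 (show q (⟨t, hTP ht⟩⁻¹ * ⟨e, he⟩ * ⟨t, hTP ht⟩ * ⟨e, he⟩) = 1 by
    rw [map_mul, map_mul, map_mul, map_inv, hE, inv_mul_cancel])
  have hstab : ∀ n : K, t⁻¹ * e * t * n * e ∈ K := fun n => by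
    rw [show t⁻¹ * e * t * n * e = (t⁻¹ * e * t * e) * (e⁻¹ * n * e⁻¹⁻¹) by group]
    exact mul_mem he' (hnorm _ (inv_mem he) n n.2)
  have h3K : ¬ 3 ∣ Nat.card K := by
    intro h
    obtain ⟨m, hm⟩ := IsPGroup.exists_card_eq (N.hT.to_le hKT)
    rw [hm] at h
    exact absurd (Nat.prime_three.dvd_of_dvd_pow h) (by norm_num)
  obtain ⟨n, hn⟩ := CfsgLib.FpfSymThree.exists_fixed_three (fun n : K => (⟨_, hstab n⟩ : K)) (fun n => Subtype.ext (by
    show t⁻¹ * e * t * (t⁻¹ * e * t * (t⁻¹ * e * t * n * e) * e) * e = n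
    calc _ = t⁻¹ * (e * e * e) * (t * n) * (e * e * e) := by group
      _ = t⁻¹ * e ^ 3 * (t * n) * e ^ 3 := by rw [pow_three' e]
      _ = n := by rw [he3]; group)) h3K
  set u := t * n with hu
  have hu' : e * u * e = u := by
    have h := congrArg Subtype.val hn
    simp only at h
    calc e * u * e = t * (t⁻¹ * e * t * n * e) := by rw [hu]; group
      _ = u := by rw [h]
  have hue : u * e * u⁻¹ = e⁻¹ := by
    rw [mul_inv_eq_iff_eq_mul]
    calc u * e = e⁻¹ * (e * u * e) := by group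
      _ = e⁻¹ * u := by rw [hu']
  have huP : u ∈ P := mul_mem (hTP ht) (hTP (hKT n.2))
  have huv : Commute u v := by
    have hm : u * v * u⁻¹ ∈ C := ⟨hnorm u huP v hvC.1, mem_cen.2 (by
      have h := commute_conj u (mem_cen.1 hvC.2)
      rw [hue] at h
      simpa using h.inv_right)⟩
    rcases hCv _ hm with h | h
    · exact absurd (conj_eq_one_iff.1 h) (ne_one_of_two hv2)
    · exact mul_inv_eq_iff_eq_mul.1 h
  obtain ⟨c, hcv, hce⟩ := H.three_conj hv2 heo (mem_cen.1 hvC.2)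
  have h1 : c * u * c⁻¹ ∈ cen z := mem_cen.2 (hcv ▸ commute_conj c huv)
  have h2 : c * u * c⁻¹ * (c * e * c⁻¹) * (c * u * c⁻¹)⁻¹ = (c * e * c⁻¹)⁻¹ := by
    calc _ = c * (u * e * u⁻¹) * c⁻¹ := by group
      _ = _ := by rw [hue]; group
  have h3 : c * u * c⁻¹ * w * (c * u * c⁻¹)⁻¹ = w⁻¹ := by
    rcases hce with e' | e' <;> rw [e'] at h2
    · exact h2
    · have hinv : w * w = w⁻¹ := (inv_eq_of_mul_eq_one_right (by rw [← mul_assoc, N.w_three])).symm
      rw [hinv, inv_inv, ← conj_inv] at h2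
      exact inv_eq_iff_eq_inv.1 h2
  have := N.card_sylow_of_inverting hD h1 h3 S
  rw [hS] at this
  have := Nat.card_pos (α := T)
  omega

end Nil

end CfsgLib.SelfSix
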