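import Cfsg.Agent.Lib.SelfSix.NilBasic
import Cfsg.Agent.Lib.UniqueSubgroup
import Cfsg.Agent.Lib.ConstrainedCore.Aut
import Cfsg.Agent.Lib.RegularLinear.Cases
import Cfsg.Agent.Lib.BinaryOctahedralTame
import Cfsg.Agent.Lib.SuborbitGroups.SDModel

/-!
`T` with one involution: the centraliser modulo its odd part is `GL(2,3)`.
-/

set_option autoImplicit false
set_option linter.unusedSectionVars false
set_option linter.style.haveILetI false

namespace CfsgLib.SelfSix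

open Cfsg CfsgLib.SuborbitGroups

universe u

variable {G : Type u} [Group G] {z w : G} {T D : Subgroup G}

theorem gl_central_invol : ∀ a : GM, a * a = 1 → a ≠ 1 → (∀ b : GM, b.det ≠ 0 → a * b = b * a) → a = -1 := by
  decide +kernel

theorem gl_invol_unique : ∀ a : GM, a * a = 1 → a ≠ 1 → a.det = 1 → a = -1 := by decide +kernel

theorem sq_neg_det : ∀ g : GM, g * g = -1 → g.det = 1 := by decide +kernel

theorem eight_powers : ∀ a c : GM, a ^ 8 = 1 → a ^ 4 ≠ 1 → c.det ≠ 0 → c * a ≠ a ^ 5 * c := by decide +kernel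

/-- The matrix of an element of order eight in `GL(2,3)`. -/
def eightElt : GM := !![1, 1; 1, 0]

theorem eightElt_facts : eightElt ^ 8 = 1 ∧ eightElt ^ 4 ≠ 1 ∧ eightElt.det ≠ 0 := by decide +kernel

namespace Nil

variable (N : Nil G z w T D) [Finite G]
include N

/-- A nontrivial action on a group with one involution gives the quaternion group. -/
theorem quat_of_unique (hU : ∀ x ∈ T, x * x = 1 → x = 1 ∨ x = z) (hbig : ¬ ∀ x ∈ T, x = 1 ∨ x = z) :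
    Nonempty (T ≃* QuaternionGroup 2) := by
  haveI : Fact (Nat.Prime 2) := ⟨Nat.prime_two⟩
  have H := N.base
  have hwN : w ∈ Subgroup.normalizer (T : Set G) := Subgroup.mem_normalizer_iff.2 fun x => ⟨N.wT x, fun h => by
    have := N.normT w⁻¹ (inv_mem H.w_cen) _ h
    rwa [inv_inv, show w⁻¹ * (w * x * w⁻¹) * w = x by group] at this⟩
  set α : MulAut T := Subgroup.normalizerMonoidHom T ⟨w, hwN⟩
  have hα : α ≠ 1 := fun e => hbig fun x hx => N.T_zero hx (Commute.symm (mul_inv_eq_iff_eq_mul.1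
    (congrArg Subtype.val (MulEquiv.congr_fun e ⟨x, hx⟩) :)))
  have hα3 : α ^ 3 = 1 := by
    rw [← map_pow, show (⟨w, hwN⟩ : Subgroup.normalizer (T : Set G)) ^ 3 = 1 from
      Subtype.ext (H.hw ▸ pow_orderOf_eq_one w), map_one]
  have hno : ¬ IsPGroup 2 (MulAut T) := fun h => hα (by
    obtain ⟨k, hk⟩ := h α
    exact orderOf_eq_one_iff.1 (Nat.eq_one_of_dvd_coprimes ((by norm_num : Nat.Coprime 2 3).pow_left k)
      (orderOf_dvd_of_pow_eq_one hk) (orderOf_dvd_of_pow_eq_one hα3)))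
  rcases CfsgLib.UniqueSubgroup.cyclic_or_quaternion (p := 2) (z := (⟨z, N.zT⟩ : T)) N.hT
      ((Subgroup.orderOf_mk z N.zT).trans H.hz) (fun x hx => by
        rcases hU x x.2 (by
          have h := congrArg Subtype.val hx
          rw [SubmonoidClass.coe_pow, pow_two] at h
          exact h) with e | e
        · rw [show x = 1 from Subtype.ext e]; exact one_mem _
        · rw [show x = ⟨z, N.zT⟩ from Subtype.ext e]; exact Subgroup.mem_zpowers _) with h | ⟨-, n, hn, ⟨e⟩⟩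
  · exfalso
    haveI := h
    obtain ⟨k, hk⟩ := N.hT.exists_card_eq
    refine hno ?_
    have hc : Nat.card (MulAut T) = Nat.totient (2 ^ k) := by
      rw [Nat.card_congr (IsCyclic.mulAutMulEquiv T).toEquiv, hk, Nat.card_eq_fintype_card, ZMod.card_units_eq_totient]
    rcases k with _ | k
    · exact IsPGroup.of_card (n := 0) (by rw [hc]; rfl)
    · exact IsPGroup.of_card (n := k) (by rw [hc, Nat.totient_prime_pow_succ Nat.prime_two]; norm_num)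
  · obtain rfl : n = 1 := by
      by_contra hne
      exact hno ((CfsgLib.ConstrainedCore.isPGroup_mulAut_quaternion (n := n) (by omega)).of_equiv
        (MulAut.congr e).symm)
    exact ⟨e⟩

/-- The data for the character argument. -/
theorem quat_data [IsSimpleGroup G] (hG : ¬ IsMulCommutative G)
    (hU : ∀ x ∈ T, x * x = 1 → x = 1 ∨ x = z) (hbig : ¬ ∀ x ∈ T, x = 1 ∨ x = z) :
    ∃ (S : Sylow 2 G) (Δ : cen z →* GM), T ≤ (S : Subgroup G) ∧ (S : Subgroup G) ≤ cen z ∧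
      (T.subgroupOf (S : Subgroup G)).index = 2 ∧ Nat.card T = 8 ∧
      (∀ c : cen z, (Δ c).det ≠ 0) ∧ (∀ c : cen z, Δ c = 1 ↔ (c : G) ∈ D) ∧
      (∀ m : GM, m.det ≠ 0 → ∃ c, Δ c = m) ∧ Δ ⟨z, N.base.z_cen⟩ = -1 ∧
      Nat.card (cen z) = Nat.card D * 48 := by
  classical
  haveI : Fact (Nat.Prime 2) := ⟨Nat.prime_two⟩
  have H := N.base
  have hw3 : w ^ 3 = 1 := H.hw ▸ pow_orderOf_eq_one w
  obtain ⟨e⟩ := N.quat_of_unique hU hbig
  have hT8 : Nat.card T = 8 := by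
    rw [Nat.card_congr e.toEquiv, Nat.card_eq_fintype_card, QuaternionGroup.card]
  obtain ⟨S, hTS, hSC, hS⟩ := N.exists_sylow_T
  have hzS : z ∈ (S : Subgroup G) := hTS N.zT
  obtain ⟨x, hx, hx2, hxz⟩ := Hyp.two_invol hG S hzS H.hz
  have hxT : x ∉ T := fun h => (hU x h (mul_self_of_two hx2)).elim (ne_one_of_two hx2) hxz
  obtain ⟨s, hs, hsT, hS⟩ : ∃ s, Inverts z w s ∧ s ∉ T ∧ ∀ g, g ∈ (S : Subgroup G) ↔ g ∈ T ∨ g * s⁻¹ ∈ T :=
    hS.resolve_left fun h => hxT ((h x).1 hx)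
  have hxs : x * s⁻¹ ∈ T := ((hS x).1 hx).resolve_left hxT
  have hidx : (T.subgroupOf (S : Subgroup G)).index = 2 := by
    have hs'S : s ∈ (S : Subgroup G) := (hS s).2 (Or.inr (by rw [mul_inv_cancel]; exact one_mem _))
    refine Subgroup.index_eq_two_iff.2 ⟨⟨s, hs'S⟩⁻¹, fun b => ?_⟩
    rcases (hS b).1 b.2 with hb | hb
    · refine Or.inr ⟨hb, fun h => hsT ?_⟩
      have h2 := mul_mem (inv_mem (show (b : G) * s⁻¹ ∈ T from h)) hb
      rwa [mul_inv_rev, inv_inv, inv_mul_cancel_right] at h2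
    · refine Or.inl ⟨hb, fun h => hsT ?_⟩
      have h2 := mul_mem (inv_mem hb) (show (b : G) ∈ T from h)
      rwa [mul_inv_rev, inv_inv, inv_mul_cancel_right] at h2
  set DC := D.subgroupOf (cen z)
  haveI : DC.Normal := ⟨fun d hd c => N.normD c c.2 d hd⟩
  set q := QuotientGroup.mk' DC
  have hq : ∀ {c : cen z}, q c = 1 ↔ (c : G) ∈ D := fun {c} => QuotientGroup.eq_one_iff c
  have hSinj : ∀ g (hg : g ∈ (S : Subgroup G)), q ⟨g, hSC hg⟩ = 1 → g = 1 := fun g hg h => by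
    obtain ⟨k, hk⟩ := S.2 ⟨g, hg⟩
    exact orderOf_eq_one_iff.1 (Nat.eq_one_of_dvd_coprimes ((Nat.coprime_two_left.2 N.hD).pow_left k)
      (orderOf_dvd_of_pow_eq_one (congrArg Subtype.val hk : g ^ 2 ^ k = 1))
      (Subgroup.orderOf_dvd_natCard D (hq.1 h)))
  set qT := (T.subgroupOf (cen z)).map q with hqT
  haveI : qT.Normal := Subgroup.Normal.map (⟨fun t ht (c : cen z) => N.normT c c.2 (t : G) ht⟩ : (T.subgroupOf (cen z)).Normal) q (QuotientGroup.mk'_surjective DC)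
  let fT : T →* qT := (q.comp (Subgroup.inclusion N.hTC)).codRestrict qT fun t =>
    ⟨⟨t, N.hTC t.2⟩, t.2, rfl⟩
  have hfT : Function.Bijective fT := by
    refine ⟨(injective_iff_map_eq_one fT).2 fun t ht => Subtype.ext (hSinj t (hTS t.2) (congrArg Subtype.val ht)), ?_⟩
    rintro ⟨_, t, ht, rfl⟩
    exact ⟨⟨t, ht⟩, rfl⟩
  have eqT : qT ≃* QuaternionGroup 2 := (MulEquiv.ofBijective fT hfT).symm.trans e
  set wq := q ⟨w, H.w_cen⟩
  have hwq3 : wq ^ 3 = 1 := by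
    rw [← map_pow, show (⟨w, H.w_cen⟩ : cen z) ^ 3 = 1 from Subtype.ext hw3, map_one]
  have hwq : orderOf wq = 3 := by
    haveI : Fact (Nat.Prime 3) := ⟨Nat.prime_three⟩
    exact orderOf_eq_prime hwq3 fun h => N.hD3 (H.hw ▸ Subgroup.orderOf_dvd_natCard D (hq.1 h))
  have hcomm : ∀ t ∈ T, ∀ ht : t ∈ cen z, Commute (q ⟨t, ht⟩) wq → t = 1 ∨ t = z := by
    intro t htT ht hc
    refine N.T_zero htT (mul_inv_eq_iff_eq_mul.1 (mul_inv_eq_one.1 ?_ : t * w * t⁻¹ = w))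
    have h1 : t * w * t⁻¹ * w⁻¹ ∈ D := hq.1 (show q (⟨t, ht⟩ * ⟨w, H.w_cen⟩ * ⟨t, ht⟩⁻¹ * ⟨w, H.w_cen⟩⁻¹) = 1 by
      rw [map_mul, map_mul, map_mul, map_inv, map_inv, hc.eq, mul_inv_cancel_right, mul_inv_cancel])
    have h2 : t * w * t⁻¹ * w⁻¹ ∈ T := by
      rw [show t * w * t⁻¹ * w⁻¹ = t * (w * t⁻¹ * w⁻¹) by group]
      exact mul_mem htT (N.wT _ (inv_mem htT))
    exact Subgroup.disjoint_def.1 N.disjoint h2 h1
  have hwC : wq ∉ Subgroup.centralizer (qT : Set (cen z ⧸ DC)) := fun h => hbig fun t ht =>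
    hcomm t ht (N.hTC ht) (Subgroup.mem_centralizer_iff.1 h _ ⟨⟨t, N.hTC ht⟩, ht, rfl⟩)
  obtain ⟨θ, hθ⟩ := CfsgLib.RegularLinear.exists_sl23 eqT hwq hwC
  have hnoinv : ∀ t (ht : t ∈ T), q ⟨t, N.hTC ht⟩ * wq * (q ⟨t, N.hTC ht⟩)⁻¹ ≠ wq⁻¹ := by
    intro t ht h2
    have h4 : q ⟨t, N.hTC ht⟩ * (wq * (q ⟨t, N.hTC ht⟩)⁻¹ * wq⁻¹) ∈ qT :=
      mul_mem ⟨_, ht, rfl⟩ ((inferInstance : qT.Normal).conj_mem _ (inv_mem ⟨_, ht, rfl⟩) wq)
    rw [← mul_assoc, ← mul_assoc, h2] at h4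
    have h5 := Subgroup.orderOf_dvd_natCard qT h4
    rw [Nat.card_congr eqT.toEquiv, Nat.card_eq_fintype_card, QuaternionGroup.card, ← mul_inv_rev, orderOf_inv,
      ← pow_two, Nat.Coprime.orderOf_pow (by rw [hwq]; norm_num), hwq] at h5
    norm_num at h5
  obtain ⟨s0, hs0, hdec⟩ : ∃ s0, Inverts z w s0 ∧ ∀ c ∈ cen z,
      ∃ t ∈ T, ∃ d ∈ D, ∃ i : ℕ, c = t * d * w ^ i ∨ c = t * d * w ^ i * s0 := by
    refine (N.top.resolve_left fun h => ?_).imp fun s0 h => ⟨h.1, h.2.2⟩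
    obtain ⟨t, ht, d, hd, i, e⟩ := h s (mem_cen.2 hs.1)
    refine hnoinv t ht ?_
    have h1 : q ⟨s, mem_cen.2 hs.1⟩ = q ⟨t, N.hTC ht⟩ * wq ^ i := by
      rw [show (⟨s, mem_cen.2 hs.1⟩ : cen z) = ⟨t, N.hTC ht⟩ * ⟨d, N.hDC hd⟩ * ⟨w, H.w_cen⟩ ^ i from Subtype.ext e,
        map_mul, map_mul, map_pow, (hq (c := ⟨d, N.hDC hd⟩)).2 hd, mul_one]
    rw [← map_inv q ⟨w, H.w_cen⟩, show (⟨w, H.w_cen⟩ : cen z)⁻¹ = ⟨s, mem_cen.2 hs.1⟩ * ⟨w, H.w_cen⟩ *
      (⟨s, mem_cen.2 hs.1⟩ : cen z)⁻¹ from Subtype.ext hs.2.1.symm, map_mul, map_mul, map_inv, h1]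
    show q ⟨t, N.hTC ht⟩ * wq * (q ⟨t, N.hTC ht⟩)⁻¹ = q ⟨t, N.hTC ht⟩ * wq ^ i * wq * (q ⟨t, N.hTC ht⟩ * wq ^ i)⁻¹
    group
  set sq0 := q ⟨s0, mem_cen.2 hs0.1⟩
  have hdec' : ∀ y, ∃ t, ∃ ht : t ∈ T, ∃ i : ℕ,
      y = q ⟨t, N.hTC ht⟩ * wq ^ i ∨ y = q ⟨t, N.hTC ht⟩ * wq ^ i * sq0 := by
    intro y
    obtain ⟨c, rfl⟩ := QuotientGroup.mk'_surjective DC y
    obtain ⟨t, ht, d, hd, i, h⟩ := hdec c c.2
    refine ⟨t, ht, i, ?_⟩
    rcases h with e | e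
    · left
      rw [show c = ⟨t, N.hTC ht⟩ * ⟨d, N.hDC hd⟩ * ⟨w, H.w_cen⟩ ^ i from Subtype.ext e, map_mul, map_mul, map_pow,
        (hq (c := ⟨d, N.hDC hd⟩)).2 hd, mul_one]
    · right
      rw [show c = ⟨t, N.hTC ht⟩ * ⟨d, N.hDC hd⟩ * ⟨w, H.w_cen⟩ ^ i * ⟨s0, mem_cen.2 hs0.1⟩ from Subtype.ext e,
        map_mul, map_mul, map_mul, map_pow, (hq (c := ⟨d, N.hDC hd⟩)).2 hd, mul_one]
  have hswq : sq0 * wq * sq0⁻¹ = wq⁻¹ := by
    rw [← map_inv, ← map_mul, ← map_mul, ← map_inv]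
    exact congrArg q (Subtype.ext hs0.2.1)
  -- the order
  have hQ48 : Nat.card (cen z ⧸ DC) = 48 := by
    refine le_antisymm ?_ (Nat.le_of_dvd Nat.card_pos ?_)
    · let f : T × Fin 3 × Fin 2 → cen z ⧸ DC := fun p =>
        q ⟨p.1, N.hTC p.1.2⟩ * wq ^ (p.2.1 : ℕ) * sq0 ^ (p.2.2 : ℕ)
      refine (Nat.card_le_card_of_surjective f fun y => ?_).trans (le_of_eq (by
        rw [Nat.card_prod, Nat.card_prod, hT8, Nat.card_fin, Nat.card_fin]))
      obtain ⟨t, ht, i, h⟩ := hdec' y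
      have hi : wq ^ (i % 3) = wq ^ i := by rw [← hwq, pow_mod_orderOf]
      rcases h with e | e
      · exact ⟨(⟨t, ht⟩, ⟨i % 3, Nat.mod_lt _ (by norm_num)⟩, 0), by simp [f, e, hi]⟩
      · exact ⟨(⟨t, ht⟩, ⟨i % 3, Nat.mod_lt _ (by norm_num)⟩, 1), by simp [f, e, hi]⟩
    · refine (by norm_num : Nat.Coprime 16 3).mul_dvd_of_dvd_of_dvd ?_ (hwq ▸ orderOf_dvd_natCard wq)
      have hS16 : Nat.card (S : Subgroup G) = 16 := by
        rw [← Subgroup.card_mul_index (T.subgroupOf (S : Subgroup G)), hidx,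
          Nat.card_congr (Subgroup.subgroupOfEquivOfLe hTS).toEquiv, hT8]
      rw [← hS16]
      exact Subgroup.card_dvd_of_injective (q.comp (Subgroup.inclusion hSC)) ((injective_iff_map_eq_one _).2
        fun g hg => Subtype.ext (hSinj g g.2 hg))
  have hrange : θ.range.index = 2 := by
    have h := Subgroup.card_mul_index θ.range
    rw [← Nat.card_congr (MonoidHom.ofInjective hθ).toEquiv, CfsgLib.RegularLinear.sl23_card, hQ48] at h
    omega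
  haveI hRn : θ.range.Normal := Subgroup.normal_of_index_eq_two hrange
  have hwR : wq ∈ θ.range := by
    have h := Subgroup.sq_mem_of_index_two hrange (wq * wq)
    rwa [pow_two, show wq * wq * (wq * wq) = wq * (wq * wq) * wq by group, ← pow_three, hwq3, one_mul] at h
  have hzR : q ⟨z, H.z_cen⟩ ∈ θ.range := by
    set t := e.symm (QuaternionGroup.a 1)
    have ht : (t : G) * t = z := by
      have h2 : t * t ≠ 1 := fun h => by
        have := congrArg e h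
        rw [map_mul, map_one, e.apply_symm_apply] at this
        exact absurd this (by decide)
      have h4 : t * t * (t * t) = 1 := e.injective (by
        rw [map_mul, map_mul, map_one, e.apply_symm_apply]; decide)
      rcases hU _ (mul_mem t.2 t.2) (congrArg Subtype.val h4) with h | h
      · exact absurd (Subtype.ext h) h2
      · exact h
    have h := Subgroup.sq_mem_of_index_two hrange (q ⟨t, N.hTC t.2⟩)
    rwa [pow_two, ← map_mul, show (⟨t, N.hTC t.2⟩ : cen z) * ⟨t, N.hTC t.2⟩ = ⟨z, H.z_cen⟩ from Subtype.ext ht] at h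
  have hxC : x ∈ cen z := hSC hx
  set xq := q ⟨x, hxC⟩
  have hxx : xq * xq = 1 := by
    rw [← map_mul, show (⟨x, hxC⟩ : cen z) * ⟨x, hxC⟩ = 1 from Subtype.ext (mul_self_of_two hx2), map_one]
  have hxR : xq ∉ θ.range := by
    intro hxR
    have hc : ∀ y, Commute y xq := by
      intro y
      have hne : xq ≠ 1 := fun h => ne_one_of_two hx2 (hSinj x hx h)
      have huniq : ∀ a ∈ θ.range, a * a = 1 → a ≠ 1 → a = θ (-1) := by
        rintro _ ⟨a, rfl⟩ ha ha1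
        rw [CfsgLib.GLTwoThreeExt.invol_unique a (hθ (by rw [map_mul, ha, map_one]))
          (fun h => ha1 (by rw [h, map_one]))]
      refine mul_inv_eq_iff_eq_mul.1 ((huniq _ (hRn.conj_mem _ hxR y) ?_ ?_).trans (huniq _ hxR hxx hne).symm)
      · rw [show y * xq * y⁻¹ * (y * xq * y⁻¹) = y * (xq * xq) * y⁻¹ by group, hxx, mul_one, mul_inv_cancel]
      · exact fun h => hne (conj_eq_one_iff.1 h)
    refine hnoinv _ (inv_mem hxs) ?_
    have h1 : xq * wq * xq⁻¹ = wq := by rw [← (hc wq).eq, mul_inv_cancel_right]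
    have hsC : s ∈ cen z := mem_cen.2 hs.1
    have h2 : q ⟨(x * s⁻¹)⁻¹, N.hTC (inv_mem hxs)⟩ = q ⟨s, hsC⟩ * xq⁻¹ := by
      rw [← map_inv, ← map_mul]
      exact congrArg q (Subtype.ext (by show (x * s⁻¹)⁻¹ = s * x⁻¹; rw [mul_inv_rev, inv_inv]))
    rw [h2, show q ⟨s, hsC⟩ * xq⁻¹ * wq * (q ⟨s, hsC⟩ * xq⁻¹)⁻¹ =
      q ⟨s, hsC⟩ * (xq⁻¹ * (xq * wq * xq⁻¹) * xq) * (q ⟨s, hsC⟩)⁻¹ from by rw [h1]; group,
      show xq⁻¹ * (xq * wq * xq⁻¹) * xq = wq by group, ← map_inv, ← map_mul, ← map_mul, ← map_inv]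
    exact congrArg q (Subtype.ext hs.2.1)
  obtain ⟨ψ⟩ := CfsgLib.GLTwoThreeExt.nonempty_equiv θ hθ hrange hxx hxR fun c hc => by
    obtain ⟨a, ha⟩ := hwR
    have hcw : c * wq = wq * c := ha ▸ hc a
    obtain ⟨t, ht, i, h | h⟩ := hdec' c
    · subst h
      refine mul_mem ?_ (pow_mem (ha ▸ ⟨a, rfl⟩ : wq ∈ θ.range) i)
      rcases hcomm t ht (N.hTC ht) (by
        rw [mul_assoc, ← pow_succ, pow_succ', ← mul_assoc, ← mul_assoc] at hcw
        exact mul_right_cancel hcw) with e | e <;> subst e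
      · exact (show q ⟨1, N.hTC ht⟩ = 1 from map_one q) ▸ one_mem _
      · exact hzR
    · exfalso
      refine hnoinv t ht ?_
      have h1 : c * wq * c⁻¹ = wq := by rw [hcw, mul_inv_cancel_right]
      rw [h, show q ⟨t, N.hTC ht⟩ * wq ^ i * sq0 * wq * (q ⟨t, N.hTC ht⟩ * wq ^ i * sq0)⁻¹ =
        q ⟨t, N.hTC ht⟩ * (wq ^ i * (sq0 * wq * sq0⁻¹) * (wq ^ i)⁻¹) * (q ⟨t, N.hTC ht⟩)⁻¹ by group, hswq,
        show wq ^ i * wq⁻¹ * (wq ^ i)⁻¹ = wq⁻¹ by group] at h1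
      calc q ⟨t, N.hTC ht⟩ * wq * (q ⟨t, N.hTC ht⟩)⁻¹ = (q ⟨t, N.hTC ht⟩ * wq⁻¹ * (q ⟨t, N.hTC ht⟩)⁻¹)⁻¹ := by group
        _ = wq⁻¹ := by rw [h1]
  set Δ : cen z →* GM := (Units.coeHom GM).comp (ψ.symm.toMonoidHom.comp q)
  have hΔdet : ∀ c : cen z, (Δ c).det ≠ 0 := fun c =>
    (Matrix.GeneralLinearGroup.det (ψ.symm (q c))).ne_zero
  have hΔker : ∀ c : cen z, Δ c = 1 ↔ (c : G) ∈ D := fun c => by
    rw [← hq]
    exact Units.val_eq_one.trans (show ψ.symm (q c) = 1 ↔ q c = 1 from EmbeddingLike.map_eq_one_iff)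
  have hΔsurj : ∀ m : GM, m.det ≠ 0 → ∃ c, Δ c = m := fun m hm => by
    obtain ⟨c, hc⟩ := QuotientGroup.mk'_surjective DC (ψ (Matrix.GeneralLinearGroup.mkOfDetNeZero m hm))
    refine ⟨c, ?_⟩
    show ((ψ.symm (q c) : GL (Fin 2) (ZMod 3)) : GM) = m
    rw [show q c = _ from hc, ψ.symm_apply_apply]
    rfl
  refine ⟨S, Δ, hTS, hSC, hidx, hT8, hΔdet, hΔker, hΔsurj, ?_, ?_⟩
  · refine gl_central_invol _ ?_ (fun h => ?_) fun b hb => ?_
    · rw [← map_mul, show (⟨z, H.z_cen⟩ : cen z) * ⟨z, H.z_cen⟩ = 1 from Subtype.ext (mul_self_of_two H.hz), map_one]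
    · exact ne_one_of_two H.hz (hSinj z hzS (hq.2 ((hΔker _).1 h)))
    · obtain ⟨c, rfl⟩ := hΔsurj b hb
      rw [← map_mul, ← map_mul]
      exact congrArg Δ (Subtype.ext (mem_cen.1 c.2).symm)
  · rw [Subgroup.card_eq_card_quotient_mul_card_subgroup DC, hQ48,
      Nat.card_congr (Subgroup.subgroupOfEquivOfLe N.hDC).toEquiv, mul_comm]

end Nil

end CfsgLib.SelfSix
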