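import Cfsg.Agent.Lib.Basic
import Cfsg.Agent.S4006

/-!
A 2-subgroup of index six with symmetric quotient is the 2-core.
-/

set_option autoImplicit false
set_option linter.unusedSectionVars false
set_option linter.style.haveILetI false

namespace CfsgLib.SelfSix

open Cfsg

universe u

theorem core_of_index_six {P : Type u} [Group P] [Finite P] (O : Subgroup P) [O.Normal] (h2 : IsPGroup 2 O)
    (h6 : O.index = 6) {d t : P} (hd : d ^ 3 ∈ O) (hd1 : d ∉ O) (ht : t * d * t⁻¹ * d ∈ O) :
    pCore 2 P = O ∧ Nonempty (P ⧸ pCore 2 P ≃* Equiv.Perm (Fin 3)) := by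
  haveI : Fact (Nat.Prime 2) := ⟨Nat.prime_two⟩
  haveI : Fact (Nat.Prime 3) := ⟨Nat.prime_three⟩
  set q := QuotientGroup.mk' O
  have hq : ∀ {x : P}, q x = 1 ↔ x ∈ O := fun {x} => QuotientGroup.eq_one_iff x
  set a := q d
  set b := q t
  have ha : orderOf a = 3 := orderOf_eq_prime (by rw [← map_pow]; exact hq.2 hd) fun e => hd1 (hq.1 e)
  have hb : b * a * b⁻¹ = a⁻¹ := by
    refine eq_inv_of_mul_eq_one_left ?_
    rw [← map_inv, ← map_mul, ← map_mul, ← map_mul]
    exact hq.2 ht
  have hK : Nat.card (P ⧸ O) = 6 := h6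
  set A := Subgroup.zpowers a
  have hA : A.index = 2 := by
    have := A.card_mul_index
    rw [Nat.card_zpowers, ha, hK] at this
    omega
  -- no involution centralises `a`
  have hno : ∀ x : P ⧸ O, orderOf x = 2 → ¬ Commute x a := by
    intro x hx hxa
    have hxA : x ∉ A := fun h => by
      have := orderOf_dvd_of_mem_zpowers h
      rw [hx, ha] at this
      norm_num at this
    have hall : ∀ g : P ⧸ O, Commute g a := by
      intro g
      by_cases hg : g ∈ A
      · obtain ⟨i, rfl⟩ := Subgroup.mem_zpowers_iff.1 hg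
        exact (Commute.refl a).zpow_left i
      · have hm : g * x⁻¹ ∈ A := by
          rw [Subgroup.mul_mem_iff_of_index_two hA, inv_mem_iff]
          exact iff_of_false hg hxA
        obtain ⟨i, hi⟩ := Subgroup.mem_zpowers_iff.1 hm
        have := ((Commute.refl a).zpow_left i).mul_left hxa
        rwa [hi, inv_mul_cancel_right] at this
    rw [(hall b).eq, mul_inv_cancel_right] at hb
    have h2' : a ^ 2 = 1 := by rw [pow_two]; nth_rewrite 2 [hb]; exact mul_inv_cancel a
    have := orderOf_dvd_of_pow_eq_one h2'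
    rw [ha] at this
    norm_num at this
  have hno' : ∀ x y : P ⧸ O, orderOf x = 2 → orderOf y = 3 → ¬ Commute x y := by
    intro x y hx hy hc
    haveI : A.Normal := Subgroup.normal_of_index_eq_two hA
    have hyA : y ∈ A := by
      rw [← QuotientGroup.eq_one_iff]
      refine orderOf_eq_one_iff.1 (Nat.eq_one_of_dvd_coprimes (by norm_num : Nat.Coprime 3 2) ?_ ?_)
      · rw [← hy]; exact orderOf_map_dvd (QuotientGroup.mk' A) y
      · rw [← hA]; exact orderOf_dvd_natCard _
    have hAy : Subgroup.zpowers y = A :=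
      Subgroup.eq_of_le_of_card_ge (Subgroup.zpowers_le.2 hyA) (by rw [Nat.card_zpowers, Nat.card_zpowers, ha, hy])
    obtain ⟨i, hi⟩ := Subgroup.mem_zpowers_iff.1 (hAy.symm ▸ Subgroup.mem_zpowers a : a ∈ Subgroup.zpowers y)
    exact hno x hx (hi ▸ hc.zpow_right i)
  have hcore : pCore 2 P = O := by
    refine le_antisymm (fun x hx => ?_) (CfsgLib.le_pCore h2)
    by_contra hxO
    set K := (pCore 2 P).map q
    haveI : K.Normal := (inferInstance : (pCore 2 P).Normal).map q (QuotientGroup.mk'_surjective O)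
    have hK2 : IsPGroup 2 K := (CfsgLib.isPGroup_pCore (G := P) 2).map q
    obtain ⟨n, hn⟩ := IsPGroup.exists_card_eq hK2
    have hK1 : K ≠ ⊥ := fun e => hxO (hq.1 (Subgroup.mem_bot.1 (e ▸ ⟨x, hx, rfl⟩ : q x ∈ (⊥ : Subgroup (P ⧸ O)))))
    have hd6 := Subgroup.card_subgroup_dvd_card K
    rw [hn, hK] at hd6
    have hn1 : n = 1 := by
      rcases n with _ | _ | n
      · exact absurd (Subgroup.card_eq_one.1 (by rw [hn, pow_zero])) hK1
      · rfl
      · have := ((pow_dvd_pow 2 (show 2 ≤ n + 1 + 1 by omega))).trans hd6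
        norm_num at this
    rw [hn1, pow_one] at hn
    obtain ⟨k, hk⟩ := exists_prime_orderOf_dvd_card' (G := K) 2 (by rw [hn])
    have hk2 : orderOf (k : P ⧸ O) = 2 := by rw [Subgroup.orderOf_coe, hk]
    refine hno _ hk2 ?_
    have hm := (inferInstance : K.Normal).conj_mem _ k.2 a
    have hKk : Subgroup.zpowers (k : P ⧸ O) = K :=
      Subgroup.eq_of_le_of_card_ge (Subgroup.zpowers_le.2 k.2) (by rw [Nat.card_zpowers, hk2, hn])
    replace hm : a * (k : P ⧸ O) * a⁻¹ ∈ Subgroup.zpowers (k : P ⧸ O) := hKk.symm ▸ hm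
    obtain ⟨i, hi⟩ := mem_powers_iff_mem_zpowers.2 hm
    simp only at hi
    rw [← pow_mod_orderOf, hk2] at hi
    obtain e | e := Nat.mod_two_eq_zero_or_one i
    · rw [e, pow_zero] at hi
      have := conj_eq_one_iff.1 hi.symm
      rw [this, orderOf_one] at hk2
      omega
    · rw [e, pow_one] at hi
      exact (mul_inv_eq_iff_eq_mul.1 hi.symm).symm
  obtain ⟨e⟩ := Cfsg.Agent.S4006.Aux.perm_three hK hno'
  exact ⟨hcore, ⟨(QuotientGroup.quotientMulEquivOfEq hcore).trans e⟩⟩

end CfsgLib.SelfSix
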