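import Cfsg.Agent.Lib.SelfSix.ClassTwo
import Cfsg.Agent.Lib.SelfSix.Quot
import Cfsg.Agent.Lib.SelfSix.Core

/-!
The two possibilities for the Sylow subgroup over `T`, and the 2-core of the centraliser.
-/

set_option autoImplicit false
set_option linter.unusedSectionVars false
set_option linter.style.haveILetI false

namespace CfsgLib.SelfSix

open Cfsg

universe u

variable {G : Type u} [Group G] {z w : G} {T D : Subgroup G}

namespace Nil

variable (N : Nil G z w T D)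
include N

theorem w_norm : w ∈ Subgroup.normalizer (T : Set G) := Subgroup.mem_normalizer_iff.2 fun x => ⟨N.wT x, fun h => by
  have := N.normT w⁻¹ (inv_mem N.base.w_cen) _ h
  rwa [inv_inv, show w⁻¹ * (w * x * w⁻¹) * w = x by group] at this⟩

variable [Finite G]

/-- Either `T` is a Sylow subgroup, or `T` has index two in one. -/
theorem top_split (hD : D = ⊥) :
    (∃ S : Sylow 2 G, (∀ g, g ∈ (S : Subgroup G) ↔ g ∈ T) ∧
      ∀ g ∈ cen z, ∃ x ∈ T, ∃ d ∈ D, ∃ i : ℕ, g = x * d * w ^ i) ∨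
    ∃ (s : G) (S : Sylow 2 G), Inverts z w s ∧ s ∉ T ∧ (∀ g, g ∈ (S : Subgroup G) ↔ g ∈ T ∨ g * s⁻¹ ∈ T) ∧
      ∀ g ∈ cen z, ∃ x ∈ T, ∃ d ∈ D, ∃ i : ℕ, g = x * d * w ^ i ∨ g = x * d * w ^ i * s := by
  haveI : Fact (Nat.Prime 2) := ⟨Nat.prime_two⟩
  obtain ⟨S, hTS, hSC, hS⟩ := N.exists_sylow_T
  rcases N.top with h | ⟨s, hs, hsT, h⟩
  · rcases hS with hS | ⟨s', hs', hs'T, hS⟩
    · exact Or.inl ⟨S, hS, h⟩
    exfalso
    have hsS : s' ∈ (S : Subgroup G) := (hS s').2 (Or.inr (by rw [mul_inv_cancel]; exact one_mem _))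
    obtain ⟨x, hx, d, hd, i, e⟩ := h s' (hSC hsS)
    rw [hD, Subgroup.mem_bot] at hd
    rw [hd, mul_one] at e
    obtain ⟨k, hk⟩ := S.2 ⟨s', hsS⟩
    have hk' : (x * w ^ i) ^ 2 ^ k = 1 := e ▸ congrArg Subtype.val hk
    rw [N.twist_trivial hx i hk', mul_one] at e
    exact hs'T (e ▸ hx)
  · obtain ⟨P, hP, hP2, hPC⟩ := N.exists_Ts hs
    obtain ⟨R, hR⟩ := hP2.exists_le_sylow
    have hTP : T ≤ P := fun g hg => (hP g).2 (Or.inl hg)
    have hc := N.card_sylow_of_inverting hD (mem_cen.2 hs.1) hs.2.1 R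
    obtain ⟨m, hm⟩ := Subgroup.card_dvd_of_le hTP
    have hle : Nat.card R ≤ Nat.card P := by
      rw [show Nat.card R = Nat.card (R : Subgroup G) from rfl, hc, hm, mul_comm 2]
      refine Nat.mul_le_mul_left _ ?_
      rcases m with _ | _ | m
      · rw [mul_zero] at hm; exact absurd hm (Nat.card_pos).ne'
      · exfalso
        rw [zero_add, mul_one] at hm
        exact hsT ((Subgroup.eq_of_le_of_card_ge hTP hm.le).symm ▸
          (hP s).2 (Or.inr (by rw [mul_inv_cancel]; exact one_mem _)))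
      · omega
    have he : P = (R : Subgroup G) := Subgroup.eq_of_le_of_card_ge hR hle
    exact Or.inr ⟨s, R, hs, hsT, fun g => he ▸ hP g, h⟩

/-- `T` has index six. -/
theorem index_six (hD : D = ⊥) {s : G} (hs : Inverts z w s) (hsT : s ∉ T)
    (htop : ∀ g ∈ cen z, ∃ x ∈ T, ∃ d ∈ D, ∃ i : ℕ, g = x * d * w ^ i ∨ g = x * d * w ^ i * s) :
    (T.subgroupOf (cen z)).index = 6 ∧ pCore 2 (cen z) = T.subgroupOf (cen z) ∧
      Nonempty (cen z ⧸ pCore 2 (cen z) ≃* Equiv.Perm (Fin 3)) := by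
  haveI : Fact (Nat.Prime 2) := ⟨Nat.prime_two⟩
  haveI : Fact (Nat.Prime 3) := ⟨Nat.prime_three⟩
  set O := T.subgroupOf (cen z)
  haveI : O.Normal := ⟨fun x hx g => N.normT g g.2 x hx⟩
  set q := QuotientGroup.mk' O
  have hq : ∀ {c : cen z}, q c = 1 ↔ (c : G) ∈ T := fun {c} => QuotientGroup.eq_one_iff c
  set a := q ⟨w, N.base.w_cen⟩
  set b := q ⟨s, mem_cen.2 hs.1⟩
  have ha : orderOf a = 3 := by
    refine orderOf_eq_prime ?_ fun e => ?_
    · rw [← map_pow, show (⟨w, N.base.w_cen⟩ : cen z) ^ 3 = 1 from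
        Subtype.ext (N.base.hw ▸ pow_orderOf_eq_one w), map_one]
    · have h1 : (1 * w ^ 1 : G) ^ 2 ^ 0 ∈ T := by simpa using hq.1 e
      obtain ⟨k, hk⟩ := N.hT ⟨_, h1⟩
      have h2 := N.twist_trivial (one_mem T) 1 (k := k) (by simpa using congrArg Subtype.val hk)
      have := N.base.hw
      rw [show w = 1 by simpa using h2, orderOf_one] at this
      omega
  have hb : orderOf b = 2 := by
    refine orderOf_eq_prime ?_ fun e => hsT (hq.1 e)
    rw [pow_two, ← map_mul]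
    refine hq.2 ?_
    rcases hs.2.2 with e | e <;> simp only [Subgroup.coe_mul, e]
    · exact one_mem _
    · exact N.zT
  have h6 : O.index = 6 := by
    refine Nat.le_antisymm ?_ (Nat.le_of_dvd (Nat.pos_of_ne_zero Subgroup.FiniteIndex.index_ne_zero) ?_)
    · let f : Fin 3 × Fin 2 → cen z ⧸ O := fun p => a ^ (p.1 : ℕ) * b ^ (p.2 : ℕ)
      have hf : Function.Surjective f := by
        intro y
        obtain ⟨c, rfl⟩ := QuotientGroup.mk'_surjective O y
        obtain ⟨x, hx, d, hd, i, e⟩ := htop c c.2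
        rw [hD, Subgroup.mem_bot] at hd
        rw [hd, mul_one] at e
        have hqx : q ⟨x, N.hTC hx⟩ = 1 := hq.2 hx
        rcases e with e | e
        · refine ⟨(⟨i % 3, Nat.mod_lt _ (by norm_num)⟩, 0), ?_⟩
          show a ^ (i % 3) * b ^ 0 = q c
          rw [← ha, pow_mod_orderOf, pow_zero, mul_one,
            show c = ⟨x, N.hTC hx⟩ * ⟨w, N.base.w_cen⟩ ^ i from Subtype.ext e, map_mul, map_pow, hqx, one_mul]
        · refine ⟨(⟨i % 3, Nat.mod_lt _ (by norm_num)⟩, 1), ?_⟩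
          show a ^ (i % 3) * b ^ 1 = q c
          rw [← ha, pow_mod_orderOf, pow_one,
            show c = ⟨x, N.hTC hx⟩ * ⟨w, N.base.w_cen⟩ ^ i * ⟨s, mem_cen.2 hs.1⟩ from Subtype.ext e,
            map_mul, map_mul, map_pow, hqx, one_mul]
      have := Nat.card_le_card_of_surjective f hf
      rwa [Nat.card_prod, Nat.card_fin, Nat.card_fin] at this
    · exact Nat.Coprime.mul_dvd_of_dvd_of_dvd (by norm_num : Nat.Coprime 3 2) (ha ▸ orderOf_dvd_natCard a)
        (hb ▸ orderOf_dvd_natCard b)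
  refine ⟨h6, core_of_index_six O (N.hT.of_equiv (Subgroup.subgroupOfEquivOfLe N.hTC).symm) h6
    (d := ⟨w, N.base.w_cen⟩) (t := ⟨s, mem_cen.2 hs.1⟩) ?_ ?_ ?_⟩
  · show (((⟨w, N.base.w_cen⟩ : cen z) ^ 3 : cen z) : G) ∈ T
    rw [SubmonoidClass.coe_pow, show w ^ 3 = 1 from N.base.hw ▸ pow_orderOf_eq_one w]
    exact one_mem _
  · intro e
    have h1 := ha
    rw [show a = 1 from hq.2 e, orderOf_one] at h1
    omega
  · show s * w * s⁻¹ * w ∈ T
    rw [hs.2.1, inv_mul_cancel]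
    exact one_mem _

end Nil

end CfsgLib.SelfSix
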