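import Cfsg.Agent.Lib.SelfSix.Basic
import Cfsg.Agent.S3331

/-!
The three shapes of the centraliser of an involution.
-/

set_option autoImplicit false
set_option linter.unusedSectionVars false
set_option linter.style.haveILetI false

namespace CfsgLib.SelfSix

open Cfsg

universe u

variable {G : Type u} [Group G]

/-- The involution as an element of its centraliser. -/
abbrev zin (z : G) : cen z := ⟨z, self_cen z⟩

theorem zin_central (z : G) (c : cen z) : Commute c (zin z) := Subtype.ext (mem_cen.1 c.2)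

theorem zp_le_center (z : G) : Subgroup.zpowers (zin z) ≤ Subgroup.center (cen z) :=
  Subgroup.zpowers_le.2 (Subgroup.mem_center_iff.2 fun c => (zin_central z c).eq)

instance zp_normal (z : G) : (Subgroup.zpowers (zin z)).Normal :=
  ⟨fun n hn g => by rw [(Subgroup.mem_center_iff.1 (zp_le_center z hn) g), mul_inv_cancel_right]; exact hn⟩

theorem mem_zp_zin {z : G} (hz : orderOf z = 2) {c : cen z} :
    c ∈ Subgroup.zpowers (zin z) ↔ (c : G) = 1 ∨ (c : G) = z := by
  rw [mem_zp_two ((Subgroup.orderOf_mk z (self_cen z)).trans hz)]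
  constructor <;> rintro (e | e)
  · exact Or.inl (congrArg Subtype.val e)
  · exact Or.inr (congrArg Subtype.val e)
  · exact Or.inl (Subtype.ext e)
  · exact Or.inr (Subtype.ext e)

/-- The centraliser modulo the involution. -/
abbrev cbar (z : G) : Type u := cen z ⧸ Subgroup.zpowers (zin z)

/-- The projection. -/
abbrev proj (z : G) : cen z →* cbar z := QuotientGroup.mk' _

theorem proj_eq {z : G} (hz : orderOf z = 2) {a b : cen z} (h : proj z a = proj z b) :
    (b : G) = a ∨ (b : G) = a * z := by
  rcases (mem_zp_zin hz).1 (QuotientGroup.eq.1 h) with e | e <;>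
    simp only [Subgroup.coe_mul, InvMemClass.coe_inv] at e
  · exact Or.inl (inv_mul_eq_one.1 e).symm
  · exact Or.inr (inv_mul_eq_iff_eq_mul.1 e)

theorem proj_one {z : G} (hz : orderOf z = 2) {a : cen z} : proj z a = 1 ↔ (a : G) = 1 ∨ (a : G) = z :=
  (QuotientGroup.eq_one_iff a).trans (mem_zp_zin hz)

/-- The centraliser has a nilpotent normal subgroup of index three or six, of order prime to three. -/
def NilCase (z : G) (N : Subgroup G) : Prop :=
  N ≤ cen z ∧ z ∈ N ∧ (∀ c ∈ cen z, ∀ n ∈ N, c * n * c⁻¹ ∈ N) ∧ Group.IsNilpotent N ∧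
    ¬ 3 ∣ Nat.card N ∧ (N.relIndex (cen z) = 3 ∨ N.relIndex (cen z) = 6)

/-- The centraliser modulo the involution is an elementary abelian 2-group extended by `A₅`. -/
def FiveCase (z : G) : Prop :=
  ∃ (E : Subgroup (cbar z)) (_ : E.Normal), IsMulCommutative E ∧ (∀ e ∈ E, e ^ 2 = 1) ∧
    Nonempty (cbar z ⧸ E ≃* alternatingGroup (Fin 5))

/-- The centraliser modulo the involution is `PSL(2,7)`. -/
def SevenCase (z : G) : Prop :=
  Nonempty (cbar z ≃* Matrix.ProjectiveSpecialLinearGroup (Fin 2) (ZMod 7))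

variable {z w : G}

namespace Hyp

variable (H : Hyp G z w)
include H

/-- The image of `w`. -/
theorem orderOf_wbar : orderOf (proj z ⟨w, H.w_cen⟩) = 3 := by
  haveI : Fact (Nat.Prime 3) := ⟨Nat.prime_three⟩
  refine orderOf_eq_prime ?_ fun e => ?_
  · rw [← map_pow, show (⟨w, H.w_cen⟩ : cen z) ^ 3 = 1 from Subtype.ext (H.hw ▸ pow_orderOf_eq_one w), map_one]
  · rcases (proj_one H.hz).1 e with e | e <;> have := H.hw <;> simp only at e
    · rw [e, orderOf_one] at this; omega
    · rw [e, H.hz] at this; omega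

/-- The image of `w` is self-centralising. -/
theorem wbar_self (y : cbar z) (hy : Commute y (proj z ⟨w, H.w_cen⟩)) :
    y ∈ Subgroup.zpowers (proj z ⟨w, H.w_cen⟩) := by
  obtain ⟨c, rfl⟩ := QuotientGroup.mk'_surjective _ y
  have h : proj z (c * ⟨w, H.w_cen⟩ * c⁻¹) = proj z ⟨w, H.w_cen⟩ := by
    rw [map_mul, map_mul, map_inv]
    exact mul_inv_eq_iff_eq_mul.2 hy.eq
  have hcw : Commute (c : G) w := by
    rcases proj_eq H.hz h with e | e <;> simp only [Subgroup.coe_mul, InvMemClass.coe_inv] at e
    · exact mul_inv_eq_iff_eq_mul.1 e.symm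
    · exfalso
      have e2 : (c : G) * w * (c : G)⁻¹ = w * z := by
        calc (c : G) * w * (c : G)⁻¹ = (c : G) * w * (c : G)⁻¹ * z * z := by
              rw [mul_assoc _ z z, mul_self_of_two H.hz, mul_one]
          _ = w * z := by rw [← e]
      have h3 : (w * z) ^ 3 = 1 := by
        rw [← e2, conj_pow, show w ^ 3 = 1 from H.hw ▸ pow_orderOf_eq_one w, mul_one, mul_inv_cancel]
      rw [(H.hzw.symm).mul_pow, show w ^ 3 = 1 from H.hw ▸ pow_orderOf_eq_one w, one_mul, pow_succ, pow_two,
        mul_self_of_two H.hz, one_mul] at h3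
      exact ne_one_of_two H.hz h3
  rcases H.cent_cases (mem_cen.1 c.2) hcw with h | ⟨v, hv, e⟩
  · obtain ⟨k, hk⟩ := Subgroup.mem_zpowers_iff.1 h
    exact ⟨k, by rw [show c = (⟨w, H.w_cen⟩ : cen z) ^ k from Subtype.ext hk.symm, map_zpow]⟩
  · obtain ⟨k, hk⟩ := Subgroup.mem_zpowers_iff.1 hv
    refine ⟨k, ?_⟩
    rw [show c = zin z * (⟨w, H.w_cen⟩ : cen z) ^ k from Subtype.ext (e.trans (by rw [← hk]; rfl)), map_mul,
      show proj z (zin z) = 1 from (proj_one H.hz).2 (Or.inr rfl), one_mul, map_zpow]

variable [Finite G]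

theorem three_le_three (N : Subgroup G) (hN : ¬ 3 ∣ Nat.card N) {g : G} (hg : g ∈ N) (h3 : g ^ 3 = 1) : g = 1 := by
  by_contra h
  haveI : Fact (Nat.Prime 3) := ⟨Nat.prime_three⟩
  exact hN (orderOf_eq_prime h3 h ▸ Subgroup.orderOf_dvd_natCard N hg)

/-- The three shapes. -/
theorem shapes : (∃ N, NilCase z N) ∨ FiveCase z ∨ SevenCase z := by
  set a := proj z ⟨w, H.w_cen⟩ with ha
  have hX : Nat.card (Subgroup.zpowers a) = 3 := by rw [Nat.card_zpowers]; exact H.orderOf_wbar
  have hC : Subgroup.centralizer (Subgroup.zpowers a : Set (cbar z)) = Subgroup.zpowers a := by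
    refine le_antisymm (fun y hy => H.wbar_self y ?_) fun y hy => Subgroup.mem_centralizer_iff.2 fun k hk => ?_
    · exact (Subgroup.mem_centralizer_iff.1 hy a (Subgroup.mem_zpowers a)).symm
    · obtain ⟨i, rfl⟩ := hy; obtain ⟨j, rfl⟩ := hk
      exact (Commute.zpow_zpow (Commute.refl a) j i).eq
  rcases Cfsg.Agent.S3331.result (Subgroup.zpowers a) hX hC with ⟨N, hN, hnil, hcop, hq⟩ | h | h
  · left
    set M := N.comap (proj z) with hM
    have hzM : zin z ∈ M := by
      show proj z (zin z) ∈ N
      rw [(proj_one H.hz).2 (Or.inr rfl)]; exact one_mem N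
    refine ⟨M.map (cen z).subtype, Subgroup.map_subtype_le M, ⟨_, hzM, rfl⟩, ?_, ?_, ?_, ?_⟩
    · rintro c hc _ ⟨n, hn, rfl⟩
      exact ⟨⟨c, hc⟩ * n * ⟨c, hc⟩⁻¹, Subgroup.Normal.conj_mem inferInstance n hn _, rfl⟩
    · let f : M →* N := ((proj z).comp M.subtype).codRestrict N fun m => m.2
      have hMn : Group.IsNilpotent M := by
        haveI := hnil
        refine Subgroup.isNilpotent_of_ker_le_center f (fun m hm => Subgroup.mem_center_iff.2 fun g => ?_)
        have : proj z (m : cen z) = 1 := congrArg Subtype.val (MonoidHom.mem_ker.1 hm)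
        exact Subtype.ext (Subgroup.mem_center_iff.1 (zp_le_center z ((QuotientGroup.eq_one_iff _).1 this)) g)
      haveI := hMn
      exact Group.nilpotent_of_mulEquiv (M.equivMapOfInjective _ (cen z).subtype_injective)
    · rw [Subgroup.card_map_of_injective (cen z).subtype_injective]
      have hidx : M.index = N.index := Subgroup.index_comap_of_surjective _ (QuotientGroup.mk'_surjective _)
      have h1 : Nat.card M = Nat.card N * Nat.card (Subgroup.zpowers (zin z)) := by
        refine Nat.eq_of_mul_eq_mul_right (Nat.pos_of_ne_zero (Subgroup.FiniteIndex.index_ne_zero (H := M))) ?_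
        rw [Subgroup.card_mul_index, Subgroup.card_eq_card_quotient_mul_card_subgroup (Subgroup.zpowers (zin z)),
          hidx, mul_right_comm, Subgroup.card_mul_index]
      rw [h1]
      intro h
      rw [Nat.prime_three.dvd_mul] at h
      rcases h with h | h
      · exact Nat.not_coprime_of_dvd_of_dvd (by norm_num : 1 < 3) h dvd_rfl hcop
      · rw [Nat.card_zpowers, Subgroup.orderOf_mk, H.hz] at h
        norm_num at h
    · have e : (M.map (cen z).subtype).relIndex (cen z) = N.index := by
        rw [Subgroup.relIndex, ← Subgroup.comap_subtype, Subgroup.comap_map_eq_self_of_injective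
          (cen z).subtype_injective, hM, Subgroup.index_comap_of_surjective _ (QuotientGroup.mk'_surjective _)]
      rw [e, Subgroup.index_eq_card]
      rcases hq with h | ⟨⟨e⟩⟩
      · exact Or.inl h
      · right
        rw [Nat.card_congr e.toEquiv, Nat.card_perm, Nat.card_fin]
        rfl
  · exact Or.inr (Or.inl h)
  · exact Or.inr (Or.inr h)

end Hyp

end CfsgLib.SelfSix
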