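import Cfsg.Agent.Lib.SelfSix.Para

/-!
`T` is not a Sylow subgroup when its centre is `⟨z⟩` and it has a second involution.
-/

set_option autoImplicit false
set_option linter.unusedSectionVars false
set_option linter.style.haveILetI false

namespace CfsgLib.SelfSix

open Cfsg

universe u

variable {G : Type u} [Group G] [Finite G] {z w : G} {T D : Subgroup G}

theorem perm_four_core : ∀ x : Equiv.Perm (Fin 4),
    (∀ σ, (x * (σ * x * σ⁻¹)) * (x * (σ * x * σ⁻¹)) * ((x * (σ * x * σ⁻¹)) * (x * (σ * x * σ⁻¹))) = 1) →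
      x * x = 1 := by
  decide +kernel

theorem mult_two : Multiplicative.ofAdd (1 : ZMod 2) ≠ 1 ∧
    Multiplicative.ofAdd (1 : ZMod 2) * Multiplicative.ofAdd (1 : ZMod 2) = 1 := by decide

theorem perm_four_ord : ∀ y : Equiv.Perm (Fin 4), y ^ 8 = 1 → y * y * (y * y) = 1 := by
  decide +kernel

/-- The 2-core of `S₄` has exponent two. -/
theorem perm_four_pcore {x : Equiv.Perm (Fin 4)} (hx : x ∈ pCore 2 (Equiv.Perm (Fin 4))) : x * x = 1 := by
  haveI : Fact (Nat.Prime 2) := ⟨Nat.prime_two⟩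
  refine perm_four_core x fun σ => ?_
  have hy := mul_mem hx ((inferInstance : (pCore 2 (Equiv.Perm (Fin 4))).Normal).conj_mem x hx σ)
  generalize x * (σ * x * σ⁻¹) = y at hy
  obtain ⟨k, hk⟩ := CfsgLib.isPGroup_pCore 2 ⟨y, hy⟩
  refine perm_four_ord y (orderOf_dvd_iff_pow_eq_one.1 ?_)
  obtain ⟨j, -, hj⟩ := (Nat.dvd_prime_pow Nat.prime_two).1 (orderOf_dvd_of_pow_eq_one (congrArg Subtype.val hk : y ^ 2 ^ k = 1))
  have h24 : orderOf y ∣ 24 := by
    have hc : Nat.card (Equiv.Perm (Fin 4)) = 24 := by rw [Nat.card_perm, Nat.card_fin]; rfl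
    exact hc ▸ orderOf_dvd_natCard y
  have : j ≤ 3 := by
    by_contra h
    have h16 := (pow_dvd_pow 2 (show 4 ≤ j by omega)).trans (hj ▸ h24)
    norm_num at h16
  rw [hj, show (8 : ℕ) = 2 ^ 3 from rfl]
  exact pow_dvd_pow 2 this

section quotient

variable {P K H M : Subgroup G} [(M.subgroupOf H).Normal]

/-- The image of a subgroup in the quotient. -/
abbrev im (H M : Subgroup G) [(M.subgroupOf H).Normal] (L : Subgroup G) : Subgroup (H ⧸ M.subgroupOf H) :=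
  (L.subgroupOf H).map (QuotientGroup.mk' _)

theorem mem_im {L : Subgroup G} {x : H ⧸ M.subgroupOf H} :
    x ∈ im H M L ↔ ∃ l : H, (l : G) ∈ L ∧ QuotientGroup.mk' _ l = x :=
  ⟨fun ⟨l, hl, e⟩ => ⟨l, hl, e⟩, fun ⟨l, hl, e⟩ => ⟨l, hl, e⟩⟩

theorem of_mem_im {L : Subgroup G} (hML : M ≤ L) {l : H} (h : QuotientGroup.mk' _ l ∈ im H M L) : (l : G) ∈ L := by
  obtain ⟨l', hl', e⟩ := mem_im.1 h
  have h3 : l'⁻¹ * l ∈ M.subgroupOf H := QuotientGroup.eq.1 e
  have h2 : (l' : G)⁻¹ * l ∈ M := h3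
  simpa using L.mul_mem hl' (hML h2)

variable (hP : Para P K T) (S : Sylow 2 G) (hS : (S : Subgroup G) = T) (hPH : P ≤ H) (hMK : M ≤ K) (hne : M ≠ K)
include hP hS hPH hMK hne

theorem Para.quot :
    Side (im H M P) (im H M T) ∧ pCoreOf 2 (im H M P) = im H M K ∧
      ∃ e : H ⧸ M.subgroupOf H, e ∈ im H M P ∧ ∀ k ∈ im H M K, Commute k e → k = 1 := by
  classical
  haveI : Fact (Nat.Prime 2) := ⟨Nat.prime_two⟩
  haveI : Fact (Nat.Prime 3) := ⟨Nat.prime_three⟩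
  set π := QuotientGroup.mk' (M.subgroupOf H)
  have hπ : ∀ {l : H}, π l = 1 ↔ (l : G) ∈ M := fun {l} => QuotientGroup.eq_one_iff l
  have hT2 : IsPGroup 2 T := hS ▸ S.2
  have hK2 : IsPGroup 2 K := hT2.to_le hP.hKT
  haveI hKn : (K.subgroupOf P).Normal := ⟨fun k hk p => hP.norm p p.2 k hk⟩
  have hcardP : Nat.card P = 6 * Nat.card K := by
    rw [← Subgroup.card_mul_index (K.subgroupOf P), hP.idx,
      Nat.card_congr (Subgroup.subgroupOfEquivOfLe (hP.hKT.trans hP.hTP)).toEquiv, mul_comm]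
  obtain ⟨e, he⟩ := exists_prime_orderOf_dvd_card' (G := P) 3 (by rw [hcardP]; exact Dvd.dvd.mul_right (by norm_num) _)
  have he3 : (e : G) ^ 3 = 1 := by rw [← he, ← Subgroup.orderOf_coe, pow_orderOf_eq_one]
  have hMn : ∀ h ∈ H, ∀ m ∈ M, m ∈ H → h * m * h⁻¹ ∈ M := fun h hh m hm hmH =>
    (inferInstance : (M.subgroupOf H).Normal).conj_mem ⟨m, hmH⟩ hm ⟨h, hh⟩
  have hMH : M ≤ H := hMK.trans (hP.hKT.trans (hP.hTP.trans hPH))
  have hfix : ∀ g : G, (hg : g ∈ P) → g ^ 3 = 1 → g ≠ 1 → ∀ k : G, (hk : k ∈ K) →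
      Commute (π ⟨k, hPH (hP.hTP (hP.hKT hk))⟩) (π ⟨g, hPH hg⟩) → k ∈ M := by
    intro g hg hg3 hg1 k hk hc
    set kH : H := ⟨k, hPH (hP.hTP (hP.hKT hk))⟩
    set gH : H := ⟨g, hPH hg⟩
    have h1 : k⁻¹ * g * k * g⁻¹ ∈ M := hπ.1 (show π (kH⁻¹ * gH * kH * gH⁻¹) = 1 by
      rw [map_mul, map_mul, map_mul, map_inv, map_inv, mul_assoc (π kH)⁻¹, ← hc.eq, inv_mul_cancel_left, mul_inv_cancel])
    have hstab : ∀ n : M, k⁻¹ * g * k * n * g⁻¹ ∈ M := fun n => by
      rw [show k⁻¹ * g * k * n * g⁻¹ = (k⁻¹ * g * k * g⁻¹) * (g * n * g⁻¹) by group]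
      exact mul_mem h1 (hMn g (hPH hg) n n.2 (hMH n.2))
    have h3M : ¬ 3 ∣ Nat.card M := by
      intro h
      obtain ⟨m, hm⟩ := IsPGroup.exists_card_eq (hK2.to_le hMK)
      rw [hm] at h
      exact absurd (Nat.prime_three.dvd_of_dvd_pow h) (by norm_num)
    obtain ⟨n, hn⟩ := CfsgLib.FpfSymThree.exists_fixed_three (fun n : M => (⟨_, hstab n⟩ : M)) (fun n => Subtype.ext (by
      show k⁻¹ * g * k * (k⁻¹ * g * k * (k⁻¹ * g * k * n * g⁻¹) * g⁻¹) * g⁻¹ = n
      calc _ = k⁻¹ * (g * g * g) * (k * n) * (g * g * g)⁻¹ := by group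
        _ = n := by rw [← pow_three' g, hg3]; group)) h3M
    have hf : g * (k * n) * g⁻¹ = k * n := by
      have h := congrArg Subtype.val hn
      simp only at h
      calc g * (k * n) * g⁻¹ = k * (k⁻¹ * g * k * n * g⁻¹) := by group
        _ = k * n := by rw [h]
    have h0 := hP.fpf g hg hg3 hg1 (k * n) (mul_mem hk (hMK n.2)) (mul_inv_eq_iff_eq_mul.1 hf).symm
    rw [eq_inv_of_mul_eq_one_left h0]
    exact inv_mem n.2
  have he1 : (e : G) ≠ 1 := fun h => by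
    rw [show e = 1 from Subtype.ext h, orderOf_one] at he
    omega
  have hfpf : ∀ k ∈ im H M K, Commute k (π ⟨e, hPH e.2⟩) → k = 1 := by
    intro k hk hc
    obtain ⟨l, hl, rfl⟩ := mem_im.1 hk
    exact hπ.2 (hfix e e.2 he3 he1 l hl hc)
  have hKP : im H M K ≤ im H M P := Subgroup.map_mono (Subgroup.comap_mono (hP.hKT.trans hP.hTP))
  haveI hKbn : ((im H M K).subgroupOf (im H M P)).Normal := ⟨by
    rintro ⟨k, hkP⟩ hk ⟨p, hp⟩
    obtain ⟨l, hl, rfl⟩ := mem_im.1 (show k ∈ im H M K from hk)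
    obtain ⟨r, hr, rfl⟩ := mem_im.1 hp
    exact mem_im.2 ⟨r * l * r⁻¹, hP.norm r hr l hl, by rw [map_mul, map_mul, map_inv]; rfl⟩⟩
  let f : P →* im H M P := (π.comp (Subgroup.inclusion hPH)).codRestrict _ fun p => mem_im.2 ⟨_, p.2, rfl⟩
  have hf : Function.Surjective f := by
    rintro ⟨x, hx⟩
    obtain ⟨l, hl, rfl⟩ := mem_im.1 hx
    exact ⟨⟨l, hl⟩, rfl⟩
  have hmapK : (K.subgroupOf P).map f = (im H M K).subgroupOf (im H M P) := by
    ext ⟨x, hx⟩
    constructor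
    · rintro ⟨k, hk, e⟩
      exact mem_im.2 ⟨⟨(k : G), hPH k.2⟩, Subgroup.mem_subgroupOf.1 hk, congrArg Subtype.val e⟩
    · intro h
      obtain ⟨l, hl, e⟩ := mem_im.1 (show x ∈ im H M K from h)
      exact ⟨⟨l, hP.hTP (hP.hKT hl)⟩, hl, Subtype.ext e⟩
  have hker : f.ker ≤ K.subgroupOf P := fun p hp => hMK (hπ.1 (congrArg Subtype.val (MonoidHom.mem_ker.1 hp)))
  have hidx : ((im H M K).subgroupOf (im H M P)).index = 6 := by
    rw [← hmapK, Subgroup.index_map_eq _ hf hker, hP.idx]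
  obtain ⟨d, hd, t, ht, hd3, hdK, htd⟩ := hP.gens
  obtain ⟨hcore, hquot⟩ := core_of_index_six ((im H M K).subgroupOf (im H M P))
    (((hK2.of_equiv (Subgroup.subgroupOfEquivOfLe (hP.hKT.trans (hP.hTP.trans hPH))).symm).map π).of_equiv
      (Subgroup.subgroupOfEquivOfLe hKP).symm) hidx (d := f ⟨d, hd⟩) (t := f ⟨t, ht⟩)
    (by rw [← map_pow, ← hmapK]; exact ⟨_, hd3, rfl⟩)
    (fun h => hdK (of_mem_im (l := ⟨d, hPH hd⟩) hMK h))
    (by rw [← map_inv, ← map_mul, ← map_mul, ← map_mul, ← hmapK]; exact ⟨_, htd, rfl⟩)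
  have hO : pCoreOf 2 (im H M P) = im H M K := by
    rw [pCoreOf, hcore, Subgroup.subgroupOf_map_subtype, inf_eq_left.mpr hKP]
  obtain ⟨-, hcoreP⟩ : True ∧ pCore 2 P = K.subgroupOf P :=
    ⟨trivial, (core_of_index_six (K.subgroupOf P)
      (hK2.of_equiv (Subgroup.subgroupOfEquivOfLe (hP.hKT.trans hP.hTP)).symm) hP.idx
      (d := ⟨d, hd⟩) (t := ⟨t, ht⟩) hd3 hdK htd).1⟩
  refine ⟨⟨Subgroup.map_mono (Subgroup.comap_mono hP.hTP),
    (hT2.of_equiv (Subgroup.subgroupOfEquivOfLe (hP.hTP.trans hPH)).symm).map π, ?_, ?_, hquot, ?_⟩, hO,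
    π ⟨e, hPH e.2⟩, mem_im.2 ⟨⟨(e : G), hPH e.2⟩, e.2, rfl⟩, hfpf⟩
  · intro Q hQ hQP hTQ
    refine le_antisymm (fun x hx => ?_) hTQ
    obtain ⟨l, -, rfl⟩ := mem_im.1 (hQP hx)
    set Q' := (Q.comap π).map H.subtype
    have hQ' : IsPGroup 2 Q' := (hQ.comap_of_ker_isPGroup π (by
      rw [QuotientGroup.ker_mk']
      exact (hK2.to_le hMK).of_equiv (Subgroup.subgroupOfEquivOfLe hMH).symm)).map _
    have hTQ' : (S : Subgroup G) ≤ Q' := fun y hy => by
      rw [hS] at hy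
      exact ⟨⟨y, hPH (hP.hTP hy)⟩, hTQ (mem_im.2 ⟨_, hy, rfl⟩), rfl⟩
    have hlT : (l : G) ∈ T := hS ▸ S.3 hQ' hTQ' ▸ ⟨l, hx, rfl⟩
    exact mem_im.2 ⟨l, hlT, rfl⟩
  · intro p hp hcp
    obtain ⟨l, hl, rfl⟩ := mem_im.1 hp
    rw [hO] at hcp ⊢
    let C : Subgroup P :=
      { carrier := {x | ∀ k ∈ im H M K, Commute (π ⟨x, hPH x.2⟩) k}
        one_mem' := fun k _ => by
          rw [show (⟨((1 : P) : G), hPH (1 : P).2⟩ : H) = 1 from rfl, map_one]; exact Commute.one_left k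
        mul_mem' := fun {x y} hx hy k hk => by
          rw [show (⟨((x * y : P) : G), hPH (x * y).2⟩ : H) = ⟨x, hPH x.2⟩ * ⟨y, hPH y.2⟩ from rfl, map_mul]
          exact (hx k hk).mul_left (hy k hk)
        inv_mem' := fun {x} hx k hk => by
          rw [show (⟨((x⁻¹ : P) : G), hPH (x⁻¹).2⟩ : H) = ⟨x, hPH x.2⟩⁻¹ from rfl, map_inv]
          exact (hx k hk).inv_left }
    haveI : C.Normal := ⟨fun c hc p k hk => by
      rw [show (⟨((p * c * p⁻¹ : P) : G), hPH (p * c * p⁻¹).2⟩ : H) = ⟨p, hPH p.2⟩ * ⟨c, hPH c.2⟩ * ⟨p, hPH p.2⟩⁻¹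
        from rfl, map_mul, map_mul, map_inv]
      obtain ⟨l', hl', rfl⟩ := mem_im.1 hk
      have hk' : (π ⟨p, hPH p.2⟩)⁻¹ * π l' * π ⟨p, hPH p.2⟩ ∈ im H M K := mem_im.2
        ⟨⟨p, hPH p.2⟩⁻¹ * l' * ⟨p, hPH p.2⟩, by
          have := hP.norm _ (inv_mem p.2) l' hl'
          rwa [inv_inv] at this, by rw [map_mul, map_mul, map_inv]⟩
      have h := commute_conj (π ⟨p, hPH p.2⟩) (hc _ hk')
      rwa [show π ⟨p, hPH p.2⟩ * ((π ⟨p, hPH p.2⟩)⁻¹ * π l' * π ⟨p, hPH p.2⟩) * (π ⟨p, hPH p.2⟩)⁻¹ = π l' by group] at h⟩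
    by_cases h3 : 3 ∣ Nat.card C
    · exfalso
      obtain ⟨c, hc⟩ := exists_prime_orderOf_dvd_card' (G := C) 3 h3
      have hco : orderOf ((c : P) : G) = 3 := by rw [Subgroup.orderOf_coe, Subgroup.orderOf_coe, hc]
      refine hne (le_antisymm hMK fun k hk => hfix _ (c : P).2 (hco ▸ pow_orderOf_eq_one _) (fun e => ?_) k hk ?_)
      · rw [e, orderOf_one] at hco; omega
      · exact (c.2 _ (mem_im.2 ⟨⟨k, hPH (hP.hTP (hP.hKT hk))⟩, hk, rfl⟩)).symm
    · have hC2 : IsPGroup 2 C := by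
        obtain ⟨m, hm⟩ := IsPGroup.exists_card_eq hK2
        have hd : Nat.card C ∣ 3 * 2 ^ (m + 1) := by
          refine (Subgroup.card_subgroup_dvd_card C).trans ?_
          rw [hcardP, hm, pow_succ, show 3 * (2 ^ m * 2) = 6 * 2 ^ m by ring]
        have := ((Nat.Prime.coprime_iff_not_dvd Nat.prime_three).2 h3).symm.dvd_of_dvd_mul_left hd
        obtain ⟨j, -, hj⟩ := (Nat.dvd_prime_pow Nat.prime_two).1 this
        exact IsPGroup.of_card hj
      have hlC : (⟨l, hl⟩ : P) ∈ C := fun k hk => hcp k hk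
      have := CfsgLib.le_pCore hC2 hlC
      rw [hcoreP] at this
      exact mem_im.2 ⟨l, this, rfl⟩
  · obtain ⟨v, hv, hv2, hvT⟩ := meets_center (S := im H M T) (M := im H M K)
      ((hT2.of_equiv (Subgroup.subgroupOfEquivOfLe (hP.hTP.trans hPH)).symm).map π)
      (Subgroup.map_mono (Subgroup.comap_mono hP.hKT))
      (by
        intro s hs k hk
        obtain ⟨s', hs', rfl⟩ := mem_im.1 hs
        obtain ⟨k', hk', rfl⟩ := mem_im.1 hk
        exact mem_im.2 ⟨s' * k' * s'⁻¹, hP.norm _ (hP.hTP hs') _ hk', by rw [map_mul, map_mul, map_inv]⟩)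
      (fun h => hne (le_antisymm hMK fun k hk => hπ.1 (Subgroup.mem_bot.1
        (h ▸ mem_im.2 ⟨⟨k, hPH (hP.hTP (hP.hKT hk))⟩, hk, rfl⟩))))
    exact ⟨v, Subgroup.map_mono (Subgroup.comap_mono hP.hKT) hv, mul_self_of_two hv2, hvT, _,
      mem_im.2 ⟨⟨(e : G), hPH e.2⟩, e.2, rfl⟩, fun h => ne_one_of_two hv2 (hfpf v hv h.symm)⟩

end quotient

namespace Nil

variable (N : Nil G z w T D)
include N

theorem sylow_T_false (hD : D = ⊥) (S : Sylow 2 G) (hS : (S : Subgroup G) = T)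
    (htop : ∀ g ∈ cen z, ∃ x ∈ T, ∃ d ∈ D, ∃ i : ℕ, g = x * d * w ^ i)
    (hZ : ∀ y ∈ T, (∀ t ∈ T, Commute y t) → y = 1 ∨ y = z)
    {a : G} (ha : Mid z T a) (haa : a * a = 1) (ha1 : a ≠ 1) (haz : a ≠ z) : False := by
  classical
  haveI : Fact (Nat.Prime 2) := ⟨Nat.prime_two⟩
  have H := N.base
  set b := w * a * w⁻¹ with hbdef
  have hb : Mid z T b := N.mid_w ha
  have hbb : b * b = 1 := by rw [hbdef, conj_mul, haa, mul_one, mul_inv_cancel]
  have hb1 : b ≠ 1 := fun e => ha1 (conj_eq_one_iff.1 e)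
  have hbz : b ≠ z := fun e => haz (by
    rw [show a = w⁻¹ * b * w by rw [hbdef]; group, e, H.hzw.symm.inv_left.eq, inv_mul_cancel_right])
  obtain ⟨Pa, hA⟩ := N.exists_para hD S hS htop hZ ha haa ha1 haz
  obtain ⟨Pb, hB⟩ := N.exists_para hD S hS htop hZ hb hbb hb1 hbz
  set Ka := T ⊓ cen a
  set Kb := T ⊓ cen b
  have hmemA : ∀ {t : G}, t ∈ T → (t ∈ Ka ↔ Commute t a) := fun {t} ht =>
    ⟨fun h => mem_cen.1 h.2, fun h => ⟨ht, mem_cen.2 h⟩⟩
  have hmemB : ∀ {t : G}, t ∈ T → (t ∈ Kb ↔ Commute t b) := fun {t} ht =>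
    ⟨fun h => mem_cen.1 h.2, fun h => ⟨ht, mem_cen.2 h⟩⟩
  have hab : ∀ t ∈ T, ¬ Commute t a → ¬ Commute t b → t * (a * b) * t⁻¹ = a * b := by
    intro t ht h1 h2
    rw [← conj_mul, N.mid_move ha ht h1, N.mid_move hb ht h2, mul_assoc a, ← mul_assoc z, ← (N.z_comm hb.1).eq,
      mul_assoc b, mul_self_of_two H.hz, mul_one]
  have hKne : Ka ≠ Kb := by
    intro e
    have hc : ∀ t ∈ T, Commute (a * b) t := by
      intro t ht
      by_cases h : Commute t a
      · have : Commute t b := (hmemB ht).1 (e ▸ (hmemA ht).2 h)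
        exact (h.mul_right this).symm
      · have h2 : ¬ Commute t b := fun h' => h ((hmemA ht).1 (e ▸ (hmemB ht).2 h'))
        exact (mul_inv_eq_iff_eq_mul.1 (hab t ht h h2)).symm
    have he : b = a * (a * b) := by rw [← mul_assoc, haa, one_mul]
    rcases N.w_fix ha.1 ((hZ _ (mul_mem ha.1 hb.1) hc).imp
      (fun e => by show b = a; rw [he, e, mul_one]) fun e => by show b = a * z; rw [he, e]) with e | e
    · exact ha1 e
    · exact haz e
  -- cardinalities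
  have hcard : ∀ {P K : Subgroup G}, Para P K T → (∃ t ∈ T, t ∉ K) →
      Nat.card T = 2 * Nat.card K ∧ Nat.card P = 3 * Nat.card T ∧ pCore 2 P = K.subgroupOf P := by
    rintro P K hP ⟨t, ht, htK⟩
    obtain ⟨d, hd, t', ht', hd3, hdK, htd⟩ := hP.gens
    haveI : (K.subgroupOf P).Normal := ⟨fun k hk p => hP.norm p p.2 k hk⟩
    have hcP : Nat.card P = 6 * Nat.card K := by
      rw [← Subgroup.card_mul_index (K.subgroupOf P), hP.idx,
        Nat.card_congr (Subgroup.subgroupOfEquivOfLe (hP.hKT.trans hP.hTP)).toEquiv, mul_comm]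
    obtain ⟨n, hn⟩ := IsPGroup.exists_card_eq N.hT
    obtain ⟨m, hm⟩ := IsPGroup.exists_card_eq (N.hT.to_le hP.hKT)
    have hlt : Nat.card K < Nat.card T := by
      refine lt_of_le_of_ne (Subgroup.card_le_of_le hP.hKT) fun e => htK ?_
      rw [Subgroup.eq_of_le_of_card_ge hP.hKT e.ge]; exact ht
    rw [hn, hm] at hlt
    have hmn := (Nat.pow_lt_pow_iff_right (by norm_num : 1 < 2)).1 hlt
    have hd6 := Subgroup.card_dvd_of_le hP.hTP
    rw [hcP, hn, hm, show 6 * 2 ^ m = 3 * 2 ^ (m + 1) by ring] at hd6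
    have := ((Nat.Coprime.pow_left n (by norm_num : Nat.Coprime 2 3))).dvd_of_dvd_mul_left hd6
    have hnm : n = m + 1 := by
      have := (Nat.pow_dvd_pow_iff_le_right (by norm_num : 1 < 2)).1 this
      omega
    refine ⟨by rw [hn, hm, hnm, pow_succ, mul_comm], by rw [hcP, hn, hm, hnm, pow_succ]; ring, ?_⟩
    exact (core_of_index_six (K.subgroupOf P)
      ((N.hT.to_le hP.hKT).of_equiv (Subgroup.subgroupOfEquivOfLe (hP.hKT.trans hP.hTP)).symm) hP.idx
      (d := ⟨d, hd⟩) (t := ⟨t', ht'⟩) hd3 hdK htd).1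
  obtain ⟨cTa, cPa, coreA⟩ := hcard hA (by
    by_contra h; push Not at h
    exact (hZ a ha.1 fun t ht => ((hmemA ht).1 (h t ht)).symm).elim ha1 haz)
  obtain ⟨cTb, cPb, coreB⟩ := hcard hB (by
    by_contra h; push Not at h
    exact (hZ b hb.1 fun t ht => ((hmemB ht).1 (h t ht)).symm).elim hb1 hbz)
  have hPne : Pa ≠ Pb := by
    rintro rfl
    refine hKne ?_
    have e := congrArg (Subgroup.map Pa.subtype) (coreA.symm.trans coreB)
    rwa [Subgroup.subgroupOf_map_subtype, Subgroup.subgroupOf_map_subtype,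
      inf_eq_left.mpr (hA.hKT.trans hA.hTP), inf_eq_left.mpr (hB.hKT.trans hB.hTP)] at e
  have hinf : T = Pa ⊓ Pb := by
    have h1 : T ≤ Pa ⊓ Pb := le_inf hA.hTP hB.hTP
    obtain ⟨m, hm⟩ := Subgroup.card_dvd_of_le h1
    have h2 := Subgroup.card_dvd_of_le (inf_le_left : Pa ⊓ Pb ≤ Pa)
    rw [hm, cPa, mul_comm 3] at h2
    rcases (Nat.dvd_prime Nat.prime_three).1 (Nat.dvd_of_mul_dvd_mul_left Nat.card_pos h2) with e | e
    · exact Subgroup.eq_of_le_of_card_ge h1 (by rw [hm, e, mul_one])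
    · exfalso
      have h3 : Pa ⊓ Pb = Pa := Subgroup.eq_of_le_of_card_ge inf_le_left (by rw [hm, e, cPa, mul_comm])
      exact hPne (Subgroup.eq_of_le_of_card_ge (inf_eq_left.1 h3) (by rw [cPa, cPb]))
  -- the largest normal subgroup in `T`
  set X := Pa ⊔ Pb with hX
  let M : Subgroup G :=
    { carrier := {x | ∀ h ∈ X, h * x * h⁻¹ ∈ T}
      one_mem' := fun h _ => by simp [one_mem]
      mul_mem' := fun {x y} hx hy h hh => by rw [← conj_mul]; exact mul_mem (hx h hh) (hy h hh)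
      inv_mem' := fun {x} hx h hh => by rw [← conj_inv]; exact inv_mem (hx h hh) }
  have hMT : M ≤ T := fun x hx => by simpa using hx 1 (one_mem X)
  have hMn : ∀ h ∈ X, ∀ x ∈ M, h * x * h⁻¹ ∈ M := fun h hh x hx k hk => by
    rw [show k * (h * x * h⁻¹) * k⁻¹ = (k * h) * x * (k * h)⁻¹ by group]
    exact hx _ (mul_mem hk hh)
  have hMK : ∀ {P K : Subgroup G}, Para P K T → P ≤ X → pCore 2 P = K.subgroupOf P → M ≤ K := by
    intro P K hP hPX hc x hx
    haveI : (M.subgroupOf P).Normal := ⟨fun m hm p => hMn p (hPX p.2) m hm⟩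
    have := CfsgLib.le_pCore ((N.hT.to_le hMT).of_equiv (Subgroup.subgroupOfEquivOfLe (hMT.trans hP.hTP)).symm)
      (show (⟨x, hP.hTP (hMT hx)⟩ : P) ∈ M.subgroupOf P from hx)
    rw [hc] at this
    exact this
  have hMa := hMK hA le_sup_left coreA
  have hMb := hMK hB le_sup_right coreB
  have hneA : M ≠ Ka := fun e => hKne (Subgroup.eq_of_le_of_card_ge (e ▸ hMb) (by omega))
  have hneB : M ≠ Kb := fun e => hKne (Subgroup.eq_of_le_of_card_ge (e ▸ hMa) (by omega)).symm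
  haveI : (M.subgroupOf X).Normal := ⟨fun m hm p => hMn p p.2 m hm⟩
  obtain ⟨sA, oA, eA, heA, fA⟩ := hA.quot (H := X) (M := M) S hS le_sup_left hMa hneA
  obtain ⟨sB, oB, eB, heB, fB⟩ := hB.quot (H := X) (M := M) S hS le_sup_right hMb hneB
  set π := QuotientGroup.mk' (M.subgroupOf X)
  have hMX : M ≤ X := hMT.trans (hA.hTP.trans le_sup_left)
  have hcase := sfour sA sB (by
      refine le_antisymm (le_inf (Subgroup.map_mono (Subgroup.comap_mono hA.hTP))
        (Subgroup.map_mono (Subgroup.comap_mono hB.hTP))) ?_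
      rintro x ⟨hxa, hxb⟩
      obtain ⟨l, hl, rfl⟩ := mem_im.1 hxa
      refine mem_im.2 ⟨l, ?_, rfl⟩
      rw [hinf]
      exact ⟨hl, of_mem_im (hMb.trans (hB.hKT.trans hB.hTP)) hxb⟩)
    (fun L hL h1 h2 => by
      refine (Subgroup.eq_bot_iff_forall L).2 fun x hx => ?_
      obtain ⟨l, hl, rfl⟩ := mem_im.1 (hL hx)
      refine (QuotientGroup.eq_one_iff l).2 (show (l : G) ∈ M from ?_)
      set L' := L.comap π
      have hn : ∀ p : X, ∀ m ∈ L', p * m * p⁻¹ ∈ L' := by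
        intro p m hm
        have hle : (⊤ : Subgroup X) ≤ Subgroup.normalizer (L' : Set X) := by
          have htop : (Pa.subgroupOf X) ⊔ (Pb.subgroupOf X) = ⊤ := by
            apply Subgroup.map_injective X.subtype_injective
            rw [Subgroup.map_sup, Subgroup.subgroupOf_map_subtype, Subgroup.subgroupOf_map_subtype,
              inf_eq_left.mpr le_sup_left, inf_eq_left.mpr le_sup_right, ← MonoidHom.range_eq_map,
              Subgroup.range_subtype]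
          rw [← htop]
          refine sup_le (fun q hq => Subgroup.mem_normalizer_fintype fun n hn => ?_)
            (fun q hq => Subgroup.mem_normalizer_fintype fun n hn => ?_)
          · show π (q * n * q⁻¹) ∈ L
            rw [map_mul, map_mul, map_inv]
            exact h1 _ (mem_im.2 ⟨q, hq, rfl⟩) _ hn
          · show π (q * n * q⁻¹) ∈ L
            rw [map_mul, map_mul, map_inv]
            exact h2 _ (mem_im.2 ⟨q, hq, rfl⟩) _ hn
        exact (Subgroup.mem_normalizer_iff.1 (hle (Subgroup.mem_top p)) m).1 hm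
      intro h hh
      exact of_mem_im hMT (hL (show π (⟨h, hh⟩ * l * ⟨h, hh⟩⁻¹) ∈ L from hn ⟨h, hh⟩ l hx)))
  rcases hcase with ⟨⟨iA⟩, ⟨iB⟩⟩ | ⟨⟨iA⟩, -⟩
  swap
  · -- a central involution in a group with a fixed point free element on its core
    set c := iA.symm (Multiplicative.ofAdd (1 : ZMod 2), 1)
    have hcc : ∀ p : im X M Pa, Commute c p := fun p => by
      refine iA.injective ?_
      rw [map_mul, map_mul, iA.apply_symm_apply]
      refine Prod.ext ?_ ?_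
      · exact mul_comm _ _
      · simp
    have hc1 : c ≠ 1 := fun e => by
      have h := congrArg (fun p => (iA p).1) e
      simp only [c, iA.apply_symm_apply, map_one, Prod.fst_one] at h
      exact mult_two.1 h
    have hc2 : c * c = 1 := iA.injective (by
      rw [map_mul, iA.apply_symm_apply, map_one iA]
      exact Prod.ext mult_two.2 (mul_one 1))
    haveI : (Subgroup.zpowers c).Normal := ⟨fun n hn g => by
      obtain ⟨i, rfl⟩ := Subgroup.mem_zpowers_iff.1 hn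
      rw [(((hcc g).symm).zpow_right i).eq, mul_inv_cancel_right]
      exact ⟨i, rfl⟩⟩
    have hm := CfsgLib.le_pCore (isPGroup_zp (orderOf_two hc2 hc1)) (Subgroup.mem_zpowers c)
    have hm' : (c : X ⧸ M.subgroupOf X) ∈ im X M Ka := oA ▸ ⟨c, hm, rfl⟩
    exact hc1 (Subtype.ext (fA _ hm' (congrArg Subtype.val (hcc ⟨eA, heA⟩) :)))
  -- the quotient of `T` has exponent two
  have hcoreexp : ∀ {P K : Subgroup G}, pCoreOf 2 (im X M P) = im X M K → (im X M P ≃* Equiv.Perm (Fin 4)) →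
      K ≤ X → ∀ g ∈ K, g * g ∈ M := by
    intro P K ho i hKX g hg
    obtain ⟨p, hp, hpe⟩ : π ⟨g, hKX hg⟩ ∈ pCoreOf 2 (im X M P) := ho ▸ mem_im.2 ⟨_, hg, rfl⟩
    have h2 := perm_four_pcore (show i p ∈ pCore 2 (Equiv.Perm (Fin 4)) from CfsgLib.pCore_map_equiv 2 i ▸ ⟨p, hp, rfl⟩)
    rw [← map_mul] at h2
    have h3 : p * p = 1 := i.map_eq_one_iff.1 h2
    refine Subgroup.mem_subgroupOf.1 (show (⟨g, hKX hg⟩ * ⟨g, hKX hg⟩ : X) ∈ M.subgroupOf X from
      (QuotientGroup.eq_one_iff _).1 ?_)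
    show π (⟨g, hKX hg⟩ * ⟨g, hKX hg⟩) = 1
    rw [map_mul, ← hpe]
    exact congrArg Subtype.val h3
  have hexA := hcoreexp oA iA (hA.hKT.trans (hA.hTP.trans le_sup_left))
  have hexB := hcoreexp oB iB (hB.hKT.trans (hB.hTP.trans le_sup_right))
  have hexp : ∀ g ∈ T, g * g ∈ M := by
    intro g hg
    by_cases h1 : Commute g a
    · exact hexA g ((hmemA hg).2 h1)
    by_cases h2 : Commute g b
    · exact hexB g ((hmemB hg).2 h2)
    set c := w * b * w⁻¹ with hcdef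
    have hwc : w * c * w⁻¹ = a := by
      rw [hcdef, hbdef, show w * (w * (w * a * w⁻¹) * w⁻¹) * w⁻¹ = (w * w * w) * a * (w * w * w)⁻¹ by group,
        N.w_three]
      group
    have hgc : Commute g c := by
      have h3 := hab g hg h1 h2
      have he : ∃ ζ, (ζ = 1 ∨ ζ = z) ∧ c = (a * b)⁻¹ * ζ := by
        have ho := N.orbit ha.1
        rw [show w * w * a * (w * w)⁻¹ = c by rw [hcdef, hbdef]; group, ← hbdef] at ho
        exact ⟨a * b * c, ho, by group⟩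
      obtain ⟨ζ, hζ, hce⟩ := he
      rw [hce]
      refine mul_inv_eq_iff_eq_mul.1 ?_
      rw [← conj_mul, ← conj_inv, h3, N.pair_conj hζ hg]
    have hk1 : w * g * w⁻¹ ∈ Ka := (hmemA (N.wT g hg)).2 (hwc ▸ commute_conj w hgc)
    have hk2 : w * w * g * (w * w)⁻¹ ∈ Kb := (hmemB (N.wT2 hg)).2 (by
      have h4 := commute_conj w (hwc ▸ commute_conj w hgc : Commute (w * g * w⁻¹) a)
      rwa [← hbdef, show w * (w * g * w⁻¹) * w⁻¹ = w * w * g * (w * w)⁻¹ by group] at h4)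
    have e1 := hexA _ hk1
    have e2 := hexB _ hk2
    rw [conj_mul] at e1 e2
    by_cases hMbot : M = ⊥
    · have : g * g = 1 := conj_eq_one_iff.1 (Subgroup.mem_bot.1 (hMbot ▸ e1))
      rw [this]
      exact one_mem M
    obtain ⟨v, hvM, hv2, hvT⟩ := meets_center N.hT hMT
      (fun t ht m hm => hMn t (Subgroup.mem_sup_left (hA.hTP ht)) m hm) hMbot
    have hzM : z ∈ M := ((hZ v (hMT hvM) hvT).resolve_left (ne_one_of_two hv2)) ▸ hvM
    have hprod : g * g * (w * (g * g) * w⁻¹) * (w * w * (g * g) * (w * w)⁻¹) ∈ M := by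
      rcases N.orbit (mul_mem hg hg) with e | e <;> rw [e]
      exacts [one_mem M, hzM]
    exact (Subgroup.mul_mem_cancel_right M e1).1 ((Subgroup.mul_mem_cancel_right M e2).1 hprod)
  set r : Equiv.Perm (Fin 4) := Equiv.swap 0 1 * Equiv.swap 1 2 * Equiv.swap 2 3
  have hr : (r * r) * (r * r) = 1 ∧ r * r ≠ 1 := by decide
  set y := iA.symm r with hy
  have hy4 : y ^ 2 ^ 2 = 1 := iA.injective (by
    rw [map_pow, iA.apply_symm_apply, map_one, show 2 ^ 2 = 2 * 2 from rfl, pow_mul, pow_two, pow_two]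
    exact hr.1)
  obtain ⟨Q, hQ⟩ := ((sA.two.of_equiv (Subgroup.subgroupOfEquivOfLe sA.le).symm)).exists_le_sylow
  have hQT : ∀ p : im X M Pa, p ∈ (Q : Subgroup (im X M Pa)) → (p : X ⧸ M.subgroupOf X) ∈ im X M T := by
    have h := sA.max ((Q : Subgroup (im X M Pa)).map (im X M Pa).subtype) (Q.2.map _) (Subgroup.map_subtype_le _)
      (fun p hp => ⟨⟨p, sA.le hp⟩, hQ hp, rfl⟩)
    exact fun p hp => h ▸ ⟨p, hp, rfl⟩
  have hyp : IsPGroup 2 (Subgroup.zpowers y) := fun v => by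
    obtain ⟨j, hj⟩ := Subgroup.mem_zpowers_iff.1 v.2
    refine ⟨2, Subtype.ext ?_⟩
    show ((v : im X M Pa)) ^ 2 ^ 2 = 1
    rw [← hj, ← zpow_natCast, ← zpow_mul, mul_comm, zpow_mul, zpow_natCast, hy4, one_zpow]
  obtain ⟨R, hR⟩ := hyp.exists_le_sylow
  obtain ⟨c, hc⟩ := MulAction.exists_smul_eq (im X M Pa) R Q
  have hyQ : c * y * c⁻¹ ∈ (Q : Subgroup (im X M Pa)) := by
    rw [← hc, Sylow.coe_subgroup_smul, Subgroup.mem_pointwise_smul_iff_inv_smul_mem]
    simpa [MulAut.smul_def, mul_assoc] using hR (Subgroup.mem_zpowers y)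
  obtain ⟨g, hg, hge⟩ := mem_im.1 (hQT _ hyQ)
  have h1 : π (g * g) = 1 := (QuotientGroup.eq_one_iff _).2 (hexp g hg)
  rw [map_mul, hge] at h1
  have h2 : c * y * c⁻¹ * (c * y * c⁻¹) = 1 := Subtype.ext h1
  rw [conj_mul, conj_eq_one_iff] at h2
  refine hr.2 ?_
  have := congrArg iA h2
  rwa [map_mul, iA.apply_symm_apply, map_one] at this

end Nil

end CfsgLib.SelfSix
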